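import Mathlib

set_option autoImplicit false
universe u v w
open Polynomial Matrix

namespace Groth.Agent.Lib.Helper1.SepLocus

section Resultant

variable {K : Type u} [Field K]

/-- separability of a monic polynomial of degree `d` via a resultant of fixed size -/
theorem separable_iff_resultant_ne_zero {P : K[X]} (hP : P.Monic) {d : ℕ} (hd : P.natDegree = d) :
    P.Separable ↔ resultant P (derivative P) d (d - 1) ≠ 0 := by
  have h1 : (derivative P).natDegree ≤ d - 1 := by
    rw [← hd]; exact natDegree_derivative_le P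
  obtain ⟨j, hj⟩ := Nat.exists_eq_add_of_le h1
  have h2 : resultant P (derivative P) d (d - 1) = resultant P (derivative P) := by
    rw [hj, resultant_add_right_deg _ _ _ _ _ le_rfl, ← hd, hP.coeff_natDegree, one_pow, one_mul]
  rw [h2, separable_def, ← isUnit_resultant_iff_isCoprime hP, isUnit_iff_ne_zero]

end Resultant

section Family

variable {K : Type u} [Field K] {d : ℕ}

/-- The pencil `M₀ + T M₁` over `K[T]`. -/
noncomputable def pencil (M₀ M₁ : Matrix (Fin d) (Fin d) K) : Matrix (Fin d) (Fin d) K[X] :=
  M₀.map C + (X : K[X]) • M₁.map C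

theorem pencil_map_eval (M₀ M₁ : Matrix (Fin d) (Fin d) K) (t : K) :
    (pencil M₀ M₁).map (evalRingHom t) = M₀ + t • M₁ := by
  ext i j
  simp only [pencil, Matrix.map_apply, Matrix.add_apply, Matrix.smul_apply, smul_eq_mul,
    coe_evalRingHom, eval_add, eval_C, eval_mul, eval_X]

/-- The "discriminant" of the pencil. -/
noncomputable def pencilDisc (M₀ M₁ : Matrix (Fin d) (Fin d) K) : K[X] :=
  resultant (pencil M₀ M₁).charpoly (derivative (pencil M₀ M₁).charpoly) d (d - 1)

theorem eval_pencilDisc (M₀ M₁ : Matrix (Fin d) (Fin d) K) (t : K) :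
    (pencilDisc M₀ M₁).eval t =
      resultant (M₀ + t • M₁).charpoly (derivative (M₀ + t • M₁).charpoly) d (d - 1) := by
  rw [← pencil_map_eval, Matrix.charpoly_map, derivative_map, resultant_map_map]
  rfl

theorem separable_iff_eval_pencilDisc (M₀ M₁ : Matrix (Fin d) (Fin d) K) (t : K) :
    (M₀ + t • M₁).charpoly.Separable ↔ (pencilDisc M₀ M₁).eval t ≠ 0 := by
  rw [eval_pencilDisc]
  exact separable_iff_resultant_ne_zero (Matrix.charpoly_monic _)
    (by rw [Matrix.charpoly_natDegree_eq_dim, Fintype.card_fin])

/-- If one member of the pencil has separable characteristic polynomial, all but finitely many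
do. -/
theorem finite_not_separable (M₀ M₁ : Matrix (Fin d) (Fin d) K) (t₀ : K)
    (h : (M₀ + t₀ • M₁).charpoly.Separable) :
    {t : K | ¬ (M₀ + t • M₁).charpoly.Separable}.Finite := by
  have hne : pencilDisc M₀ M₁ ≠ 0 := by
    intro h0
    rw [separable_iff_eval_pencilDisc, h0, eval_zero] at h
    exact h rfl
  classical
  refine ((pencilDisc M₀ M₁).roots.toFinset.finite_toSet).subset ?_
  intro t ht
  have ht' : ¬ (M₀ + t • M₁).charpoly.Separable := ht
  rw [separable_iff_eval_pencilDisc, not_not] at ht'
  simp only [Finset.mem_coe, Multiset.mem_toFinset, mem_roots hne, IsRoot.def]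
  exact ht'

end Family

end Groth.Agent.Lib.Helper1.SepLocus
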