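import Groth.Agent.Lib.Helper1.CSA.TensorIdeal
import Mathlib.RingTheory.SimpleRing.Basic
import Mathlib.RingTheory.SimpleRing.Matrix
import Mathlib.RingTheory.SimpleRing.Congr
import Mathlib.RingTheory.SimpleModule.WedderburnArtin
import Mathlib.RingTheory.MatrixAlgebra
import Mathlib.Algebra.Central.Matrix
import Mathlib.RingTheory.Flat.FaithfullyFlat.Basic
import Mathlib.LinearAlgebra.FreeModule.Basic
import Mathlib.LinearAlgebra.Basis.VectorSpace
import Mathlib.LinearAlgebra.FiniteDimensional.Defs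
import Mathlib.LinearAlgebra.FiniteDimensional.Basic
import Mathlib.RingTheory.Artinian.Module

set_option autoImplicit false
universe u v w
open scoped TensorProduct

namespace Groth.Agent.Lib.Helper1

section

variable {k : Type u} [Field k]

theorem nontrivial_tensor (A : Type v) [Ring A] [Algebra k A] [Nontrivial A]
    (B : Type w) [Ring B] [Algebra k B] [Nontrivial B] : Nontrivial (A ⊗[k] B) :=
  Algebra.TensorProduct.nontrivial_of_algebraMap_injective_of_flat_left k A B
    (algebraMap k B).injective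

theorem isSimpleRing_tensor_divisionRing (A : Type v) [Ring A] [Algebra k A] [IsSimpleRing A]
    (D : Type w) [DivisionRing D] [Algebra k D] [Algebra.IsCentral k D] :
    IsSimpleRing (A ⊗[k] D) := by
  have : Nontrivial (A ⊗[k] D) := nontrivial_tensor A D
  apply IsSimpleRing.of_eq_bot_or_eq_top
  intro I
  let J : TwoSidedIdeal A :=
    TwoSidedIdeal.comap (Algebra.TensorProduct.includeLeft : A →ₐ[k] A ⊗[k] D) I
  have hJ : ∀ a : A, a ∈ J ↔ a ⊗ₜ[k] (1 : D) ∈ I := fun a => TwoSidedIdeal.mem_comap _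
  rcases eq_bot_or_eq_top J with h | h
  · left
    rw [eq_tensorGen I, tensorGen]
    rw [eq_bot_iff, TwoSidedIdeal.span_le]
    rintro _ ⟨a, ha, rfl⟩
    have : a ∈ J := (hJ a).mpr ha
    rw [h, TwoSidedIdeal.mem_bot] at this
    subst this
    change (0 : A) ⊗ₜ[k] (1 : D) ∈ (⊥ : TwoSidedIdeal (A ⊗[k] D))
    rw [TensorProduct.zero_tmul]
    exact TwoSidedIdeal.zero_mem _
  · right
    have : (1 : A) ∈ J := by rw [h]; exact TwoSidedIdeal.mem_top _
    have h1 : (1 : A ⊗[k] D) ∈ I := (hJ 1).mp this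
    exact (TwoSidedIdeal.one_mem_iff I).mp h1

/-- If a matrix algebra of positive size over `D` is central over `k`, so is `D`. -/
theorem isCentral_of_isCentral_matrix (D : Type w) [Ring D] [Algebra k D] (n : ℕ) [NeZero n]
    [Algebra.IsCentral k (Matrix (Fin n) (Fin n) D)] : Algebra.IsCentral k D := by
  constructor
  intro d hd
  have h1 : Matrix.scalarAlgHom (Fin n) k d ∈ Subalgebra.center k (Matrix (Fin n) (Fin n) D) := by
    rw [Matrix.subalgebraCenter_eq_scalarAlgHom_map]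
    exact ⟨d, hd, rfl⟩
  have h2 := Algebra.IsCentral.out (K := k) h1
  obtain ⟨r, hr⟩ := Algebra.mem_bot.mp h2
  rw [Algebra.mem_bot]
  refine ⟨r, ?_⟩
  have := congrFun (congrFun hr 0) 0
  simpa [Matrix.algebraMap_matrix_apply] using this

theorem isSimpleRing_tensor_of_isCentral_of_isSimpleRing
    (A : Type v) [Ring A] [Algebra k A] [IsSimpleRing A]
    (A' : Type w) [Ring A'] [Algebra k A'] [Algebra.IsCentral k A'] [IsSimpleRing A']
    [FiniteDimensional k A'] : IsSimpleRing (A ⊗[k] A') := by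
  have : IsArtinianRing A' := IsArtinianRing.of_finite k A'
  obtain ⟨n, hn, D, hD, hDalg, hDfin, ⟨e⟩⟩ :=
    IsSimpleRing.exists_algEquiv_matrix_divisionRing_finite k A'
  have hc : Algebra.IsCentral k (Matrix (Fin n) (Fin n) D) := Algebra.IsCentral.of_algEquiv k _ _ e
  have hcD : Algebra.IsCentral k D := isCentral_of_isCentral_matrix D n
  have hs : IsSimpleRing (A ⊗[k] D) := isSimpleRing_tensor_divisionRing A D
  have hne : Nonempty (Fin n) := ⟨⟨0, Nat.pos_of_ne_zero hn.out⟩⟩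
  have hsm : IsSimpleRing (Matrix (Fin n) (Fin n) (A ⊗[k] D)) := IsSimpleRing.matrix _ _
  let e1 : A ⊗[k] A' ≃ₐ[k] A ⊗[k] Matrix (Fin n) (Fin n) D :=
    Algebra.TensorProduct.congr AlgEquiv.refl e
  let e2 : A ⊗[k] Matrix (Fin n) (Fin n) D ≃ₐ[k] A ⊗[k] (D ⊗[k] Matrix (Fin n) (Fin n) k) :=
    Algebra.TensorProduct.congr AlgEquiv.refl (matrixEquivTensor (Fin n) k D)
  let e3 : (A ⊗[k] D) ⊗[k] Matrix (Fin n) (Fin n) k ≃ₐ[k] A ⊗[k] (D ⊗[k] Matrix (Fin n) (Fin n) k) :=
    Algebra.TensorProduct.assoc k k k A D (Matrix (Fin n) (Fin n) k)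
  let e4 : Matrix (Fin n) (Fin n) (A ⊗[k] D) ≃ₐ[k] (A ⊗[k] D) ⊗[k] Matrix (Fin n) (Fin n) k :=
    matrixEquivTensor (Fin n) k (A ⊗[k] D)
  exact IsSimpleRing.of_ringEquiv
    (e4.trans (e3.trans (e2.symm.trans e1.symm))).toRingEquiv hsm

end

end Groth.Agent.Lib.Helper1
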