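import Mathlib
import Groth.Agent.Lib.Helper1.CSA.SepLocus
import Groth.Agent.Lib.Helper1.CSA.TensorSimple

/-!
# Zariski density of scalar multiples of commutators in a central division algebra

`eq_zero_of_vanishes_on_scalar_commutators`: a polynomial over an algebraically closed field `K ⊇ k`
in the coordinates of a central division `k`-algebra `A` (k infinite) which vanishes at all
`c • ⁅a, b⁆` (`c ∈ kˣ`, `a b ∈ Aˣ`) is zero.

Main steps: `comm_dense` (generic polynomial argument, from `k`-points to `K`-points),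
`exists_diagonalization`, `diagonal_eq_commutator`, `exists_smul_commutator` (regular semisimple
invertible matrices over an algebraically closed field are scalar multiples of commutators),
`polyFun_eq_zero_of_commutators` (pencil argument).
-/

set_option autoImplicit false
universe u v w
open Polynomial Matrix

namespace Groth.Agent.Lib.Helper1.CommDense

section PolyFun
variable {K : Type u} [Field K] {B : Type v} [Ring B] [Algebra K B]
  {ι : Type w} [Fintype ι] [DecidableEq ι] (β : Module.Basis ι K B)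

/-- the polynomial function on `B` defined by `p` in the coordinates `β` -/
noncomputable def polyFun (p : MvPolynomial ι K) (z : B) : K :=
  MvPolynomial.eval (fun i => β.repr z i) p

theorem exists_line_poly (p : MvPolynomial ι K) (z₀ z₁ : B) :
    ∃ r : K[X], ∀ t : K, r.eval t = polyFun β p (z₀ + t • z₁) := by
  refine ⟨MvPolynomial.aeval (fun i => C (β.repr z₀ i) + C (β.repr z₁ i) * X) p, fun t => ?_⟩
  have h : ((Polynomial.evalRingHom t).comp
      (MvPolynomial.aeval (fun i => C (β.repr z₀ i) + C (β.repr z₁ i) * X) :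
        MvPolynomial ι K →ₐ[K] K[X]).toRingHom) =
      MvPolynomial.eval (fun i => β.repr (z₀ + t • z₁) i) := by
    apply MvPolynomial.ringHom_ext
    · intro c
      simp only [AlgHom.toRingHom_eq_coe, RingHom.coe_comp, RingHom.coe_coe, Function.comp_apply,
        MvPolynomial.aeval_C, MvPolynomial.eval_C, coe_evalRingHom, Polynomial.algebraMap_eq,
        eval_C]
    · intro i
      simp only [AlgHom.toRingHom_eq_coe, RingHom.coe_comp, RingHom.coe_coe, Function.comp_apply,
        MvPolynomial.aeval_X, MvPolynomial.eval_X, coe_evalRingHom, eval_add, eval_C, eval_mul,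
        eval_X, map_add, map_smul, Finsupp.coe_add, Finsupp.coe_smul, Pi.add_apply, Pi.smul_apply,
        smul_eq_mul, mul_comm]
  exact congrArg (fun f => f p) h

theorem polyFun_line_of_infinite (p : MvPolynomial ι K) (z₀ z₁ : B)
    (h : {t : K | polyFun β p (z₀ + t • z₁) = 0}.Infinite) (t : K) :
    polyFun β p (z₀ + t • z₁) = 0 := by
  obtain ⟨r, hr⟩ := exists_line_poly β p z₀ z₁
  have hr0 : r = 0 := by
    apply Polynomial.eq_zero_of_infinite_isRoot
    refine h.mono fun s hs => ?_
    change r.IsRoot s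
    rw [Polynomial.IsRoot, hr]; exact hs
  rw [← hr, hr0, eval_zero]

theorem eq_zero_of_polyFun_eq_zero [Infinite K] (p : MvPolynomial ι K)
    (h : ∀ z, polyFun β p z = 0) : p = 0 := by
  apply MvPolynomial.funext
  intro x
  have h1 : (fun i => β.repr (β.equivFun.symm x) i) = x := by
    ext i
    exact congrFun (β.equivFun.apply_symm_apply x) i
  have := h (β.equivFun.symm x)
  rw [polyFun, h1] at this
  rw [map_zero, this]

end PolyFun
section Generic
variable {K : Type u} [Field K] {B : Type v} [Ring B] [Algebra K B]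
  {ι : Type w} [Fintype ι] [DecidableEq ι] (β : Module.Basis ι K B)

theorem repr_eq_leftMulMatrix_mulVec (z : B) :
    (fun i => β.repr z i) = (Algebra.leftMulMatrix β z) *ᵥ (fun i => β.repr 1 i) := by
  have := Algebra.leftMulMatrix_mulVec_repr β z 1
  rw [mul_one] at this
  exact this.symm

theorem isUnit_of_det_leftMulMatrix_ne_zero (z : B)
    (h : (Algebra.leftMulMatrix β z).det ≠ 0) : IsUnit z := by
  have hu : IsUnit (Algebra.leftMulMatrix β z) := by
    rw [Matrix.isUnit_iff_isUnit_det]; exact isUnit_iff_ne_zero.mpr h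
  set w : B := β.equivFun.symm ((Algebra.leftMulMatrix β z)⁻¹ *ᵥ (fun i => β.repr 1 i)) with hw
  have h1 : z * w = 1 := by
    apply β.repr.injective
    apply DFunLike.coe_injective
    have h2 := Algebra.leftMulMatrix_mulVec_repr β z w
    rw [← h2]
    have h3 : (β.repr w : ι → K) = (Algebra.leftMulMatrix β z)⁻¹ *ᵥ (fun i => β.repr 1 i) := by
      rw [hw]
      exact β.equivFun.apply_symm_apply _
    rw [h3, Matrix.mulVec_mulVec, Matrix.mul_nonsing_inv _ ((Matrix.isUnit_iff_isUnit_det _).mp hu),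
      Matrix.one_mulVec]
  have h4 : Algebra.leftMulMatrix β z * Algebra.leftMulMatrix β w = 1 := by
    rw [← map_mul, h1, map_one]
  have h5 : Algebra.leftMulMatrix β w * Algebra.leftMulMatrix β z = 1 :=
    mul_eq_one_comm.mp h4
  have h6 : w * z = 1 := by
    apply Algebra.leftMulMatrix_injective β
    rw [map_mul, h5, map_one]
  exact ⟨⟨z, w, h1, h6⟩, rfl⟩

theorem det_leftMulMatrix_unit_ne_zero (g : Bˣ) : (Algebra.leftMulMatrix β (g : B)).det ≠ 0 := by
  have h : Algebra.leftMulMatrix β (g : B) * Algebra.leftMulMatrix β ((g⁻¹ : Bˣ) : B) = 1 := by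
    rw [← map_mul, Units.mul_inv, map_one]
  intro h0
  have := congrArg Matrix.det h
  rw [Matrix.det_mul, h0, zero_mul, Matrix.det_one] at this
  exact zero_ne_one this

theorem adjugate_leftMulMatrix_unit (g : Bˣ) :
    adjugate (Algebra.leftMulMatrix β (g : B)) =
      (Algebra.leftMulMatrix β (g : B)).det • Algebra.leftMulMatrix β ((g⁻¹ : Bˣ) : B) := by
  have h : Algebra.leftMulMatrix β (g : B) * Algebra.leftMulMatrix β ((g⁻¹ : Bˣ) : B) = 1 := by
    rw [← map_mul, Units.mul_inv, map_one]
  calc adjugate (Algebra.leftMulMatrix β (g : B))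
      = adjugate (Algebra.leftMulMatrix β (g : B)) *
          (Algebra.leftMulMatrix β (g : B) * Algebra.leftMulMatrix β ((g⁻¹ : Bˣ) : B)) := by
        rw [h, mul_one]
    _ = _ := by
        rw [← mul_assoc, Matrix.adjugate_mul, Matrix.smul_mul, one_mul]


/-- the point of the parameter space attached to `(c, x, y)` -/
noncomputable def pt (c : K) (x y : B) : Option (ι ⊕ ι) → K
  | none => c
  | some (Sum.inl i) => β.repr x i
  | some (Sum.inr i) => β.repr y i

/-- the generic element (as a matrix) in the variables picked out by `f` -/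
noncomputable def genMat (f : ι → Option (ι ⊕ ι)) : Matrix ι ι (MvPolynomial (Option (ι ⊕ ι)) K) :=
  ∑ i, (MvPolynomial.X (f i) : MvPolynomial (Option (ι ⊕ ι)) K) •
    (Algebra.leftMulMatrix β (β i)).map MvPolynomial.C

theorem genMat_map_eval (f : ι → Option (ι ⊕ ι)) (φ : Option (ι ⊕ ι) → K) :
    (genMat β f).map (MvPolynomial.eval φ) =
      Algebra.leftMulMatrix β (∑ i, φ (f i) • β i) := by
  ext a b
  simp only [genMat, Matrix.map_apply, Matrix.sum_apply, Matrix.smul_apply, smul_eq_mul, map_sum,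
    map_mul, MvPolynomial.eval_X, MvPolynomial.eval_C, map_smul]

theorem genMat_map_eval_inl (c : K) (x y : B) :
    (genMat β (fun i => some (Sum.inl i))).map (MvPolynomial.eval (pt β c x y)) =
      Algebra.leftMulMatrix β x := by
  rw [genMat_map_eval]
  congr 1
  exact β.sum_repr x

theorem genMat_map_eval_inr (c : K) (x y : B) :
    (genMat β (fun i => some (Sum.inr i))).map (MvPolynomial.eval (pt β c x y)) =
      Algebra.leftMulMatrix β y := by
  rw [genMat_map_eval]
  congr 1
  exact β.sum_repr y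

/-- the generic scaled commutator, in coordinates -/
noncomputable def genW : ι → MvPolynomial (Option (ι ⊕ ι)) K := fun i =>
  MvPolynomial.X none *
    ((genMat β (fun i => some (Sum.inl i)) * genMat β (fun i => some (Sum.inr i)) *
      adjugate (genMat β (fun i => some (Sum.inl i))) *
      adjugate (genMat β (fun i => some (Sum.inr i)))) *ᵥ
        (fun j => MvPolynomial.C (β.repr 1 j))) i

theorem map_adjugate' {R S : Type*} [CommRing R] [CommRing S] (f : R →+* S) (M : Matrix ι ι R) :
    M.adjugate.map f = (M.map f).adjugate := RingHom.map_adjugate f M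

theorem eval_genW (c : K) (x y : B) :
    (fun i => MvPolynomial.eval (pt β c x y) (genW β i)) =
      c • ((Algebra.leftMulMatrix β x * Algebra.leftMulMatrix β y *
        adjugate (Algebra.leftMulMatrix β x) * adjugate (Algebra.leftMulMatrix β y)) *ᵥ
          (fun j => β.repr 1 j)) := by
  ext i
  rw [genW, map_mul, MvPolynomial.eval_X, RingHom.map_mulVec, Matrix.map_mul, Matrix.map_mul,
    Matrix.map_mul, map_adjugate', map_adjugate', genMat_map_eval_inl, genMat_map_eval_inr]
  simp only [pt, Pi.smul_apply, smul_eq_mul]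
  congr 2
  ext j
  simp only [Function.comp_apply, MvPolynomial.eval_C]

theorem eval_genW_units (c : K) (g h : Bˣ) :
    (fun i => MvPolynomial.eval (pt β c (g : B) (h : B)) (genW β i)) =
      fun i => β.repr ((c * ((Algebra.leftMulMatrix β (g : B)).det *
        (Algebra.leftMulMatrix β (h : B)).det)) • ((g * h * g⁻¹ * h⁻¹ : Bˣ) : B)) i := by
  rw [eval_genW, adjugate_leftMulMatrix_unit, adjugate_leftMulMatrix_unit]
  have h1 : (Algebra.leftMulMatrix β (g : B) * Algebra.leftMulMatrix β (h : B) *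
      Algebra.leftMulMatrix β ((g⁻¹ : Bˣ) : B) * Algebra.leftMulMatrix β ((h⁻¹ : Bˣ) : B)) *ᵥ
        (fun j => β.repr 1 j) = fun i => β.repr (((g * h * g⁻¹ * h⁻¹ : Bˣ) : B)) i := by
    rw [← map_mul, ← map_mul, ← map_mul, ← Units.val_mul, ← Units.val_mul, ← Units.val_mul]
    have := Algebra.leftMulMatrix_mulVec_repr β ((g * h * g⁻¹ * h⁻¹ : Bˣ) : B) 1
    rw [mul_one] at this
    exact this
  simp only [Matrix.mul_smul, Matrix.smul_mul, Matrix.smul_mulVec, smul_smul]
  rw [h1]
  ext i
  simp only [Pi.smul_apply, smul_eq_mul, map_smul, Finsupp.coe_smul]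
  ring


/-- the generic polynomial -/
noncomputable def genP (p : MvPolynomial ι K) : MvPolynomial (Option (ι ⊕ ι)) K :=
  MvPolynomial.aeval (genW β) p

theorem eval_genP (p : MvPolynomial ι K) (φ : Option (ι ⊕ ι) → K) :
    MvPolynomial.eval φ (genP β p) =
      MvPolynomial.eval (fun i => MvPolynomial.eval φ (genW β i)) p := by
  have h : (MvPolynomial.eval φ).comp (MvPolynomial.aeval (genW β) :
      MvPolynomial ι K →ₐ[K] MvPolynomial (Option (ι ⊕ ι)) K).toRingHom =
      MvPolynomial.eval (fun i => MvPolynomial.eval φ (genW β i)) := by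
    apply MvPolynomial.ringHom_ext
    · intro c
      simp only [AlgHom.toRingHom_eq_coe, RingHom.coe_comp, RingHom.coe_coe, Function.comp_apply,
        MvPolynomial.aeval_C, MvPolynomial.algebraMap_eq, MvPolynomial.eval_C]
    · intro i
      simp only [AlgHom.toRingHom_eq_coe, RingHom.coe_comp, RingHom.coe_coe, Function.comp_apply,
        MvPolynomial.aeval_X, MvPolynomial.eval_X]
  exact congrArg (fun f => f p) h

theorem eval_genP_units (p : MvPolynomial ι K) (c : K) (g h : Bˣ) :
    MvPolynomial.eval (pt β c (g : B) (h : B)) (genP β p) =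
      polyFun β p ((c * ((Algebra.leftMulMatrix β (g : B)).det *
        (Algebra.leftMulMatrix β (h : B)).det)) • ((g * h * g⁻¹ * h⁻¹ : Bˣ) : B)) := by
  rw [eval_genP, eval_genW_units, polyFun]

/-- the generic "denominator" -/
noncomputable def genΔ : MvPolynomial (Option (ι ⊕ ι)) K :=
  (genMat β (fun i => some (Sum.inl i))).det * (genMat β (fun i => some (Sum.inr i))).det

theorem eval_genΔ (c : K) (x y : B) :
    MvPolynomial.eval (pt β c x y) (genΔ β) =
      (Algebra.leftMulMatrix β x).det * (Algebra.leftMulMatrix β y).det := by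
  rw [genΔ, map_mul, RingHom.map_det, RingHom.map_det, RingHom.mapMatrix_apply,
    RingHom.mapMatrix_apply, genMat_map_eval_inl, genMat_map_eval_inr]

theorem exists_pt (φ : Option (ι ⊕ ι) → K) : ∃ (c : K) (x y : B), φ = pt β c x y ∧
    (∀ i, β.repr x i = φ (some (Sum.inl i))) ∧ (∀ i, β.repr y i = φ (some (Sum.inr i))) := by
  refine ⟨φ none, β.equivFun.symm (fun i => φ (some (Sum.inl i))),
    β.equivFun.symm (fun i => φ (some (Sum.inr i))), ?_, ?_, ?_⟩
  · funext o
    rcases o with _ | (i | i)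
    · rfl
    · exact (congrFun (β.equivFun.apply_symm_apply (fun i => φ (some (Sum.inl i)))) i).symm
    · exact (congrFun (β.equivFun.apply_symm_apply (fun i => φ (some (Sum.inr i)))) i).symm
  · intro i
    exact congrFun (β.equivFun.apply_symm_apply (fun i => φ (some (Sum.inl i)))) i
  · intro i
    exact congrFun (β.equivFun.apply_symm_apply (fun i => φ (some (Sum.inr i)))) i

/-- **Density of commutators**: if a polynomial function vanishes on all scalar multiples of
commutators of units with coordinates in an infinite set `T`, it vanishes on all scalar multiples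
of commutators of units. -/
theorem comm_dense (T : Set K) (hT : T.Infinite) (p : MvPolynomial ι K)
    (H : ∀ g h : Bˣ, (∀ i, β.repr (g : B) i ∈ T) → (∀ i, β.repr (h : B) i ∈ T) →
      ∀ c : K, polyFun β p (c • ((g * h * g⁻¹ * h⁻¹ : Bˣ) : B)) = 0)
    (g h : Bˣ) (c : K) : polyFun β p (c • ((g * h * g⁻¹ * h⁻¹ : Bˣ) : B)) = 0 := by
  have hvan : genΔ β * genP β p = 0 := by
    apply MvPolynomial.funext_set (fun _ => T) (fun _ => hT)
    intro φ hφ
    rw [map_zero]
    obtain ⟨c, x, y, rfl, hx, hy⟩ := exists_pt β φ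
    rw [map_mul, eval_genΔ]
    by_cases hxu : (Algebra.leftMulMatrix β x).det = 0
    · rw [hxu, zero_mul, zero_mul]
    by_cases hyu : (Algebra.leftMulMatrix β y).det = 0
    · rw [hyu, mul_zero, zero_mul]
    obtain ⟨g, rfl⟩ := isUnit_of_det_leftMulMatrix_ne_zero β x hxu
    obtain ⟨h, rfl⟩ := isUnit_of_det_leftMulMatrix_ne_zero β y hyu
    rw [eval_genP_units, H g h (fun i => by rw [hx]; exact hφ _ trivial)
      (fun i => by rw [hy]; exact hφ _ trivial), mul_zero]
  have hΔ : genΔ β ≠ 0 := by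
    intro h0
    have := eval_genΔ β 0 (1 : B) (1 : B)
    rw [h0, map_zero, map_one, Matrix.det_one, one_mul] at this
    exact zero_ne_one this
  have hP : genP β p = 0 := (mul_eq_zero.mp hvan).resolve_left hΔ
  have hg := det_leftMulMatrix_unit_ne_zero β g
  have hh := det_leftMulMatrix_unit_ne_zero β h
  have h1 := eval_genP_units β p (c / ((Algebra.leftMulMatrix β (g : B)).det *
        (Algebra.leftMulMatrix β (h : B)).det)) g h
  rw [hP, map_zero, div_mul_cancel₀ _ (mul_ne_zero hg hh)] at h1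
  exact h1.symm

end Generic
section Diag
variable {K : Type u} [Field K] [IsAlgClosed K] {n : ℕ}

theorem exists_diagonalization (M : Matrix (Fin n) (Fin n) K) (hM : M.charpoly.Separable) :
    ∃ (P : (Matrix (Fin n) (Fin n) K)ˣ) (μ : Fin n → K),
      M = (P : Matrix (Fin n) (Fin n) K) * diagonal μ * ((P⁻¹ : (Matrix (Fin n) (Fin n) K)ˣ) :
        Matrix (Fin n) (Fin n) K) := by
  classical
  have hcard : M.charpoly.roots.toFinset.card = n := by
    rw [Multiset.toFinset_card_of_nodup (nodup_roots hM), IsAlgClosed.card_roots_eq_natDegree,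
      Matrix.charpoly_natDegree_eq_dim, Fintype.card_fin]
  let e : Fin n ≃ M.charpoly.roots.toFinset := (Finset.equivFinOfCardEq hcard).symm
  let μ : Fin n → K := fun i => (e i : K)
  have hμinj : Function.Injective μ := fun i j hij => e.injective (Subtype.ext hij)
  have hroot : ∀ i, M.charpoly.IsRoot (μ i) := by
    intro i
    have := (e i).2
    rw [Multiset.mem_toFinset, mem_roots'] at this
    exact this.2
  have hv : ∀ i, ∃ v : Fin n → K, v ≠ 0 ∧ M *ᵥ v = μ i • v := by
    intro i
    have h1 : (Matrix.scalar (Fin n) (μ i) - M).det = 0 := by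
      rw [← Matrix.eval_charpoly]; exact hroot i
    obtain ⟨v, hv0, hv⟩ := Matrix.exists_mulVec_eq_zero_iff.mpr h1
    refine ⟨v, hv0, ?_⟩
    rw [Matrix.sub_mulVec, sub_eq_zero] at hv
    rw [← hv]
    ext a
    simp [Matrix.mulVec, dotProduct, Matrix.scalar_apply, Matrix.diagonal_apply]
  choose v hv0 hv using hv
  have hli : LinearIndependent K v := by
    apply Module.End.eigenvectors_linearIndependent' (Matrix.toLin' M) μ hμinj v
    intro i
    refine ⟨?_, hv0 i⟩
    rw [Module.End.mem_eigenspace_iff, Matrix.toLin'_apply, hv]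
  let P₀ : Matrix (Fin n) (Fin n) K := Matrix.of fun a i => v i a
  have hP₀ : IsUnit P₀ := by
    rw [← Matrix.linearIndependent_cols_iff_isUnit]
    exact hli
  obtain ⟨P, hP⟩ := hP₀
  refine ⟨P, μ, ?_⟩
  have h1 : M * (P : Matrix (Fin n) (Fin n) K) = (P : Matrix (Fin n) (Fin n) K) * diagonal μ := by
    rw [hP]
    ext a i
    rw [Matrix.mul_apply, Matrix.mul_diagonal]
    have := congrFun (hv i) a
    simp only [Matrix.mulVec, dotProduct, Pi.smul_apply, smul_eq_mul] at this
    simp only [P₀, Matrix.of_apply]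
    rw [this, mul_comm]
  rw [← h1, mul_assoc, Units.mul_inv, mul_one]

end Diag
section DiagComm
variable {K : Type u} [Field K] {n : ℕ}

theorem permMatrix_mul_diagonal_mul (σ : Equiv.Perm (Fin n)) (d : Fin n → K) :
    σ.permMatrix K * diagonal d * (σ⁻¹).permMatrix K = diagonal (d ∘ σ) := by
  rw [Equiv.Perm.permMatrix, Equiv.Perm.permMatrix, PEquiv.toMatrix_toPEquiv_mul,
    PEquiv.mul_toMatrix_toPEquiv]
  ext i j
  simp only [submatrix_apply, id_eq, diagonal_apply, Function.comp_apply]
  have : (σ⁻¹ : Equiv.Perm (Fin n)).symm j = σ j := rfl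
  rw [this]
  by_cases h : i = j
  · subst h; simp
  · rw [if_neg h, if_neg (fun h' => h (σ.injective h'))]

/-- the auxiliary sequence with `a (i+1) = a i / t i` -/
noncomputable def aseq (t : ℕ → K) : ℕ → K := fun m => ∏ j ∈ Finset.range m, (t j)⁻¹

theorem diagonal_eq_commutator (hn : 0 < n) (t : Fin n → K) (ht : ∀ i, t i ≠ 0)
    (hprod : ∏ i, t i = 1) :
    ∃ g h : (Matrix (Fin n) (Fin n) K)ˣ,
      diagonal t = ((g * h * g⁻¹ * h⁻¹ : (Matrix (Fin n) (Fin n) K)ˣ) : Matrix (Fin n) (Fin n) K) := by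
  classical
  let t' : ℕ → K := fun j => if h : j < n then t ⟨j, h⟩ else 1
  have ht' : ∀ j, t' j ≠ 0 := by
    intro j
    simp only [t']
    split_ifs with h
    · exact ht _
    · exact one_ne_zero
  have ha_ne : ∀ m, aseq t' m ≠ 0 := by
    intro m
    rw [aseq, Finset.prod_ne_zero_iff]
    intro j _
    exact inv_ne_zero (ht' j)
  have ha_succ : ∀ m, aseq t' (m + 1) = aseq t' m * (t' m)⁻¹ := by
    intro m
    rw [aseq, aseq, Finset.prod_range_succ]
  have ha_n : aseq t' n = 1 := by
    rw [aseq, Finset.prod_inv_distrib, Finset.prod_range fun j => t' j]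
    have : ∏ i : Fin n, t' i = ∏ i, t i := by
      apply Finset.prod_congr rfl
      intro i _
      simp only [t', dif_pos i.2]
    rw [this, hprod, inv_one]
  have ha_0 : aseq t' 0 = 1 := by rw [aseq, Finset.range_zero, Finset.prod_empty]
  obtain ⟨m, rfl⟩ : ∃ m, n = m + 1 := ⟨n - 1, by omega⟩
  let α : Fin (m + 1) → K := fun i => aseq t' i
  let σ : Equiv.Perm (Fin (m + 1)) := finRotate (m + 1)
  have hασ : ∀ i : Fin (m + 1), α (σ i) = aseq t' (i + 1) := by
    intro i
    simp only [α, σ]
    rw [coe_finRotate]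
    split_ifs with hi
    · rw [ha_0, hi, Fin.val_last, ha_n]
    · rfl
  have hα_ne : ∀ i, α i ≠ 0 := fun i => ha_ne _
  have hdet : IsUnit (diagonal α : Matrix (Fin (m + 1)) (Fin (m + 1)) K) := by
    rw [Matrix.isUnit_iff_isUnit_det, Matrix.det_diagonal, isUnit_iff_ne_zero,
      Finset.prod_ne_zero_iff]
    exact fun i _ => hα_ne i
  obtain ⟨g, hg⟩ := hdet
  have hginv : ((g⁻¹ : (Matrix (Fin (m + 1)) (Fin (m + 1)) K)ˣ) : Matrix (Fin (m + 1)) (Fin (m + 1)) K)
      = diagonal (fun i => (α i)⁻¹) := by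
    rw [← Units.mul_eq_one_iff_inv_eq, hg, Matrix.diagonal_mul_diagonal]
    rw [← Matrix.diagonal_one]
    congr 1
    ext i
    exact mul_inv_cancel₀ (hα_ne i)
  let h : (Matrix (Fin (m + 1)) (Fin (m + 1)) K)ˣ :=
    ⟨σ.permMatrix K, (σ⁻¹).permMatrix K, by
      rw [← Matrix.permMatrix_mul, inv_mul_cancel, Matrix.permMatrix_one], by
      rw [← Matrix.permMatrix_mul, mul_inv_cancel, Matrix.permMatrix_one]⟩
  refine ⟨g, h, ?_⟩
  rw [Units.val_mul, Units.val_mul, Units.val_mul, mul_assoc, mul_assoc, hg, hginv]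
  change _ = diagonal α * (σ.permMatrix K * (diagonal (fun i => (α i)⁻¹) * (σ⁻¹).permMatrix K))
  rw [← mul_assoc (σ.permMatrix K)]
  rw [permMatrix_mul_diagonal_mul, Matrix.diagonal_mul_diagonal]
  congr 1
  ext i
  simp only [Function.comp_apply]
  rw [hασ, ha_succ]
  have h1 : t' i = t i := by simp only [t', dif_pos i.2]
  rw [h1]
  have h2 : α i = aseq t' i := rfl
  rw [h2]
  field_simp [ha_ne, ht]

end DiagComm
section MatComm
variable {K : Type u} [Field K] [IsAlgClosed K] {n : ℕ}

theorem exists_smul_commutator (hn : 0 < n) (M : Matrix (Fin n) (Fin n) K)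
    (hM : M.charpoly.Separable) (hdet : M.det ≠ 0) :
    ∃ (c : K) (g h : (Matrix (Fin n) (Fin n) K)ˣ),
      M = c • ((g * h * g⁻¹ * h⁻¹ : (Matrix (Fin n) (Fin n) K)ˣ) : Matrix (Fin n) (Fin n) K) := by
  obtain ⟨P, μ, hP⟩ := exists_diagonalization M hM
  have hdetμ : M.det = ∏ i, μ i := by
    rw [hP, Matrix.det_mul, Matrix.det_mul, Matrix.det_diagonal, mul_comm, ← mul_assoc,
      ← Matrix.det_mul, Units.inv_mul, Matrix.det_one, one_mul]
  have hμ : ∀ i, μ i ≠ 0 := by
    intro i hi
    apply hdet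
    rw [hdetμ]
    exact Finset.prod_eq_zero (Finset.mem_univ i) hi
  obtain ⟨c, hc⟩ := IsAlgClosed.exists_pow_nat_eq (∏ i, μ i) hn
  have hc0 : c ≠ 0 := by
    rintro rfl
    rw [zero_pow hn.ne'] at hc
    exact hdet (hdetμ.trans hc.symm)
  obtain ⟨g, h, hgh⟩ := diagonal_eq_commutator hn (fun i => μ i / c)
    (fun i => div_ne_zero (hμ i) hc0) (by
      rw [Finset.prod_div_distrib, Finset.prod_const, Finset.card_univ, Fintype.card_fin, hc,
        div_self]
      rw [← hc]; exact pow_ne_zero _ hc0)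
  refine ⟨c, P * g * P⁻¹, P * h * P⁻¹, ?_⟩
  have h1 : (P * g * P⁻¹) * (P * h * P⁻¹) * (P * g * P⁻¹)⁻¹ * (P * h * P⁻¹)⁻¹ =
      P * (g * h * g⁻¹ * h⁻¹) * P⁻¹ := by group
  have h2 : diagonal μ = c • diagonal (fun i => μ i / c) := by
    rw [← Matrix.diagonal_smul]
    congr 1
    ext i
    simp only [Pi.smul_apply, smul_eq_mul]
    field_simp
  rw [h1, Units.val_mul, Units.val_mul, ← hgh, hP, h2, Matrix.mul_smul, Matrix.smul_mul]

end MatComm

section Final
variable {K : Type u} [Field K] [IsAlgClosed K] {B : Type v} [Ring B] [Algebra K B]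
  {ι : Type w} [Fintype ι] [DecidableEq ι] (β : Module.Basis ι K B)

theorem exists_distinct_nonzero (n : ℕ) [Infinite K] :
    ∃ d : Fin n → K, Function.Injective d ∧ ∀ i, d i ≠ 0 := by
  classical
  have hinf : ({0}ᶜ : Set K).Infinite := (Set.finite_singleton (0 : K)).infinite_compl
  obtain ⟨t, ht, htc⟩ := hinf.exists_subset_card_eq n
  let e : Fin n ≃ t := (Finset.equivFinOfCardEq htc).symm
  refine ⟨fun i => (e i : K), fun i j hij => e.injective (Subtype.ext hij), fun i => ?_⟩
  have := ht (e i).2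
  simpa using this

theorem polyFun_eq_zero_of_commutators {n : ℕ} (hn : 0 < n)
    (ψ : B ≃ₐ[K] Matrix (Fin n) (Fin n) K) (p : MvPolynomial ι K)
    (H : ∀ (g h : Bˣ) (c : K), polyFun β p (c • ((g * h * g⁻¹ * h⁻¹ : Bˣ) : B)) = 0) (z : B) :
    polyFun β p z = 0 := by
  have : Infinite K := IsAlgClosed.instInfinite
  obtain ⟨d, hdinj, hd0⟩ := exists_distinct_nonzero (K := K) n
  set D₀ : Matrix (Fin n) (Fin n) K := diagonal d with hD₀
  set M : Matrix (Fin n) (Fin n) K := ψ z with hMdef
  have hsep0 : (D₀ + (0 : K) • M).charpoly.Separable := by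
    rw [zero_smul, add_zero, hD₀, Matrix.charpoly_diagonal]
    exact separable_prod_X_sub_C_iff.mpr hdinj
  have hfin1 := SepLocus.finite_not_separable D₀ M 0 hsep0
  have hfin2 : {t : K | (D₀ + t • M).det = 0}.Finite := by
    classical
    have hne : (SepLocus.pencil D₀ M).det ≠ 0 := by
      intro h0
      have h1 := congrArg (Polynomial.evalRingHom (0 : K)) h0
      rw [RingHom.map_det, RingHom.mapMatrix_apply, SepLocus.pencil_map_eval, zero_smul, add_zero,
        map_zero, hD₀, Matrix.det_diagonal, Finset.prod_eq_zero_iff] at h1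
      obtain ⟨i, _, hi⟩ := h1
      exact hd0 i hi
    refine ((SepLocus.pencil D₀ M).det.roots.toFinset.finite_toSet).subset ?_
    intro t ht
    simp only [Finset.mem_coe, Multiset.mem_toFinset, mem_roots hne, IsRoot.def]
    have h1 : (SepLocus.pencil D₀ M).det.eval t = (D₀ + t • M).det := by
      rw [← Polynomial.coe_evalRingHom, RingHom.map_det, RingHom.mapMatrix_apply,
        SepLocus.pencil_map_eval]
    rw [h1]; exact ht
  have hfin3 : ({t : K | ¬ (D₀ + t • M).charpoly.Separable} ∪ {t : K | (D₀ + t • M).det = 0} ∪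
      {0}).Finite := (hfin1.union hfin2).union (Set.finite_singleton 0)
  have hinf : ({t : K | ¬ (D₀ + t • M).charpoly.Separable} ∪ {t : K | (D₀ + t • M).det = 0} ∪
      {0})ᶜ.Infinite := hfin3.infinite_compl
  have h0 := polyFun_line_of_infinite β p z (ψ.symm D₀) ?_ 0
  · rwa [zero_smul, add_zero] at h0
  refine (hinf.image (f := fun t => t⁻¹) (inv_injective.injOn)).mono ?_
  rintro _ ⟨t, ht, rfl⟩
  simp only [Set.mem_compl_iff, Set.mem_union, Set.mem_ofPred_eq, Set.mem_singleton_iff, not_or,
    not_not] at ht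
  obtain ⟨⟨hsep, hdet⟩, ht0⟩ := ht
  obtain ⟨c, g, h, hgh⟩ := exists_smul_commutator hn _ hsep hdet
  change polyFun β p (z + t⁻¹ • ψ.symm D₀) = 0
  let g' : Bˣ := Units.map ψ.symm.toAlgHom.toRingHom.toMonoidHom g
  let h' : Bˣ := Units.map ψ.symm.toAlgHom.toRingHom.toMonoidHom h
  have h1 : z + t⁻¹ • ψ.symm D₀ = (t⁻¹ * c) • ((g' * h' * g'⁻¹ * h'⁻¹ : Bˣ) : B) := by
    apply ψ.injective
    have h2 : ψ ((g' * h' * g'⁻¹ * h'⁻¹ : Bˣ) : B) =
        ((g * h * g⁻¹ * h⁻¹ : (Matrix (Fin n) (Fin n) K)ˣ) : Matrix (Fin n) (Fin n) K) := by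
      simp only [g', h', ← map_inv, ← map_mul]
      exact ψ.apply_symm_apply _
    rw [map_add, map_smul, map_smul, ψ.apply_symm_apply, h2, ← smul_smul, ← hgh, smul_add,
      smul_smul, inv_mul_cancel₀ ht0, one_smul, add_comm]
  rw [h1]
  exact H g' h' _

end Final
open scoped TensorProduct commutatorElement

section Division
variable {k : Type u} [Field k] {A : Type v} [DivisionRing A] [Algebra k A]
  {ι : Type w} [Fintype ι] [DecidableEq ι] (basis : Module.Basis ι k A)
  (K : Type u) [Field K] [Algebra k K]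

theorem basis_repr_one_tmul (a : A) (i : ι) :
    (Algebra.TensorProduct.basis K basis).repr ((1 : K) ⊗ₜ[k] a) i =
      algebraMap k K (basis.repr a i) := by
  rw [Algebra.TensorProduct.basis_repr_tmul, one_smul, Finsupp.mapRange_apply]

theorem polyFun_one_tmul (p : MvPolynomial ι K) (a : A) :
    polyFun (Algebra.TensorProduct.basis K basis) p ((1 : K) ⊗ₜ[k] a) =
      MvPolynomial.eval (fun i => algebraMap k K (basis.repr a i)) p := by
  rw [polyFun]
  congr 2
  ext i
  exact basis_repr_one_tmul basis K a i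

theorem exists_eq_one_tmul (z : K ⊗[k] A)
    (hz : ∀ i, (Algebra.TensorProduct.basis K basis).repr z i ∈ Set.range (algebraMap k K)) :
    ∃ a : A, z = (1 : K) ⊗ₜ[k] a := by
  choose c hc using hz
  refine ⟨basis.equivFun.symm c, ?_⟩
  apply (Algebra.TensorProduct.basis K basis).repr.injective
  ext i
  rw [basis_repr_one_tmul, ← hc]
  congr 1
  exact (congrFun (basis.equivFun.apply_symm_apply c) i).symm

theorem unit_eq_one_tmul (g : (K ⊗[k] A)ˣ)
    (hg : ∀ i, (Algebra.TensorProduct.basis K basis).repr (g : K ⊗[k] A) i ∈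
      Set.range (algebraMap k K)) :
    ∃ a : Aˣ, (g : K ⊗[k] A) = (1 : K) ⊗ₜ[k] (a : A) ∧
      ((g⁻¹ : (K ⊗[k] A)ˣ) : K ⊗[k] A) = (1 : K) ⊗ₜ[k] ((a⁻¹ : Aˣ) : A) := by
  obtain ⟨a, ha⟩ := exists_eq_one_tmul basis K _ hg
  have ha0 : a ≠ 0 := by
    rintro rfl
    rw [TensorProduct.tmul_zero] at ha
    have : Nontrivial (K ⊗[k] A) := Groth.Agent.Lib.Helper1.nontrivial_tensor K A
    exact g.ne_zero ha
  refine ⟨Units.mk0 a ha0, ha, ?_⟩
  apply Units.inv_eq_of_mul_eq_one_right
  have h1 : a * ((Units.mk0 a ha0)⁻¹ : Aˣ) = 1 := (Units.mk0 a ha0).mul_inv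
  rw [ha, Algebra.TensorProduct.tmul_mul_tmul, one_mul, h1, Algebra.TensorProduct.one_def]


/-- **Zariski density of scalar multiples of commutators** in a central division algebra over an
infinite field (coordinates taken in any algebraically closed extension). -/
theorem eq_zero_of_vanishes_on_scalar_commutators [Infinite k] [Algebra.IsCentral k A]
    [FiniteDimensional k A] [IsAlgClosed K] (p : MvPolynomial ι K)
    (hp : ∀ (c : k) (s : Aˣ), c ≠ 0 → s ∈ commutator Aˣ →
      MvPolynomial.eval (fun i => algebraMap k K (basis.repr (c • (s : A)) i)) p = 0) :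
    p = 0 := by
  let β := Algebra.TensorProduct.basis K basis
  have hsimple : IsSimpleRing (K ⊗[k] A) := Groth.Agent.Lib.Helper1.isSimpleRing_tensor_divisionRing K A
  obtain ⟨n, hn, ⟨ψ⟩⟩ := IsSimpleRing.exists_algEquiv_matrix_of_isAlgClosed K (K ⊗[k] A)
  have : Infinite K := IsAlgClosed.instInfinite
  have hTinf : (Set.range (algebraMap k K)).Infinite :=
    Set.infinite_range_of_injective (algebraMap k K).injective
  -- step 1: `k`-rational commutators, all scalars
  have H1 : ∀ g h : (K ⊗[k] A)ˣ, (∀ i, β.repr (g : K ⊗[k] A) i ∈ Set.range (algebraMap k K)) →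
      (∀ i, β.repr (h : K ⊗[k] A) i ∈ Set.range (algebraMap k K)) →
      ∀ c : K, polyFun β p (c • ((g * h * g⁻¹ * h⁻¹ : (K ⊗[k] A)ˣ) : K ⊗[k] A)) = 0 := by
    intro g h hg hh c
    obtain ⟨a, ha, ha'⟩ := unit_eq_one_tmul basis K g hg
    obtain ⟨b, hb, hb'⟩ := unit_eq_one_tmul basis K h hh
    have hs : ((g * h * g⁻¹ * h⁻¹ : (K ⊗[k] A)ˣ) : K ⊗[k] A) = (1 : K) ⊗ₜ[k] ((⁅a, b⁆ : Aˣ) : A) := by
      rw [Units.val_mul, Units.val_mul, Units.val_mul, ha, hb, ha', hb', commutatorElement_def,
        Units.val_mul, Units.val_mul, Units.val_mul]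
      simp only [Algebra.TensorProduct.tmul_mul_tmul, one_mul]
    have hmem : (⁅a, b⁆ : Aˣ) ∈ commutator Aˣ := by
      rw [commutator_def]
      exact Subgroup.commutator_mem_commutator (Subgroup.mem_top a) (Subgroup.mem_top b)
    rw [hs]
    have h0 := polyFun_line_of_infinite β p 0 ((1 : K) ⊗ₜ[k] ((⁅a, b⁆ : Aˣ) : A)) ?_ c
    · rwa [zero_add] at h0
    refine ((hTinf.diff (Set.finite_singleton 0))).mono ?_
    rintro _ ⟨⟨c, rfl⟩, hc0⟩
    have hc : c ≠ 0 := by
      rintro rfl
      exact hc0 (by simp)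
    change polyFun β p (0 + _) = 0
    rw [zero_add, TensorProduct.smul_tmul', Algebra.algebraMap_eq_smul_one, smul_eq_mul, mul_one,
      ← Algebra.algebraMap_eq_smul_one]
    have h2 : (algebraMap k K c) ⊗ₜ[k] ((⁅a, b⁆ : Aˣ) : A) = (1 : K) ⊗ₜ[k] (c • ((⁅a, b⁆ : Aˣ) : A)) := by
      rw [Algebra.algebraMap_eq_smul_one, TensorProduct.smul_tmul]
    rw [h2, polyFun_one_tmul]
    exact hp c _ hc hmem
  -- step 2: all commutators
  have H2 := comm_dense β (Set.range (algebraMap k K)) hTinf p H1
  -- step 3: everything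
  have H3 := polyFun_eq_zero_of_commutators β (Nat.pos_of_ne_zero hn.out) ψ p H2
  exact eq_zero_of_polyFun_eq_zero β p H3

end Division
end Groth.Agent.Lib.Helper1.CommDense
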