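import Groth.Agent.Lib.Helper1.CSA.Centralizer
import Mathlib.LinearAlgebra.FiniteDimensional.Lemmas

set_option autoImplicit false
universe u v w
open scoped TensorProduct
open MulOpposite

namespace Groth.Agent.Lib.Helper1

section

variable {k : Type u} [Field k] {D : Type v} [DivisionRing D] [Algebra k D] [FiniteDimensional k D]

/-- In a finite-dimensional division algebra, a subalgebra is closed under inverses. -/
theorem subalgebra_inv_mem (L : Subalgebra k D) {x : D} (hx : x ∈ L) (hx0 : x ≠ 0) : x⁻¹ ∈ L := by
  let m : L →ₗ[k] L := LinearMap.mulLeft k (⟨x, hx⟩ : L)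
  have hinj : Function.Injective m := by
    intro a b hab
    have : x * (a : D) = x * (b : D) := congrArg Subtype.val hab
    exact Subtype.ext (mul_left_cancel₀ hx0 this)
  have hsurj : Function.Surjective m := LinearMap.injective_iff_surjective.mp hinj
  obtain ⟨y, hy⟩ := hsurj 1
  have hy' : x * (y : D) = 1 := congrArg Subtype.val hy
  have : x⁻¹ = (y : D) := inv_eq_of_mul_eq_one_right hy'
  rw [this]
  exact y.2

/-- A subalgebra of a finite-dimensional division algebra is a simple ring. -/
theorem isSimpleRing_subalgebra (L : Subalgebra k D) : IsSimpleRing L := by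
  apply IsSimpleRing.of_eq_bot_or_eq_top
  intro I
  by_cases h : I = ⊥
  · exact Or.inl h
  right
  have : ∃ x ∈ I, x ≠ 0 := by
    by_contra hcon
    push Not at hcon
    apply h
    rw [eq_bot_iff]
    intro x hx
    rw [TwoSidedIdeal.mem_bot]
    exact hcon x hx
  obtain ⟨x, hxI, hx0⟩ := this
  have hx0' : (x : D) ≠ 0 := fun h0 => hx0 (Subtype.ext h0)
  have hinv : (x : D)⁻¹ ∈ L := subalgebra_inv_mem L x.2 hx0'
  have h1 : (1 : L) ∈ I := by
    have := I.mul_mem_left ⟨(x : D)⁻¹, hinv⟩ x hxI
    convert this
    exact Subtype.ext (inv_mul_cancel₀ hx0').symm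
  exact (TwoSidedIdeal.one_mem_iff I).mp h1

variable [Algebra.IsCentral k D]

theorem finrank_eq_sq_of_maximal_commutative (L : Subalgebra k D)
    (hcomm : ∀ x ∈ L, ∀ y ∈ L, x * y = y * x)
    (hmax : ∀ L' : Subalgebra k D, (∀ x ∈ L', ∀ y ∈ L', x * y = y * x) → L ≤ L' → L' = L) :
    Module.finrank k D = Module.finrank k L ^ 2 := by
  have hL : IsSimpleRing L := isSimpleRing_subalgebra L
  have hcent : Subalgebra.centralizer k (L : Set D) = L := by
    apply le_antisymm
    · intro x hx
      rw [Subalgebra.mem_centralizer_iff] at hx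
      let s : Set D := (L : Set D) ∪ {x}
      have hs : ∀ a ∈ s, ∀ b ∈ s, a * b = b * a := by
        rintro a (ha | ha) b (hb | hb)
        · exact hcomm a ha b hb
        · rw [Set.mem_singleton_iff] at hb; subst hb; exact (hx a ha)
        · rw [Set.mem_singleton_iff] at ha; subst ha; exact (hx b hb).symm
        · rw [Set.mem_singleton_iff] at ha hb; subst ha; subst hb; rfl
      let L' := Algebra.adjoin k s
      have h1 : L' ≤ Subalgebra.centralizer k s := by
        apply Algebra.adjoin_le
        intro a ha
        rw [SetLike.mem_coe, Subalgebra.mem_centralizer_iff]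
        intro b hb
        exact hs b hb a ha
      have h2 : L' ≤ Subalgebra.centralizer k (Subalgebra.centralizer k s : Set D) :=
        Algebra.adjoin_le_centralizer_centralizer k s
      have hL'comm : ∀ a ∈ L', ∀ b ∈ L', a * b = b * a := by
        intro a ha b hb
        have ha' := h2 ha
        rw [Subalgebra.mem_centralizer_iff] at ha'
        exact (ha' b (h1 hb)).symm
      have hLL' : L ≤ L' := fun a ha => Algebra.subset_adjoin (Or.inl ha)
      have := hmax L' hL'comm hLL'
      rw [← this]
      exact Algebra.subset_adjoin (Or.inr rfl)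
    · intro x hx
      rw [Subalgebra.mem_centralizer_iff]
      intro y hy
      exact hcomm y hy x hx
  have := finrank_eq_mul_finrank_centralizer L
  rw [hcent] at this
  rw [this, sq]

end

end Groth.Agent.Lib.Helper1
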