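import Mathlib
import Groth.Agent.Lib.Helper1.CSA.MaxCommutative

/-!
# Separable maximal commutative subalgebras of central division algebras (helper1)

* `isSeparable_of_isSeparable_tower`: transitivity of separability for elements of a domain
* `exists_isSeparable_of_centralizer_ne`: Jacobson--Noether applied to a centralizer
* `isSeparable_of_mem_adjoin`: commuting separable elements generate separable elements
* `exists_maximal_commutative_separable`: Koethe's theorem
-/

set_option autoImplicit false
universe u v w
open scoped TensorProduct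
open Polynomial

namespace Groth.Agent.Lib.Helper1

section Transfer

variable {k : Type u} [Field k] {F : Type v} [Field F] [Algebra k F] [Algebra.IsSeparable k F]
  {E : Type w} [Ring E] [Algebra k E] [Algebra F E] [IsScalarTower k F E]

theorem isSeparable_of_aeval_eq_zero {x : E} (p : F[X]) (hirr : Irreducible p) (hmonic : p.Monic)
    (hsep : p.Separable) (hx : aeval x p = 0) : IsSeparable k x := by
  have : Fact (Irreducible p) := ⟨hirr⟩
  have hroot : minpoly F (AdjoinRoot.root p) = p := by
    rw [AdjoinRoot.minpoly_root hirr.ne_zero, hmonic.leadingCoeff, inv_one, map_one, mul_one]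
  have h1 : IsSeparable F (AdjoinRoot.root p) := by
    unfold IsSeparable
    rw [hroot]
    exact hsep
  have h2 : IsSeparable k (AdjoinRoot.root p) :=
    IsSeparable.of_algebra_isSeparable_of_isSeparable k h1
  have hdvd : p ∣ (minpoly k (AdjoinRoot.root p)).map (algebraMap k F) := by
    have : minpoly F (AdjoinRoot.root p) ∣ (minpoly k (AdjoinRoot.root p)).map (algebraMap k F) := by
      apply minpoly.dvd
      rw [aeval_map_algebraMap, minpoly.aeval]
    rwa [hroot] at this
  have h3 : aeval x (minpoly k (AdjoinRoot.root p)) = 0 := by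
    rw [← aeval_map_algebraMap F]
    obtain ⟨r, hr⟩ := hdvd
    rw [hr, map_mul, hx, zero_mul]
  exact h2.of_dvd (minpoly.dvd k x h3)

/-- Transitivity of separability for an element of a possibly noncommutative domain. -/
theorem isSeparable_of_isSeparable_tower [IsDomain E] {x : E} (hint : IsIntegral F x)
    (h : IsSeparable F x) : IsSeparable k x :=
  isSeparable_of_aeval_eq_zero (minpoly F x) (minpoly.irreducible hint) (minpoly.monic hint) h
    (minpoly.aeval F x)

end Transfer

section JN

variable {k : Type u} [Field k] {F : Type v} [Field F] [Algebra k F] [Algebra.IsSeparable k F]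
  {D : Type w} [DivisionRing D] [Algebra k D] [Algebra.IsCentral k D] [FiniteDimensional k D]

theorem exists_isSeparable_of_centralizer_ne (j : F →ₐ[k] D)
    (hne : Subalgebra.centralizer k (j.range : Set D) ≠ j.range) :
    ∃ x ∈ Subalgebra.centralizer k (j.range : Set D), x ∉ j.range ∧ IsSeparable k x := by
  have hjC : ∀ a, j a ∈ Subalgebra.centralizer k (j.range : Set D) := by
    intro a
    rw [Subalgebra.mem_centralizer_iff]
    rintro _ ⟨b, rfl⟩
    change j b * j a = j a * j b
    rw [← map_mul, ← map_mul, mul_comm]
  let _ : DivisionRing (Subalgebra.centralizer k (j.range : Set D)) :=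
    divisionRingOfFiniteDimensional k _
  let jC : F →ₐ[k] Subalgebra.centralizer k (j.range : Set D) := j.codRestrict _ hjC
  let _ : Algebra F (Subalgebra.centralizer k (j.range : Set D)) :=
    RingHom.toAlgebra' jC.toRingHom (fun c x => by
      apply Subtype.ext
      have := (Subalgebra.mem_centralizer_iff k).mp x.2 (j c) ⟨c, rfl⟩
      exact this)
  have halg : ∀ c : F, (algebraMap F (Subalgebra.centralizer k (j.range : Set D)) c : D) = j c :=
    fun c => rfl
  have : IsScalarTower k F (Subalgebra.centralizer k (j.range : Set D)) :=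
    IsScalarTower.of_algebraMap_eq (fun c => (jC.commutes c).symm)
  have hfin : Module.Finite F (Subalgebra.centralizer k (j.range : Set D)) :=
    Module.Finite.of_restrictScalars_finite k F _
  have : Algebra.IsAlgebraic F (Subalgebra.centralizer k (j.range : Set D)) :=
    Algebra.IsAlgebraic.of_finite F _
  have hsimple : IsSimpleRing j.range := isSimpleRing_subalgebra j.range
  have hcc := centralizer_centralizer_eq j.range
  have hcentral : Algebra.IsCentral F (Subalgebra.centralizer k (j.range : Set D)) := by
    refine ⟨fun z hz => ?_⟩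
    rw [Subalgebra.mem_center_iff] at hz
    have hz1 : (z : D) ∈ Subalgebra.centralizer k
        (Subalgebra.centralizer k (j.range : Set D) : Set D) := by
      rw [Subalgebra.mem_centralizer_iff]
      intro g hg
      exact congrArg Subtype.val (hz ⟨g, hg⟩)
    rw [hcc] at hz1
    obtain ⟨a, ha⟩ := hz1
    rw [Algebra.mem_bot]
    exact ⟨a, Subtype.ext ha⟩
  have hneq : (⊥ : Subalgebra F (Subalgebra.centralizer k (j.range : Set D))) ≠ ⊤ := by
    intro hbt
    apply hne
    apply le_antisymm
    · intro y hy
      have : (⟨y, hy⟩ : Subalgebra.centralizer k (j.range : Set D)) ∈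
          (⊥ : Subalgebra F (Subalgebra.centralizer k (j.range : Set D))) := by
        rw [hbt]; exact Algebra.mem_top
      obtain ⟨a, ha⟩ := Algebra.mem_bot.mp this
      exact ⟨a, congrArg Subtype.val ha⟩
    · rintro _ ⟨a, rfl⟩
      exact hjC a
  obtain ⟨x, hx, hsep⟩ := JacobsonNoether.exists_separable_and_not_isCentral' hneq
  refine ⟨x.1, x.2, ?_, ?_⟩
  · rintro ⟨a, ha⟩
    apply hx
    rw [Algebra.mem_bot]
    exact ⟨a, Subtype.ext ha⟩
  · have h1 : IsSeparable k x :=
      isSeparable_of_isSeparable_tower (Algebra.IsIntegral.isIntegral x) hsep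
    unfold IsSeparable at h1 ⊢
    rwa [← minpoly.algHom_eq (Subalgebra.centralizer k (j.range : Set D)).val
      Subtype.val_injective x] at h1

end JN

section Adjoin

/-- abstract version: a field `K` mapping injectively to `R` -/
theorem isSeparable_of_mem_adjoin_aux {k : Type u} [Field k] {R : Type v} [Ring R] [Algebra k R]
    {K : Type w} [Field K] [Algebra k K] (ι : K →ₐ[k] R) (hι : Function.Injective ι)
    {s : Set R} (hs : s ⊆ Set.range ι)
    (hsep : ∀ a ∈ s, IsSeparable k a) {y : R} (hy : y ∈ Algebra.adjoin k s) : IsSeparable k y := by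
  have hle : Algebra.adjoin k s ≤ (separableClosure k K).toSubalgebra.map ι := by
    apply Algebra.adjoin_le
    intro a ha
    obtain ⟨b, rfl⟩ := hs ha
    refine ⟨b, ?_, rfl⟩
    have := hsep _ ha
    unfold IsSeparable at this
    rw [minpoly.algHom_eq ι hι] at this
    exact mem_separableClosure_iff.mpr this
  obtain ⟨z, hz, rfl⟩ := hle hy
  have := mem_separableClosure_iff.mp hz
  unfold IsSeparable at this ⊢
  change (minpoly k (ι z)).Separable
  rwa [minpoly.algHom_eq ι hι]

variable {k : Type u} [Field k] {R : Type v} [Ring R] [IsDomain R] [Algebra k R]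
  [FiniteDimensional k R]

open scoped IsMulCommutative in
/-- In a finite-dimensional domain, the algebra generated by pairwise commuting separable elements
consists of separable elements. -/
theorem isSeparable_of_mem_adjoin {s : Set R} (hcomm : ∀ a ∈ s, ∀ b ∈ s, a * b = b * a)
    (hsep : ∀ a ∈ s, IsSeparable k a) {y : R} (hy : y ∈ Algebra.adjoin k s) : IsSeparable k y := by
  have hc : IsMulCommutative (Algebra.adjoin k s) := Algebra.isMulCommutative_adjoin k hcomm
  let _ : Field (Algebra.adjoin k s) := fieldOfFiniteDimensional k (Algebra.adjoin k s)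
  refine isSeparable_of_mem_adjoin_aux (K := Algebra.adjoin k s) (Algebra.adjoin k s).val
    Subtype.val_injective ?_ hsep hy
  intro a ha
  exact ⟨⟨a, Algebra.subset_adjoin ha⟩, rfl⟩

end Adjoin

section Main

variable (k : Type u) [Field k] (D : Type w) [DivisionRing D] [Algebra k D]
  [Algebra.IsCentral k D] [FiniteDimensional k D]

open scoped IsMulCommutative in
theorem exists_maximal_commutative_separable :
    ∃ L : Subalgebra k D, (∀ x ∈ L, ∀ y ∈ L, x * y = y * x) ∧
      (∀ L' : Subalgebra k D, (∀ x ∈ L', ∀ y ∈ L', x * y = y * x) → L ≤ L' → L' = L) ∧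
      ∀ y ∈ L, IsSeparable k y := by
  let S : Set ℕ := {n | ∃ L : Subalgebra k D, (∀ x ∈ L, ∀ y ∈ L, x * y = y * x) ∧
    (∀ y ∈ L, IsSeparable k y) ∧ Module.finrank k L = n}
  have hne : S.Nonempty := by
    refine ⟨_, ⊥, ?_, ?_, rfl⟩
    · intro x hx y hy
      obtain ⟨a, rfl⟩ := Algebra.mem_bot.mp hx
      exact Algebra.commutes a y
    · intro y hy
      obtain ⟨a, rfl⟩ := Algebra.mem_bot.mp hy
      exact isSeparable_algebraMap a
  have hbdd : BddAbove S := by
    refine ⟨Module.finrank k D, ?_⟩
    rintro n ⟨L, _, _, rfl⟩
    exact Submodule.finrank_le (Subalgebra.toSubmodule L)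
  obtain ⟨L, hL, hLsep, hLn⟩ := Nat.sSup_mem hne hbdd
  -- any commutative separable subalgebra containing `L` equals `L`
  have hmaxsep : ∀ L₂ : Subalgebra k D, (∀ x ∈ L₂, ∀ y ∈ L₂, x * y = y * x) →
      (∀ y ∈ L₂, IsSeparable k y) → L ≤ L₂ → L₂ = L := by
    intro L₂ hc hs hle
    have h1 : Module.finrank k L₂ ≤ sSup S := le_csSup hbdd ⟨L₂, hc, hs, rfl⟩
    have h2 : Module.finrank k L ≤ Module.finrank k L₂ :=
      Submodule.finrank_mono (show Subalgebra.toSubmodule L ≤ Subalgebra.toSubmodule L₂ from hle)
    symm
    apply Subalgebra.toSubmodule_injective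
    exact Submodule.eq_of_le_of_finrank_eq
      (show Subalgebra.toSubmodule L ≤ Subalgebra.toSubmodule L₂ from hle) (by
        change Module.finrank k L = Module.finrank k L₂
        omega)
  -- the centralizer of `L` is `L`
  have hcent : Subalgebra.centralizer k (L : Set D) = L := by
    by_contra hcon
    have hc : IsMulCommutative L := .of_setLike_mul_comm hL
    let _ : Field L := fieldOfFiniteDimensional k L
    have hsepL : Algebra.IsSeparable k L := ⟨fun y => by
      have := hLsep y.1 y.2
      unfold IsSeparable at this ⊢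
      change (minpoly k (L.val y)).Separable at this
      rwa [minpoly.algHom_eq L.val Subtype.val_injective] at this⟩
    have hrange : L.val.range = L := Subalgebra.range_val L
    have hcon' : Subalgebra.centralizer k (L.val.range : Set D) ≠ L.val.range := by
      rw [hrange]; exact hcon
    obtain ⟨x, hxC, hxL, hxsep⟩ := exists_isSeparable_of_centralizer_ne L.val hcon'
    rw [hrange] at hxC hxL
    rw [Subalgebra.mem_centralizer_iff] at hxC
    let s : Set D := (L : Set D) ∪ {x}
    have hs : ∀ a ∈ s, ∀ b ∈ s, a * b = b * a := by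
      rintro a (ha | ha) b (hb | hb)
      · exact hL a ha b hb
      · rw [Set.mem_singleton_iff] at hb; subst hb; exact (hxC a ha)
      · rw [Set.mem_singleton_iff] at ha; subst ha; exact (hxC b hb).symm
      · rw [Set.mem_singleton_iff] at ha hb; subst ha; subst hb; rfl
    have hssep : ∀ a ∈ s, IsSeparable k a := by
      rintro a (ha | ha)
      · exact hLsep a ha
      · rw [Set.mem_singleton_iff] at ha; subst ha; exact hxsep
    have hcomm₂ : ∀ a ∈ Algebra.adjoin k s, ∀ b ∈ Algebra.adjoin k s, a * b = b * a := by
      have := Algebra.isMulCommutative_adjoin k hs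
      intro a ha b hb
      exact congrArg Subtype.val (mul_comm (⟨a, ha⟩ : Algebra.adjoin k s) ⟨b, hb⟩)
    have := hmaxsep (Algebra.adjoin k s) hcomm₂
      (fun y hy => isSeparable_of_mem_adjoin hs hssep hy)
      (fun a ha => Algebra.subset_adjoin (Or.inl ha))
    apply hxL
    rw [← this]
    exact Algebra.subset_adjoin (Or.inr rfl)
  refine ⟨L, hL, fun L' hL' hle => ?_, hLsep⟩
  apply le_antisymm _ hle
  intro y hy
  rw [← hcent, Subalgebra.mem_centralizer_iff]
  intro g hg
  exact hL' g (hle hg) y hy

end Main

end Groth.Agent.Lib.Helper1
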