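import Mathlib
set_option autoImplicit false
universe u v w
open Matrix Matrix.Module

namespace Groth.Agent.Lib.Helper1.WU

section Basic

variable {n : ℕ} {D : Type v} [DivisionRing D]

/-- the matrix whose `j`-th column is `w` -/
def colMat (j : Fin n) (w : Fin n → D) : Matrix (Fin n) (Fin n) D :=
  fun i l => if l = j then w i else 0

theorem colMat_smul (j : Fin n) (w v : Fin n → D) :
    colMat j w • v = fun i => w i * v j := by
  ext i
  rw [Matrix.Module.smul_apply]
  rw [Finset.sum_eq_single j]
  · simp [colMat]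
  · intro l _ hl; simp [colMat, hl]
  · intro h; exact absurd (Finset.mem_univ j) h

instance isSimpleModule_vec [NeZero n] : IsSimpleModule (Matrix (Fin n) (Fin n) D) (Fin n → D) := by
  rw [isSimpleModule_iff_toSpanSingleton_surjective]
  refine ⟨inferInstance, fun v hv w => ?_⟩
  obtain ⟨j, hj⟩ : ∃ j, v j ≠ 0 := by
    by_contra hcon
    push Not at hcon
    exact hv (funext hcon)
  refine ⟨colMat j (fun i => w i * (v j)⁻¹), ?_⟩
  change colMat j (fun i => w i * (v j)⁻¹) • v = w
  rw [colMat_smul]
  ext i
  rw [mul_assoc, inv_mul_cancel₀ hj, mul_one]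

/-- right multiplication by `d` on vectors, as a matrix-linear endomorphism -/
def rmul (d : D) : Module.End (Matrix (Fin n) (Fin n) D) (Fin n → D) where
  toFun v := fun i => v i * d
  map_add' v w := by ext i; simp [add_mul]
  map_smul' N v := by
    ext i
    simp [Finset.sum_mul, mul_assoc]

@[simp] theorem rmul_apply (d : D) (v : Fin n → D) (i : Fin n) : rmul d v i = v i * d := rfl

/-- `Dᵐᵒᵖ → End_{M_n(D)}(D^n)` -/
def rmulHom : Dᵐᵒᵖ →+* Module.End (Matrix (Fin n) (Fin n) D) (Fin n → D) where
  toFun d := rmul d.unop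
  map_one' := by ext v i; simp
  map_mul' a b := by ext v i; simp [mul_assoc]
  map_zero' := by ext v i; simp
  map_add' a b := by ext v i; simp [mul_add]

theorem rmulHom_bijective [NeZero n] : Function.Bijective (rmulHom (n := n) (D := D)) := by
  constructor
  · intro a b hab
    have := congrArg (fun f => f (Pi.single 0 1) 0) hab
    simpa [rmulHom] using this
  · intro f
    refine ⟨MulOpposite.op (f (Pi.single 0 1) 0), ?_⟩
    ext v i
    have hv : v = colMat 0 v • (Pi.single 0 1 : Fin n → D) := by
      rw [colMat_smul]; ext l; simp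
    conv_rhs => rw [hv, map_smul, colMat_smul]
    rfl

/-- `Dᵐᵒᵖ ≃+* End_{M_n(D)}(D^n)` -/
noncomputable def rmulEquiv [NeZero n] :
    Dᵐᵒᵖ ≃+* Module.End (Matrix (Fin n) (Fin n) D) (Fin n → D) :=
  RingEquiv.ofBijective rmulHom rmulHom_bijective

end Basic

section Iso

/-- Two simple modules over a simple Artinian ring are isomorphic. -/
theorem nonempty_linearEquiv_of_simple {R : Type u} [Ring R] [IsSimpleRing R] [IsArtinianRing R]
    (M : Type v) [AddCommGroup M] [Module R M] (N : Type w) [AddCommGroup N] [Module R N]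
    [IsSimpleModule R M] [IsSimpleModule R N] : Nonempty (M ≃ₗ[R] N) := by
  have hiso := IsSimpleRing.isIsotypic R (M × N)
  let S' : Submodule R (M × N) := LinearMap.range (LinearMap.inl R M N)
  let T' : Submodule R (M × N) := LinearMap.range (LinearMap.inr R M N)
  let eS : M ≃ₗ[R] S' := LinearEquiv.ofInjective _ LinearMap.inl_injective
  let eT : N ≃ₗ[R] T' := LinearEquiv.ofInjective _ LinearMap.inr_injective
  have : IsSimpleModule R S' := .congr eS.symm
  have : IsSimpleModule R T' := .congr eT.symm
  obtain ⟨e⟩ := hiso T' S'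
  exact ⟨eS.trans (e.trans eT.symm)⟩

end Iso

section Twist

variable {A : Type u} {A' : Type v} [Ring A] [Ring A'] (φ : A ≃+* A')
  (V' : Type w) [AddCommGroup V'] [Module A' V']

/-- `V'` regarded as an `A`-module through `φ` -/
def Tw (_φ : A ≃+* A') (V' : Type w) : Type w := V'

instance : AddCommGroup (Tw φ V') := inferInstanceAs (AddCommGroup V')

instance : Module A (Tw φ V') := Module.compHom V' (φ : A →+* A')

/-- forget the twist -/
def Tw.out {φ : A ≃+* A'} {V' : Type w} (v : Tw φ V') : V' := v

/-- put the twist -/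
def Tw.mk (φ : A ≃+* A') {V' : Type w} (v : V') : Tw φ V' := v

theorem tw_smul (a : A) (v : Tw φ V') : a • v = Tw.mk φ (φ a • v.out) := rfl

instance [IsSimpleModule A' V'] : IsSimpleModule A (Tw φ V') := by
  rw [isSimpleModule_iff_toSpanSingleton_surjective]
  have h := (isSimpleModule_iff_toSpanSingleton_surjective (R := A') (M := V')).mp inferInstance
  refine ⟨h.1, fun v hv w => ?_⟩
  obtain ⟨N', hN'⟩ := h.2 v.out hv w.out
  refine ⟨φ.symm N', ?_⟩
  change Tw.mk φ (φ (φ.symm N') • v.out) = w
  rw [RingEquiv.apply_symm_apply]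
  exact hN'

/-- `A`-linear endomorphisms of the twist are the `A'`-linear endomorphisms -/
def endTwEquiv : Module.End A (Tw φ V') ≃+* Module.End A' V' where
  toFun f :=
    { toFun := fun v => (f (Tw.mk φ v)).out
      map_add' := fun v w => f.map_add (Tw.mk φ v) (Tw.mk φ w)
      map_smul' := fun N' v => by
        have := f.map_smul (φ.symm N') (Tw.mk φ v)
        rw [tw_smul, tw_smul, RingEquiv.apply_symm_apply] at this
        exact this }
  invFun g :=
    { toFun := fun v => Tw.mk φ (g v.out)
      map_add' := fun v w => g.map_add v.out w.out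
      map_smul' := fun a v => g.map_smul (φ a) v.out }
  left_inv f := rfl
  right_inv g := rfl
  map_mul' f g := rfl
  map_add' f g := rfl

end Twist

section Main

variable (k : Type u) [Field k]

theorem rmul_algebraMap {n : ℕ} {D : Type v} [DivisionRing D] [Algebra k D] (c : k)
    (w : Fin n → D) :
    rmul (algebraMap k D c) w = algebraMap k (Matrix (Fin n) (Fin n) D) c • w := by
  ext i
  rw [rmul_apply, Matrix.Module.smul_apply, Finset.sum_eq_single i]
  · rw [Matrix.algebraMap_matrix_apply, if_pos rfl, smul_eq_mul, Algebra.commutes]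
  · intro j _ hj
    rw [Matrix.algebraMap_matrix_apply, if_neg (Ne.symm hj), zero_smul]
  · intro h; exact absurd (Finset.mem_univ i) h

/-- Uniqueness in Wedderburn's theorem. -/
theorem nonempty_algEquiv_of_matrix_algEquiv
    (D : Type v) [DivisionRing D] [Algebra k D] [FiniteDimensional k D]
    (D' : Type w) [DivisionRing D'] [Algebra k D']
    (n m : ℕ) (hn : n ≠ 0) (hm : m ≠ 0)
    (e : Matrix (Fin n) (Fin n) D ≃ₐ[k] Matrix (Fin m) (Fin m) D') :
    Nonempty (D ≃ₐ[k] D') := by
  have : NeZero n := ⟨hn⟩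
  have : NeZero m := ⟨hm⟩
  have : IsArtinianRing (Matrix (Fin n) (Fin n) D) := IsArtinianRing.of_finite k _
  let φ : Matrix (Fin n) (Fin n) D ≃+* Matrix (Fin m) (Fin m) D' := e.toRingEquiv
  obtain ⟨L⟩ := nonempty_linearEquiv_of_simple (R := Matrix (Fin n) (Fin n) D) (Fin n → D)
    (Tw φ (Fin m → D'))
  let Ψ : Dᵐᵒᵖ ≃+* D'ᵐᵒᵖ :=
    rmulEquiv.trans (L.conjRingEquiv.trans ((endTwEquiv φ (Fin m → D')).trans rmulEquiv.symm))
  refine ⟨AlgEquiv.ofRingEquiv (f := RingEquiv.unop Ψ) (fun c => ?_)⟩
  change (Ψ (MulOpposite.op (algebraMap k D c))).unop = algebraMap k D' c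
  have key : Ψ (MulOpposite.op (algebraMap k D c)) = MulOpposite.op (algebraMap k D' c) := by
    change rmulEquiv.symm _ = _
    rw [RingEquiv.symm_apply_eq]
    ext v' i
    change (L (rmul (algebraMap k D c) (L.symm (Tw.mk φ v')))).out i = v' i * algebraMap k D' c
    rw [rmul_algebraMap, map_smul, LinearEquiv.apply_symm_apply, tw_smul]
    change (e (algebraMap k _ c) • v') i = _
    rw [e.commutes, ← rmul_algebraMap]
    rfl
  rw [key]
  rfl

end Main

end Groth.Agent.Lib.Helper1.WU
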