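import Mathlib
import Groth.Prelude.Def_Curves
import Groth.Agent.Lib.Helper1.CSA.TensorSimple
import Groth.Agent.Lib.Helper1.CSA.WedderburnUnique
set_option autoImplicit false
universe u v w
open scoped TensorProduct

namespace Groth.Agent.Lib.Helper1

section Tool

variable {K : Type u} [Field K] {P : Type v} {Q : Type w} [Ring P] [Ring Q] [Algebra K P]
  [Algebra K Q]

/-- An algebra map from a simple algebra to a nontrivial algebra of the same finite dimension is
an isomorphism. -/
theorem bijective_of_isSimpleRing_of_finrank_eq [IsSimpleRing P] [Nontrivial Q]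
    [FiniteDimensional K P] [FiniteDimensional K Q] (f : P →ₐ[K] Q)
    (h : Module.finrank K P = Module.finrank K Q) : Function.Bijective f := by
  have hinj : Function.Injective f := (f : P →+* Q).injective
  exact ⟨hinj, (LinearMap.injective_iff_surjective_of_finrank_eq_finrank
    (f := f.toLinearMap) h).mp hinj⟩

/-- Splitting criterion: a simple `K`-algebra of dimension `n²` acting on a `K`-vector space of
dimension `n` is a matrix algebra. -/
theorem nonempty_algEquiv_matrix_of_algHom_end [IsSimpleRing P] [FiniteDimensional K P]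
    (V : Type w) [AddCommGroup V] [Module K V] [FiniteDimensional K V]
    (f : P →ₐ[K] Module.End K V) (n : ℕ) (hn : n ≠ 0) (hV : Module.finrank K V = n)
    (hP : Module.finrank K P = n * n) : Nonempty (P ≃ₐ[K] Matrix (Fin n) (Fin n) K) := by
  have hVnt : Nontrivial V := by
    apply Module.nontrivial_of_finrank_pos (R := K)
    rw [hV]; exact Nat.pos_of_ne_zero hn
  have hfin : Module.finrank K P = Module.finrank K (Module.End K V) := by
    rw [hP, Module.finrank_linearMap, hV]
  have hb := bijective_of_isSimpleRing_of_finrank_eq f hfin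
  let e1 : P ≃ₐ[K] Module.End K V := AlgEquiv.ofBijective f hb
  let b : Module.Basis (Fin n) K V := Module.finBasisOfFinrankEq K V hV
  exact ⟨e1.trans (algEquivMatrix b)⟩

end Tool

section RightModule

variable {k : Type u} [Field k] {B : Type v} [Ring B] [Algebra k B]
  {k' : Type w} [Field k'] [Algebra k k']

/-- `B` as a `k'`-vector space through right multiplication by `j(k')` -/
def RMod (_j : k' →ₐ[k] B) : Type v := B

variable (j : k' →ₐ[k] B)

instance : AddCommGroup (RMod j) := inferInstanceAs (AddCommGroup B)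

/-- forget -/
def RMod.out {j : k' →ₐ[k] B} (b : RMod j) : B := b

/-- put -/
def RMod.mk (j : k' →ₐ[k] B) (b : B) : RMod j := b

instance : Module k' (RMod j) :=
  Module.compHom B ((j : k' →+* B).toOpposite fun x y => by
    change j x * j y = j y * j x
    rw [← map_mul, ← map_mul, mul_comm])

theorem rmod_smul (c : k') (b : RMod j) : c • b = RMod.mk j (b.out * j c) := rfl

instance : Module k (RMod j) := Module.compHom (RMod j) (algebraMap k k')

instance : IsScalarTower k k' (RMod j) := IsScalarTower.of_algebraMap_smul fun _ _ => rfl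

/-- left multiplication, as a `k`-algebra map into the `k'`-linear endomorphisms -/
def lmulR : B →ₐ[k] Module.End k' (RMod j) where
  toFun b' :=
    { toFun := fun b => RMod.mk j (b' * b.out)
      map_add' := fun b c => mul_add b' b.out c.out
      map_smul' := fun c b => (mul_assoc b' b.out (j c)).symm }
  map_one' := by ext b; exact one_mul b.out
  map_mul' x y := by ext b; exact mul_assoc x y b.out
  map_zero' := by ext b; exact zero_mul b.out
  map_add' x y := by ext b; exact add_mul x y b.out
  commutes' c := by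
    ext b
    change algebraMap k B c * b.out = b.out * j (algebraMap k k' c)
    rw [AlgHom.commutes, Algebra.commutes]

/-- the identity, as a `k`-linear equivalence `B ≃ RMod j` -/
def rmodEquiv : B ≃ₗ[k] RMod j where
  toFun := RMod.mk j
  invFun := RMod.out
  left_inv _ := rfl
  right_inv _ := rfl
  map_add' _ _ := rfl
  map_smul' c b := by
    change RMod.mk j (c • b) = RMod.mk j (b * j (algebraMap k k' c))
    rw [AlgHom.commutes, ← Algebra.commutes, Algebra.smul_def]

include j in
/-- A central simple algebra of dimension `[k':k]²` containing `k'` is split by `k'`. -/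
theorem splits_of_algHom_of_finrank_eq_sq [Algebra.IsCentral k B] [IsSimpleRing B]
    [FiniteDimensional k B] [FiniteDimensional k k']
    (h : Module.finrank k B = Module.finrank k k' ^ 2) : Curves.Splits k B k' := by
  have hr : Module.finrank k k' ≠ 0 := (Module.finrank_pos).ne'
  have hfin : Module.Finite k (RMod j) := Module.Finite.equiv (rmodEquiv j)
  have hfin' : Module.Finite k' (RMod j) := Module.Finite.of_restrictScalars_finite k k' (RMod j)
  let f : k' ⊗[k] B →ₐ[k'] Module.End k' (RMod j) :=
    Algebra.TensorProduct.lift (Algebra.ofId k' _) (lmulR j) (fun c b => by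
      refine LinearMap.ext fun x => ?_
      change RMod.mk j ((b * x.out) * j c) = RMod.mk j (b * (x.out * j c))
      rw [mul_assoc])
  have hV : Module.finrank k' (RMod j) = Module.finrank k k' := by
    have h1 := Module.finrank_mul_finrank k k' (RMod j)
    rw [← LinearEquiv.finrank_eq (rmodEquiv j), h, sq] at h1
    exact Nat.eq_of_mul_eq_mul_left (Nat.pos_of_ne_zero hr) h1
  have hP : Module.finrank k' (k' ⊗[k] B) = Module.finrank k k' * Module.finrank k k' := by
    rw [Module.finrank_baseChange, h, sq]
  have hsimple : IsSimpleRing (k' ⊗[k] B) := isSimpleRing_tensor_of_isCentral_of_isSimpleRing k' B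
  exact ⟨_, hr, nonempty_algEquiv_matrix_of_algHom_end (RMod j) f _ hr hV hP⟩

end RightModule

section BaseChangeMatrix

variable (k : Type u) [Field k] (A : Type v) [Ring A] [Algebra k A] [Algebra.IsCentral k A]
  [IsSimpleRing A] [FiniteDimensional k A] (k' : Type w) [Field k'] [Algebra k k']

/-- `k' ⊗ M_a(A) ≃ M_a(k' ⊗ A)` for a central simple algebra `A`. -/
theorem nonempty_tensor_matrix_algEquiv (a : ℕ) (ha : a ≠ 0) :
    Nonempty (k' ⊗[k] Matrix (Fin a) (Fin a) A ≃ₐ[k'] Matrix (Fin a) (Fin a) (k' ⊗[k] A)) := by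
  have : NeZero a := ⟨ha⟩
  let f : k' ⊗[k] Matrix (Fin a) (Fin a) A →ₐ[k'] Matrix (Fin a) (Fin a) (k' ⊗[k] A) :=
    Algebra.TensorProduct.lift (Algebra.ofId k' _)
      ((Algebra.TensorProduct.includeRight : A →ₐ[k] k' ⊗[k] A).mapMatrix)
      (fun c M => Algebra.commutes c _)
  have hsimple : IsSimpleRing (k' ⊗[k] Matrix (Fin a) (Fin a) A) :=
    isSimpleRing_tensor_of_isCentral_of_isSimpleRing k' (Matrix (Fin a) (Fin a) A)
  have hnt : Nontrivial (k' ⊗[k] A) := nontrivial_tensor (k := k) k' A
  have hdim : Module.finrank k' (k' ⊗[k] Matrix (Fin a) (Fin a) A) =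
      Module.finrank k' (Matrix (Fin a) (Fin a) (k' ⊗[k] A)) := by
    rw [Module.finrank_baseChange, Module.finrank_matrix, Module.finrank_matrix,
      Module.finrank_baseChange]
  exact ⟨AlgEquiv.ofBijective f (bijective_of_isSimpleRing_of_finrank_eq f hdim)⟩

/-- Splitting is invariant under Brauer equivalence. -/
theorem splits_of_matrix_algEquiv (B : Type v) [Ring B] [Algebra k B] [Algebra.IsCentral k B]
    [IsSimpleRing B] [FiniteDimensional k B] (a b : ℕ) (ha : a ≠ 0) (hb : b ≠ 0)
    (e : Matrix (Fin a) (Fin a) A ≃ₐ[k] Matrix (Fin b) (Fin b) B)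
    (hB : Curves.Splits k B k') : Curves.Splits k A k' := by
  obtain ⟨r, hr, ⟨eB⟩⟩ := hB
  obtain ⟨iA⟩ := nonempty_tensor_matrix_algEquiv k A k' a ha
  obtain ⟨iB⟩ := nonempty_tensor_matrix_algEquiv k B k' b hb
  let c1 : Matrix (Fin a) (Fin a) (k' ⊗[k] A) ≃ₐ[k'] Matrix (Fin (b * r)) (Fin (b * r)) k' :=
    iA.symm.trans <| (Algebra.TensorProduct.congr AlgEquiv.refl e).trans <| iB.trans <|
      eB.mapMatrix.trans <| (Matrix.compAlgEquiv (Fin b) (Fin r) k' k').trans <|
      Matrix.reindexAlgEquiv k' k' finProdFinEquiv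
  have hsimple : IsSimpleRing (k' ⊗[k] A) := isSimpleRing_tensor_of_isCentral_of_isSimpleRing k' A
  have hart : IsArtinianRing (k' ⊗[k] A) := IsArtinianRing.of_finite k' _
  obtain ⟨s, hs, D'', _, _, _, ⟨w⟩⟩ :=
    IsSimpleRing.exists_algEquiv_matrix_divisionRing_finite k' (k' ⊗[k] A)
  let c2 : Matrix (Fin (a * s)) (Fin (a * s)) D'' ≃ₐ[k'] Matrix (Fin (b * r)) (Fin (b * r)) k' :=
    (Matrix.reindexAlgEquiv k' D'' finProdFinEquiv).symm.trans <|
      (Matrix.compAlgEquiv (Fin a) (Fin s) D'' k').symm.trans <| w.mapMatrix.symm.trans c1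
  obtain ⟨u⟩ := WU.nonempty_algEquiv_of_matrix_algEquiv k' D'' k' (a * s) (b * r)
    (Nat.mul_ne_zero ha hs.out) (Nat.mul_ne_zero hb hr) c2
  exact ⟨s, hs.out, ⟨w.trans u.mapMatrix⟩⟩

end BaseChangeMatrix

end Groth.Agent.Lib.Helper1
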