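import Mathlib
import Groth.Prelude.Def_Curves
import Groth.Agent.Lib.Helper1.CSA.SeparableSubfield
import Groth.Agent.Lib.Helper1.CSA.SplitTools

/-!
# Separable and Galois splitting fields of central simple algebras (helper1)

* `exists_field_algEquiv`: a commutative finite-dimensional domain is a field in the base universe
* `matOneAlgEquiv`: `M₁(A) ≃ A` for `Fin 1`
* `exists_separable_splitting_field`
* `splits_of_tower`: splitting fields can be enlarged
* `exists_galois_splitting_field`
-/

set_option autoImplicit false
universe u v w w'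
open scoped TensorProduct
open Polynomial

namespace Groth.Agent.Lib.Helper1

section AbstractField

open scoped IsMulCommutative in
/-- A commutative finite-dimensional domain over `k` is isomorphic to a field living in the
universe of `k`. -/
theorem exists_field_algEquiv (k : Type u) [Field k] (R : Type v) [Ring R] [IsDomain R]
    [Algebra k R] [FiniteDimensional k R] (hcomm : ∀ x y : R, x * y = y * x) :
    ∃ (k' : Type u) (_ : Field k') (_ : Algebra k k'), Nonempty (k' ≃ₐ[k] R) := by
  have hsmall : Small.{u} R := small_map (Module.finBasis k R).equivFun.toEquiv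
  have hc : IsMulCommutative (Shrink.{u} R) := by
    rw [isMulCommutative_iff]
    intro a b
    apply (Shrink.algEquiv k R).injective
    rw [map_mul, map_mul, hcomm]
  have hfin : FiniteDimensional k (Shrink.{u} R) :=
    Module.Finite.equiv (Shrink.algEquiv k R).symm.toLinearEquiv
  let _ : Field (Shrink.{u} R) := fieldOfFiniteDimensional k (Shrink.{u} R)
  exact ⟨Shrink.{u} R, inferInstance, inferInstance, ⟨Shrink.algEquiv k R⟩⟩

end AbstractField

section MatOne

/-- `M₁(A) ≃ A` with the standard instances on `Fin 1`. -/
def matOneAlgEquiv (k : Type u) [CommSemiring k] (A : Type v) [Semiring A] [Algebra k A] :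
    Matrix (Fin 1) (Fin 1) A ≃ₐ[k] A where
  toFun M := M 0 0
  invFun a := Matrix.of fun _ _ => a
  left_inv M := by
    ext i j
    fin_cases i; fin_cases j; rfl
  right_inv a := rfl
  map_mul' M N := by simp [Matrix.mul_apply]
  map_add' M N := rfl
  commutes' r := by simp [Matrix.algebraMap_matrix_apply]

end MatOne

section Split

variable (k : Type u) [Field k] (A : Type v) [Ring A] [Algebra k A]
  [Algebra.IsCentral k A] [IsSimpleRing A] [FiniteDimensional k A]

/-- Every central simple algebra is split by a finite separable extension. -/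
theorem exists_separable_splitting_field :
    ∃ (k' : Type u) (_ : Field k') (_ : Algebra k k'), FiniteDimensional k k' ∧
      Algebra.IsSeparable k k' ∧ Curves.Splits k A k' := by
  classical
  have : IsArtinianRing A := IsArtinianRing.of_finite k A
  obtain ⟨n, hn, D, hD, hDalg, hDfin, ⟨e⟩⟩ :=
    IsSimpleRing.exists_algEquiv_matrix_divisionRing_finite k A
  have hc : Algebra.IsCentral k (Matrix (Fin n) (Fin n) D) := Algebra.IsCentral.of_algEquiv k _ _ e
  have hcD : Algebra.IsCentral k D := isCentral_of_isCentral_matrix D n
  obtain ⟨L, hL, hmax, hsep⟩ := exists_maximal_commutative_separable k D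
  obtain ⟨k', _, _, ⟨φ⟩⟩ := exists_field_algEquiv k L (fun x y => Subtype.ext (hL x.1 x.2 y.1 y.2))
  have hfin : FiniteDimensional k k' := Module.Finite.equiv φ.symm.toLinearEquiv
  have hsep' : Algebra.IsSeparable k k' := ⟨fun y => by
    have := hsep (φ y).1 (φ y).2
    unfold IsSeparable at this ⊢
    change (minpoly k (L.val (φ y))).Separable at this
    rwa [minpoly.algHom_eq L.val Subtype.val_injective, minpoly.algEquiv_eq] at this⟩
  refine ⟨k', inferInstance, inferInstance, hfin, hsep', ?_⟩
  have hdim : Module.finrank k D = Module.finrank k k' ^ 2 := by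
    rw [finrank_eq_sq_of_maximal_commutative L hL hmax, φ.toLinearEquiv.finrank_eq]
  have hD' : Curves.Splits k D k' :=
    splits_of_algHom_of_finrank_eq_sq (L.val.comp φ.toAlgHom) hdim
  exact splits_of_matrix_algEquiv k A k' D 1 n one_ne_zero hn.out
    ((matOneAlgEquiv k A).trans e) hD'

end Split

section Tower

variable (k : Type u) [Field k] (A : Type v) [Ring A] [Algebra k A]
  [Algebra.IsCentral k A] [IsSimpleRing A] [FiniteDimensional k A]
  (k' : Type w) [Field k'] [Algebra k k'] (k'' : Type w') [Field k''] [Algebra k k'']
  [Algebra k' k''] [IsScalarTower k k' k'']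

/-- A splitting field stays a splitting field after enlarging it. -/
theorem splits_of_tower (h : Curves.Splits k A k') : Curves.Splits k A k'' := by
  obtain ⟨n, hn, ⟨φ⟩⟩ := h
  have hA : Module.finrank k A = n * n := by
    have h1 := φ.toLinearEquiv.finrank_eq
    rw [Module.finrank_baseChange, Module.finrank_matrix] at h1
    simpa using h1
  let ρ : A →ₐ[k] Matrix (Fin n) (Fin n) k' :=
    ((φ.restrictScalars k) : k' ⊗[k] A →ₐ[k] Matrix (Fin n) (Fin n) k').comp
      Algebra.TensorProduct.includeRight
  let ρ'' : A →ₐ[k] Matrix (Fin n) (Fin n) k'' :=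
    ((IsScalarTower.toAlgHom k k' k'').mapMatrix (m := Fin n)).comp ρ
  let f : k'' ⊗[k] A →ₐ[k''] Matrix (Fin n) (Fin n) k'' :=
    Algebra.TensorProduct.lift (Algebra.ofId k'' _) ρ'' (fun c a => Algebra.commutes c _)
  have hsimple : IsSimpleRing (k'' ⊗[k] A) := isSimpleRing_tensor_of_isCentral_of_isSimpleRing k'' A
  have : NeZero n := ⟨hn⟩
  have hdim : Module.finrank k'' (k'' ⊗[k] A) =
      Module.finrank k'' (Matrix (Fin n) (Fin n) k'') := by
    rw [Module.finrank_baseChange, Module.finrank_matrix, hA]
    simp
  exact ⟨n, hn, ⟨AlgEquiv.ofBijective f (bijective_of_isSimpleRing_of_finrank_eq f hdim)⟩⟩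

end Tower

section Galois

variable (k : Type u) [Field k] (A : Type v) [Ring A] [Algebra k A]
  [Algebra.IsCentral k A] [IsSimpleRing A] [FiniteDimensional k A]

/-- Every central simple algebra is split by a finite Galois extension. -/
theorem exists_galois_splitting_field :
    ∃ (k' : Type u) (_ : Field k') (_ : Algebra k k'), FiniteDimensional k k' ∧
      IsGalois k k' ∧ Curves.Splits k A k' := by
  obtain ⟨k', _, _, hfin, hsep, hsplit⟩ := exists_separable_splitting_field k A
  let ι : k' →ₐ[k] SeparableClosure k := IsSepClosed.lift
  let _ : Algebra k' (SeparableClosure k) := ι.toRingHom.toAlgebra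
  have : IsScalarTower k k' (SeparableClosure k) :=
    IsScalarTower.of_algebraMap_eq (fun c => (ι.commutes c).symm)
  exact ⟨IntermediateField.normalClosure k k' (SeparableClosure k), inferInstance, inferInstance, inferInstance,
    inferInstance, splits_of_tower k A k' _ hsplit⟩

end Galois

end Groth.Agent.Lib.Helper1
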