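import Mathlib.RingTheory.SimpleModule.WedderburnArtin
import Mathlib.RingTheory.SimpleModule.Isotypic
import Mathlib.LinearAlgebra.FiniteDimensional.Basic
import Mathlib.LinearAlgebra.Dimension.Constructions
import Mathlib.LinearAlgebra.Dimension.Finite

set_option autoImplicit false
universe u v w

namespace Groth.Agent.Lib.Helper1

section

variable (k : Type u) [Field k] (R : Type v) [Ring R] [Algebra k R] [IsSimpleRing R]
  [IsArtinianRing R]
  (M : Type w) [AddCommGroup M] [Module k M] [Module R M] [IsScalarTower k R M]
  (N : Type w) [AddCommGroup N] [Module k N] [Module R N] [IsScalarTower k R N]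

/-- Two simple submodules of modules over a simple Artinian ring are isomorphic. -/
theorem nonempty_linearEquiv_of_isSimpleModule (S : Submodule R M) (T : Submodule R N)
    [IsSimpleModule R S] [IsSimpleModule R T] : Nonempty (S ≃ₗ[R] T) := by
  have hiso := IsSimpleRing.isIsotypic R (M × N)
  let S' : Submodule R (M × N) := S.map (LinearMap.inl R M N)
  let T' : Submodule R (M × N) := T.map (LinearMap.inr R M N)
  let eS : S ≃ₗ[R] S' := S.equivMapOfInjective _ LinearMap.inl_injective
  let eT : T ≃ₗ[R] T' := T.equivMapOfInjective _ LinearMap.inr_injective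
  have : IsSimpleModule R S' := .congr eS.symm
  have : IsSimpleModule R T' := .congr eT.symm
  obtain ⟨e⟩ := hiso T' S'
  exact ⟨eS.trans (e.trans eT.symm)⟩

/-- Over a simple Artinian `k`-algebra, two modules of the same finite `k`-dimension are
isomorphic. -/
theorem nonempty_linearEquiv_of_finrank_eq [Module.Finite k M] [Module.Finite k N]
    (h : Module.finrank k M = Module.finrank k N) : Nonempty (M ≃ₗ[R] N) := by
  have hfinM : Module.Finite R M := Module.Finite.of_restrictScalars_finite k R M
  have hfinN : Module.Finite R N := Module.Finite.of_restrictScalars_finite k R N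
  rcases subsingleton_or_nontrivial M with hM | hM
  · have h0 : Module.finrank k N = 0 := by rw [← h]; exact Module.finrank_zero_of_subsingleton
    have hN : Subsingleton N := Module.finrank_zero_iff.mp h0
    exact ⟨LinearEquiv.ofSubsingleton M N⟩
  have hN : Nontrivial N := by
    by_contra hcon
    rw [not_nontrivial_iff_subsingleton] at hcon
    have h0 : Module.finrank k M = 0 := by rw [h]; exact Module.finrank_zero_of_subsingleton
    have : Subsingleton M := Module.finrank_zero_iff.mp h0
    exact not_subsingleton M this
  obtain ⟨m, hm, S, hS, ⟨eM⟩⟩ := (IsSimpleRing.isIsotypic R M).linearEquiv_fun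
  obtain ⟨n, hn, T, hT, ⟨eN⟩⟩ := (IsSimpleRing.isIsotypic R N).linearEquiv_fun
  obtain ⟨e⟩ := nonempty_linearEquiv_of_isSimpleModule R M N S T
  have hSfin : Module.Finite k S :=
    Module.Finite.of_injective (S.subtype.restrictScalars k) Subtype.val_injective
  have hTfin : Module.Finite k T :=
    Module.Finite.of_injective (T.subtype.restrictScalars k) Subtype.val_injective
  have hS0 : 0 < Module.finrank k S := by
    have : Nontrivial S := IsSimpleModule.nontrivial R S
    exact Module.finrank_pos
  have h1 : Module.finrank k M = m * Module.finrank k S := by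
    rw [LinearEquiv.finrank_eq (eM.restrictScalars k), Module.finrank_pi_fintype]
    simp
  have h2 : Module.finrank k N = n * Module.finrank k S := by
    rw [LinearEquiv.finrank_eq (eN.restrictScalars k), Module.finrank_pi_fintype,
      LinearEquiv.finrank_eq (e.restrictScalars k)]
    simp
  have hmn : m = n := by
    rw [h1, h2] at h
    exact Nat.eq_of_mul_eq_mul_right hS0 h
  subst hmn
  exact ⟨eM.trans ((LinearEquiv.piCongrRight fun _ => e).trans eN.symm)⟩

end

end Groth.Agent.Lib.Helper1
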