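import Groth.Agent.Lib.Helper1.CSA.TensorSimple
import Groth.Agent.Lib.Helper1.CSA.SimpleModules
import Mathlib.Algebra.Azumaya.Defs

set_option autoImplicit false
universe u v w
open scoped TensorProduct
open MulOpposite

namespace Groth.Agent.Lib.Helper1

section SkolemNoether

variable {k : Type u} [Field k] {A : Type v} [Ring A] [Algebra k A]
  {B : Type w} [Ring B] [Algebra k B]

/-- The action map of `B ⊗ Aᵐᵒᵖ` on `A` twisted by `f : B → A`: `(b ⊗ a') x = f b * x * a'`. -/
noncomputable def twistHom (f : B →ₐ[k] A) : B ⊗[k] Aᵐᵒᵖ →ₐ[k] Module.End k A :=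
  (AlgHom.mulLeftRight k A).comp (Algebra.TensorProduct.map f (AlgHom.id k Aᵐᵒᵖ))

theorem twistHom_tmul (f : B →ₐ[k] A) (b : B) (a : Aᵐᵒᵖ) (x : A) :
    twistHom f (b ⊗ₜ a) x = f b * x * a.unop := by
  simp [twistHom]

/-- `A` as a `B ⊗ Aᵐᵒᵖ`-module through `f`. -/
def Twist (_f : B →ₐ[k] A) : Type v := A

instance (f : B →ₐ[k] A) : AddCommGroup (Twist f) := inferInstanceAs (AddCommGroup A)
instance (f : B →ₐ[k] A) : Module k (Twist f) := inferInstanceAs (Module k A)
noncomputable instance (f : B →ₐ[k] A) : Module (B ⊗[k] Aᵐᵒᵖ) (Twist f) :=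
  Module.compHom A (twistHom f).toRingHom

/-- The identity map `Twist f → A`. -/
def Twist.toA (f : B →ₐ[k] A) (x : Twist f) : A := x
/-- The identity map `A → Twist f`. -/
def Twist.ofA (f : B →ₐ[k] A) (x : A) : Twist f := x

theorem twist_smul_def (f : B →ₐ[k] A) (r : B ⊗[k] Aᵐᵒᵖ) (x : Twist f) :
    r • x = Twist.ofA f ((twistHom f r) (Twist.toA f x)) := rfl

instance (f : B →ₐ[k] A) : IsScalarTower k (B ⊗[k] Aᵐᵒᵖ) (Twist f) where
  smul_assoc c r x := by
    change (twistHom f (c • r)) (Twist.toA f x) = c • (twistHom f r) (Twist.toA f x)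
    rw [map_smul]
    rfl

instance (f : B →ₐ[k] A) [FiniteDimensional k A] : Module.Finite k (Twist f) :=
  inferInstanceAs (Module.Finite k A)

theorem skolem_noether [Algebra.IsCentral k A] [IsSimpleRing A] [FiniteDimensional k A]
    [IsSimpleRing B] (f g : B →ₐ[k] A) :
    ∃ x : Aˣ, ∀ b : B, f b = (x : A) * g b * (x⁻¹ : Aˣ) := by
  have hBfin : FiniteDimensional k B :=
    FiniteDimensional.of_injective f.toLinearMap (RingHom.injective f.toRingHom)
  have hAopfin : FiniteDimensional k Aᵐᵒᵖ := inferInstance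
  have hRs : IsSimpleRing (B ⊗[k] Aᵐᵒᵖ) :=
    isSimpleRing_tensor_of_isCentral_of_isSimpleRing B Aᵐᵒᵖ
  have hRa : IsArtinianRing (B ⊗[k] Aᵐᵒᵖ) := IsArtinianRing.of_finite k _
  have t1 : IsScalarTower k (B ⊗[k] Aᵐᵒᵖ) (Twist f) := inferInstance
  have t2 : IsScalarTower k (B ⊗[k] Aᵐᵒᵖ) (Twist g) := inferInstance
  have key := nonempty_linearEquiv_of_finrank_eq k (B ⊗[k] Aᵐᵒᵖ) (Twist f) (Twist g) rfl
  obtain ⟨e⟩ := key
  -- compatibility of `e` with the two actions
  let E : A → A := fun x => Twist.toA g (e (Twist.ofA f x))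
  let E' : A → A := fun x => Twist.toA f (e.symm (Twist.ofA g x))
  have hEE' : ∀ x, E (E' x) = x := fun x => e.apply_symm_apply _
  have hE'E : ∀ x, E' (E x) = x := fun x => e.symm_apply_apply _
  have he : ∀ (b : B) (a x : A), E (f b * x * a) = g b * E x * a := by
    intro b a x
    have h1 := e.map_smul (b ⊗ₜ[k] op a) (Twist.ofA f x)
    rw [twist_smul_def, twist_smul_def] at h1
    have h2 := congrArg (Twist.toA g) h1
    simp only [Twist.toA, Twist.ofA, twistHom_tmul, unop_op] at h2
    exact h2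
  have he' : ∀ (b : B) (a x : A), E' (g b * x * a) = f b * E' x * a := by
    intro b a x
    have h1 := e.symm.map_smul (b ⊗ₜ[k] op a) (Twist.ofA g x)
    rw [twist_smul_def, twist_smul_def] at h1
    have h2 := congrArg (Twist.toA f) h1
    simp only [Twist.toA, Twist.ofA, twistHom_tmul, unop_op] at h2
    exact h2
  set u : A := E 1 with hu
  set v : A := E' 1 with hv
  have hex : ∀ x : A, E x = u * x := by
    intro x
    have := he 1 x 1
    simpa using this
  have hex' : ∀ x : A, E' x = v * x := by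
    intro x
    have := he' 1 x 1
    simpa using this
  have huv : u * v = 1 := by
    rw [← hex v]
    exact hEE' 1
  have hvu : v * u = 1 := by
    rw [← hex' u]
    exact hE'E 1
  refine ⟨⟨v, u, hvu, huv⟩, fun b => ?_⟩
  change f b = v * g b * u
  have h3 : u * f b = g b * u := by
    rw [← hex (f b)]
    have := he b 1 1
    simpa using this
  calc f b = v * u * f b := by rw [hvu, one_mul]
    _ = v * (u * f b) := by rw [mul_assoc]
    _ = v * g b * u := by rw [h3, mul_assoc]

end SkolemNoether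

end Groth.Agent.Lib.Helper1
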