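import Mathlib
import Groth.Prelude.Def_Curves
import Groth.Agent.Lib.Helper1.CSA.SkolemNoether
import Groth.Agent.Lib.Helper1.CSA.SeparableSplitting
import Groth.Agent.H8.TsenLang5

/-!
# Rationality of the reduced norm and triviality of the Brauer group of a `C_1` field (helper1)

* `det_algHom_mem_range`: for a CSA `D/K`, a finite Galois `M/K` and `ρ : D →ₐ[K] M_n(M)`,
  `det (ρ d) ∈ K`
* `isHomogeneous_det_of_linear`
* `finrank_eq_one_of_isCr_one`
-/

set_option autoImplicit false
universe u v w
open scoped TensorProduct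
open MvPolynomial

namespace Groth.Agent.Lib.Helper1

section Rational

variable {K : Type u} [Field K] {M : Type v} [Field M] [Algebra K M] [FiniteDimensional K M]
  [IsGalois K M] {D : Type w} [Ring D] [Algebra K D] [Algebra.IsCentral K D] [IsSimpleRing D]
  [FiniteDimensional K D] {n : ℕ} [NeZero n]

/-- The determinant of a representation of a central simple `K`-algebra over a finite Galois
extension `M` of `K` takes values in `K` (rationality of the reduced norm). -/
theorem det_algHom_mem_range (ρ : D →ₐ[K] Matrix (Fin n) (Fin n) M) (d : D) :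
    (ρ d).det ∈ Set.range (algebraMap K M) := by
  rw [IsGalois.mem_range_algebraMap_iff_fixed]
  intro σ
  let f : M ⊗[K] D →ₐ[M] Matrix (Fin n) (Fin n) M :=
    Algebra.TensorProduct.lift (Algebra.ofId M _) ρ (fun c a => Algebra.commutes c _)
  let g : M ⊗[K] D →ₐ[M] Matrix (Fin n) (Fin n) M :=
    Algebra.TensorProduct.lift (Algebra.ofId M _)
      (((σ : M ≃ₐ[K] M).mapMatrix (m := Fin n) : Matrix (Fin n) (Fin n) M →ₐ[K] _).comp ρ)
      (fun c a => Algebra.commutes c _)
  have hsimple : IsSimpleRing (M ⊗[K] D) := isSimpleRing_tensor_of_isCentral_of_isSimpleRing M D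
  obtain ⟨x, hx⟩ := skolem_noether g f
  have h1 := hx (1 ⊗ₜ[K] d)
  have hf : f (1 ⊗ₜ[K] d) = ρ d := by simp [f]
  have hg : g (1 ⊗ₜ[K] d) = (σ : M ≃ₐ[K] M).mapMatrix (ρ d) := by simp [g]
  rw [hf, hg] at h1
  have h2 : ((σ : M ≃ₐ[K] M).mapMatrix (ρ d)).det = (ρ d).det := by
    rw [h1]
    exact Matrix.det_units_conj x (ρ d)
  exact (RingHom.map_det ((σ : M ≃ₐ[K] M) : M →+* M) (ρ d)).trans h2

end Rational

section COne

open Groth.Agent.H8.TsenLang

/-- the determinant of a matrix of linear forms is a form of degree the size -/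
theorem isHomogeneous_det_of_linear {R : Type u} [CommRing R] {σ : Type v} {n : ℕ}
    (Φ : Matrix (Fin n) (Fin n) (MvPolynomial σ R)) (hΦ : ∀ p q, (Φ p q).IsHomogeneous 1) :
    Φ.det.IsHomogeneous n := by
  rw [Matrix.det_apply]
  refine IsHomogeneous.sum _ _ _ fun π _ => ?_
  have hprod : (∏ q, Φ (π q) q).IsHomogeneous n := by
    have := IsHomogeneous.prod Finset.univ (fun q => Φ (π q) q) (fun _ => 1)
      (fun q _ => hΦ (π q) q)
    simpa using this
  rcases Int.units_eq_one_or (Equiv.Perm.sign π) with h | h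
  · rw [h, one_smul]; exact hprod
  · rw [h, Units.neg_smul, one_smul]; exact hprod.neg

/-- Over a `C_1` field every finite-dimensional central division algebra is trivial. -/
theorem finrank_eq_one_of_isCr_one (K : Type u) [Field K] (hK : Curves.IsCr K 1)
    (D : Type v) [DivisionRing D] [Algebra K D] [Algebra.IsCentral K D] [FiniteDimensional K D] :
    Module.finrank K D = 1 := by
  classical
  obtain ⟨M, _, _, hfin, hgal, n, hn, ⟨φ⟩⟩ := exists_galois_splitting_field K D
  have hA : Module.finrank K D = n * n := by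
    have h1 := φ.toLinearEquiv.finrank_eq
    rw [Module.finrank_baseChange, Module.finrank_matrix] at h1
    simpa using h1
  by_cases hn1 : n = 1
  · rw [hA, hn1]
  exfalso
  have hn2 : 2 ≤ n := by omega
  have : NeZero n := ⟨hn⟩
  let ρ : D →ₐ[K] Matrix (Fin n) (Fin n) M :=
    ((φ.restrictScalars K) : M ⊗[K] D →ₐ[K] Matrix (Fin n) (Fin n) M).comp
      Algebra.TensorProduct.includeRight
  let b : Module.Basis (Fin (n * n)) K D := Module.finBasisOfFinrankEq K D hA
  let Φ : Matrix (Fin n) (Fin n) (MvPolynomial (Fin (n * n)) M) :=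
    fun p q => ∑ i, C (ρ (b i) p q) * X i
  have hΦ : ∀ p q, (Φ p q).IsHomogeneous 1 := fun p q =>
    IsHomogeneous.sum _ _ _ fun i _ => isHomogeneous_C_mul_X _ i
  have hdet : Φ.det.IsHomogeneous n := isHomogeneous_det_of_linear Φ hΦ
  obtain ⟨π, hπ⟩ := LinearMap.exists_leftInverse_of_injective (Algebra.linearMap K M)
    (LinearMap.ker_eq_bot.mpr (FaithfulSMul.algebraMap_injective K M))
  have hπ' : ∀ c : K, π (algebraMap K M c) = c := fun c => LinearMap.congr_fun hπ c
  obtain ⟨a, ha, haP⟩ := hK (n * n) n (coeffMap π Φ.det) (coeffMap_isHomogeneous π hdet)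
    (by omega) (by rw [pow_one]; nlinarith)
  rw [eval_coeffMap] at haP
  let x : D := ∑ i, a i • b i
  have hx0 : x ≠ 0 := by
    intro h0
    apply ha
    funext i
    exact Fintype.linearIndependent_iff.mp b.linearIndependent a h0 i
  have heval : (eval fun v => algebraMap K M (a v)).mapMatrix Φ = ρ x := by
    ext p q
    simp only [RingHom.mapMatrix_apply, Matrix.map_apply, Φ, map_sum, map_mul, eval_C, eval_X, x,
      map_smul, Matrix.sum_apply, Matrix.smul_apply]
    refine Finset.sum_congr rfl fun i _ => ?_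
    rw [Algebra.smul_def, mul_comm]
  have hdetx : eval (fun v => algebraMap K M (a v)) Φ.det = (ρ x).det := by
    rw [RingHom.map_det, heval]
  rw [hdetx] at haP
  obtain ⟨c, hc⟩ := det_algHom_mem_range ρ x
  rw [← hc, hπ'] at haP
  rw [haP, map_zero] at hc
  have hunit : IsUnit (ρ x) := (IsUnit.mk0 x hx0).map ρ
  have := (Matrix.isUnit_iff_isUnit_det _).mp hunit
  rw [← hc] at this
  exact not_isUnit_zero this

end COne

end Groth.Agent.Lib.Helper1
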