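import Groth.Agent.Lib.Helper1.CSA.RedNormUnique
import Groth.Agent.Lib.Helper1.CSA.ReducedNorm

/-!
# Existence of the reduced norm; reduced norm on a maximal subfield (helper1)

* `exists_isRedNorm`: every f.d. central simple algebra has a reduced norm (`CSAGal.IsRedNorm`)
* `redNorm_algHom_eq_norm`: for `ι : K →ₐ[k] A` with `[K:k] = deg A`, `N (ι x) = N_{K/k}(x)`
-/

set_option autoImplicit false
universe u v w w'
open scoped TensorProduct

namespace Groth.Agent.Lib.Helper1.RedNormU

section Exists

variable (k : Type u) [Field k] (A : Type v) [Ring A] [Algebra k A]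
  [Algebra.IsCentral k A] [IsSimpleRing A] [FiniteDimensional k A]

/-- Every finite-dimensional central simple algebra has a reduced norm. -/
theorem exists_isRedNorm : ∃ N : A →* k, CSAGal.IsRedNorm k A N := by
  classical
  obtain ⟨M, _, _, hfin, hgal, n, hn, ⟨φ⟩⟩ := exists_galois_splitting_field k A
  have : NeZero n := ⟨hn⟩
  let ρ : A →ₐ[k] Matrix (Fin n) (Fin n) M :=
    (φ.toAlgHom.restrictScalars k).comp Algebra.TensorProduct.includeRight
  have hmem : ∀ a : A, ∃ c : k, algebraMap k M c = (ρ a).det := fun a =>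
    det_algHom_mem_range ρ a
  choose f hf using hmem
  have hinj := (algebraMap k M).injective
  refine ⟨{ toFun := f, map_one' := ?_, map_mul' := ?_ }, M, inferInstance, inferInstance, hfin, n, φ,
    fun a => hf a⟩
  · apply hinj
    rw [hf, map_one, Matrix.det_one, map_one]
  · intro a b
    apply hinj
    rw [hf, map_mul, Matrix.det_mul, map_mul, hf, hf]

/-- The reduced norm restricted to a subfield of maximal degree is the field norm. -/
theorem redNorm_algHom_eq_norm (N : A →* k) (hN : CSAGal.IsRedNorm k A N)
    (K : Type w) [Field K] [Algebra k K] [FiniteDimensional k K] {n : ℕ} (hn : n ≠ 0)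
    (hA : Module.finrank k A = n ^ 2) (hK : Module.finrank k K = n) (ι : K →ₐ[k] A) (x : K) :
    N (ι x) = Algebra.norm k x := by
  obtain ⟨K₁, _, _, _, n₁, φ₁, h₁⟩ := hN
  obtain rfl : n₁ = n :=
    Groth.Agent.Lib.Helper39.size_eq_of_splitting (k := k) (A := A) (K := K₁) hA φ₁
  apply (algebraMap k K₁).injective
  rw [h₁, (det_trace_splitting_algHom k A K₁ K ι x hn hA hK φ₁).1]

end Exists

end Groth.Agent.Lib.Helper1.RedNormU
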