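import Groth.Agent.Lib.Helper1.CSA.MaxCommutative
import Mathlib.Order.Lattice.Nat

set_option autoImplicit false
universe u v w
open scoped TensorProduct
open MulOpposite

namespace Groth.Agent.Lib.Helper1

section

variable {k : Type u} [Field k] {D : Type v} [DivisionRing D] [Algebra k D] [FiniteDimensional k D]

theorem exists_maximal_commutative_subalgebra :
    ∃ L : Subalgebra k D, (∀ x ∈ L, ∀ y ∈ L, x * y = y * x) ∧
      (∀ L' : Subalgebra k D, (∀ x ∈ L', ∀ y ∈ L', x * y = y * x) → L ≤ L' → L' = L) := by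
  let S : Set ℕ := {n | ∃ L : Subalgebra k D, (∀ x ∈ L, ∀ y ∈ L, x * y = y * x) ∧
    Module.finrank k L = n}
  have hne : S.Nonempty := by
    refine ⟨_, ⊥, ?_, rfl⟩
    intro x hx y hy
    obtain ⟨a, rfl⟩ := Algebra.mem_bot.mp hx
    exact Algebra.commutes a y
  have hbdd : BddAbove S := by
    refine ⟨Module.finrank k D, ?_⟩
    rintro n ⟨L, _, rfl⟩
    exact Submodule.finrank_le (Subalgebra.toSubmodule L)
  obtain ⟨L, hL, hLn⟩ := Nat.sSup_mem hne hbdd
  refine ⟨L, hL, fun L' hL' hle => ?_⟩
  have h1 : Module.finrank k L' ≤ sSup S := le_csSup hbdd ⟨L', hL', rfl⟩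
  have h2 : Module.finrank k L ≤ Module.finrank k L' :=
    Submodule.finrank_mono (show Subalgebra.toSubmodule L ≤ Subalgebra.toSubmodule L' from hle)
  symm
  apply Subalgebra.toSubmodule_injective
  exact Submodule.eq_of_le_of_finrank_eq
    (show Subalgebra.toSubmodule L ≤ Subalgebra.toSubmodule L' from hle) (by
      change Module.finrank k L = Module.finrank k L'
      omega)

theorem isSquare_finrank_of_divisionRing [Algebra.IsCentral k D] :
    IsSquare (Module.finrank k D) := by
  obtain ⟨L, hcomm, hmax⟩ := exists_maximal_commutative_subalgebra (k := k) (D := D)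
  exact ⟨Module.finrank k L, by
    rw [finrank_eq_sq_of_maximal_commutative L hcomm hmax, sq]⟩

end

theorem isSquare_finrank_of_isCentral_of_isSimpleRing (k : Type u) [Field k] (A : Type v) [Ring A]
    [Algebra k A] [Algebra.IsCentral k A] [IsSimpleRing A] [FiniteDimensional k A] :
    IsSquare (Module.finrank k A) := by
  have : IsArtinianRing A := IsArtinianRing.of_finite k A
  obtain ⟨n, hn, D, hD, hDalg, hDfin, ⟨e⟩⟩ :=
    IsSimpleRing.exists_algEquiv_matrix_divisionRing_finite k A
  have hc : Algebra.IsCentral k (Matrix (Fin n) (Fin n) D) := Algebra.IsCentral.of_algEquiv k _ _ e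
  have hcD : Algebra.IsCentral k D := isCentral_of_isCentral_matrix D n
  obtain ⟨r, hr⟩ := isSquare_finrank_of_divisionRing (k := k) (D := D)
  refine ⟨n * r, ?_⟩
  rw [LinearEquiv.finrank_eq e.toLinearEquiv, Module.finrank_matrix, hr]
  simp only [Fintype.card_fin]
  ring

end Groth.Agent.Lib.Helper1
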