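import Groth.Agent.Lib.Helper1.CSA.RedNormRange
import Groth.Agent.Lib.Helper1.CSA.RedNormExists
import Groth.Agent.Lib.Helper1.CSA.FinrankSquare
import Groth.Agent.Lib.Helper1.CSA.SplitTools
import Groth.Agent.Lib.Helper1.CSA.SeparableSplitting

/-!
# Reduced norms are field norms from splitting fields (helper1)

* `exists_maximal_commutative_subalgebra_mem`: maximal commutative subalgebra through an element
* `exists_field_norm_eq`: every reduced norm of a unit of a CSA `A` is `N_{L/k}(y)` for a finite
  field extension `L/k` splitting `A` (a maximal subfield of the division algebra part)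
* `splits_of_splits_baseChange`: if `L ⊇ K ⊇ k` and `L` splits `K ⊗ A` over `K`, then `L` splits `A`
-/

set_option autoImplicit false
universe u v w w'
open scoped TensorProduct

namespace Groth.Agent.Lib.Helper1.RedNormField

open Groth.Agent.Lib.Helper1.RedNormRange Groth.Agent.Lib.Helper1.RedNormU

section MaxComm

variable {k : Type u} [Field k] {D : Type v} [DivisionRing D] [Algebra k D] [FiniteDimensional k D]

/-- A maximal commutative subalgebra containing a given element. -/
theorem exists_maximal_commutative_subalgebra_mem (y : D) :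
    ∃ L : Subalgebra k D, y ∈ L ∧ (∀ x ∈ L, ∀ z ∈ L, x * z = z * x) ∧
      (∀ L' : Subalgebra k D, (∀ x ∈ L', ∀ z ∈ L', x * z = z * x) → L ≤ L' → L' = L) := by
  let S : Set ℕ := {n | ∃ L : Subalgebra k D, y ∈ L ∧ (∀ x ∈ L, ∀ z ∈ L, x * z = z * x) ∧
    Module.finrank k L = n}
  have hne : S.Nonempty := by
    refine ⟨_, Algebra.adjoin k {y}, Algebra.subset_adjoin (Set.mem_singleton y), ?_, rfl⟩
    intro x hx z hz
    have hc : ∀ a ∈ ({y} : Set D), ∀ b ∈ ({y} : Set D), a * b = b * a := by
      intro a ha b hb
      rw [Set.mem_singleton_iff.mp ha, Set.mem_singleton_iff.mp hb]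
    have hcm := Algebra.isMulCommutative_adjoin k hc
    exact congrArg Subtype.val
      (hcm.is_comm.comm (⟨x, hx⟩ : Algebra.adjoin k ({y} : Set D)) ⟨z, hz⟩)
  have hbdd : BddAbove S := by
    refine ⟨Module.finrank k D, ?_⟩
    rintro n ⟨L, _, _, rfl⟩
    exact Submodule.finrank_le (Subalgebra.toSubmodule L)
  obtain ⟨L, hyL, hL, hLn⟩ := Nat.sSup_mem hne hbdd
  refine ⟨L, hyL, hL, fun L' hL' hle => ?_⟩
  have h1 : Module.finrank k L' ≤ sSup S := le_csSup hbdd ⟨L', hle hyL, hL', rfl⟩
  have h2 : Module.finrank k L ≤ Module.finrank k L' :=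
    Submodule.finrank_mono (show Subalgebra.toSubmodule L ≤ Subalgebra.toSubmodule L' from hle)
  symm
  apply Subalgebra.toSubmodule_injective
  exact Submodule.eq_of_le_of_finrank_eq
    (show Subalgebra.toSubmodule L ≤ Subalgebra.toSubmodule L' from hle) (by
      change Module.finrank k L = Module.finrank k L'
      omega)

end MaxComm

section Main

variable (k : Type u) [Field k] (A : Type v) [Ring A] [Algebra k A]
  [Algebra.IsCentral k A] [IsSimpleRing A] [FiniteDimensional k A]

/-- Every reduced norm of a unit is a field norm from a finite extension that splits the algebra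
(a maximal subfield of the underlying division algebra). -/
theorem exists_field_norm_eq (N : A →* k) (hN : CSAGal.IsRedNorm k A N) (u : Aˣ) :
    ∃ (L : Type v) (_ : Field L) (_ : Algebra k L), FiniteDimensional k L ∧ Curves.Splits k A L ∧
      ∃ y : L, y ≠ 0 ∧ N u = Algebra.norm k y := by
  classical
  have hart : IsArtinianRing A := IsArtinianRing.of_finite k A
  obtain ⟨r, hr, D, _, _, hDfin, ⟨ψ⟩⟩ :=
    IsSimpleRing.exists_algEquiv_matrix_divisionRing_finite k A
  have hcM : Algebra.IsCentral k (Matrix (Fin r) (Fin r) D) :=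
    Algebra.IsCentral.of_algEquiv k _ _ ψ
  have hcD : Algebra.IsCentral k D := isCentral_of_isCentral_matrix D r
  obtain ⟨K, _, _, hfin, hgal, d, hd, ⟨φ⟩⟩ := exists_galois_splitting_field k D
  have hD : Module.finrank k D = d ^ 2 := by
    have h1 := φ.toLinearEquiv.finrank_eq
    rw [Module.finrank_baseChange, Module.finrank_matrix] at h1
    simpa [sq] using h1
  let ρ : D →ₐ[k] Matrix (Fin d) (Fin d) K :=
    (φ.toAlgHom.restrictScalars k).comp Algebra.TensorProduct.includeRight
  have hmem : Units.map N u ∈ (Units.map N).range := ⟨u, rfl⟩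
  rw [mem_range_redNorm_iff k A N hN D r ψ K d hD ρ hr.out hd] at hmem
  obtain ⟨y, hy, hy'⟩ := hmem
  obtain ⟨L, hyL, hcomm, hmax⟩ := exists_maximal_commutative_subalgebra_mem (k := k) y
  have hLsq : Module.finrank k D = Module.finrank k L ^ 2 :=
    finrank_eq_sq_of_maximal_commutative L hcomm hmax
  have hLd : Module.finrank k L = d := by
    have : Module.finrank k L ^ 2 = d ^ 2 := by rw [← hLsq, hD]
    exact Nat.pow_left_injective (by norm_num : 2 ≠ 0) this
  have : IsMulCommutative L := .of_setLike_mul_comm hcomm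
  open scoped IsMulCommutative in
  let _ : Field L := fieldOfFiniteDimensional k L
  refine ⟨L, inferInstance, inferInstance, inferInstance, ?_, ⟨y, hyL⟩, ?_, ?_⟩
  · have hsD : Curves.Splits k D L :=
      splits_of_algHom_of_finrank_eq_sq (k := k) (B := D) (k' := L) L.val (by rw [hLsq])
    exact splits_of_matrix_algEquiv k A L D 1 r one_ne_zero hr.out
      ((matOneAlgEquiv k A).trans ψ) hsD
  · intro h
    exact hy (congrArg Subtype.val h)
  · apply (algebraMap k K).injective
    have h1 := (det_trace_splitting_algHom k D K L L.val ⟨y, hyL⟩ hd hD hLd φ).1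
    have h2 : (Units.map N u : k) = N u := rfl
    rw [← h1, ← h2, hy']
    rfl

end Main

section Tower

variable (k : Type u) [Field k] (A : Type v) [Ring A] [Algebra k A]
  [Algebra.IsCentral k A] [IsSimpleRing A] [FiniteDimensional k A]
  (K : Type w) [Field K] [Algebra k K] (L : Type w') [Field L] [Algebra K L] [Algebra k L]
  [IsScalarTower k K L]

/-- If `L ⊇ K` splits `K ⊗ A` over `K`, then `L` splits `A` over `k`. -/
theorem splits_of_splits_baseChange (h : Curves.Splits K (K ⊗[k] A) L) : Curves.Splits k A L := by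
  obtain ⟨n, hn, ⟨φ⟩⟩ := h
  have hA : Module.finrank k A = n ^ 2 := by
    have h1 := φ.toLinearEquiv.finrank_eq
    rw [Module.finrank_baseChange, Module.finrank_baseChange, Module.finrank_matrix] at h1
    simpa [sq] using h1
  let f : A →+* Matrix (Fin n) (Fin n) L :=
    ((φ : L ⊗[K] (K ⊗[k] A) →+* Matrix (Fin n) (Fin n) L).comp
      ((Algebra.TensorProduct.includeRight : K ⊗[k] A →ₐ[K] L ⊗[K] (K ⊗[k] A)) :
        K ⊗[k] A →+* L ⊗[K] (K ⊗[k] A))).comp
      ((Algebra.TensorProduct.includeRight : A →ₐ[k] K ⊗[k] A) : A →+* K ⊗[k] A)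
  have hf : ∀ a, f a = φ ((1 : L) ⊗ₜ[K] ((1 : K) ⊗ₜ[k] a)) := fun a => rfl
  let ρ : A →ₐ[k] Matrix (Fin n) (Fin n) L :=
    { f with
      commutes' := fun c => by
        change f (algebraMap k A c) = _
        have h1 : ((1 : K) ⊗ₜ[k] (algebraMap k A c) : K ⊗[k] A) =
            algebraMap K (K ⊗[k] A) (algebraMap k K c) := by
          rw [Algebra.TensorProduct.algebraMap_apply, Algebra.algebraMap_eq_smul_one,
            TensorProduct.tmul_smul, TensorProduct.smul_tmul', ← Algebra.algebraMap_eq_smul_one]
          simp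
        have h2 : ((1 : L) ⊗ₜ[K] (algebraMap K (K ⊗[k] A) (algebraMap k K c)) :
            L ⊗[K] (K ⊗[k] A)) = algebraMap L (L ⊗[K] (K ⊗[k] A)) (algebraMap k L c) := by
          rw [Algebra.TensorProduct.algebraMap_apply (S := L),
            Algebra.algebraMap_eq_smul_one (R := K) (A := K ⊗[k] A),
            TensorProduct.tmul_smul, IsScalarTower.algebraMap_apply k K L,
            Algebra.algebraMap_eq_smul_one (R := K) (A := L), TensorProduct.smul_tmul']
          simp
        rw [hf, h1, h2, AlgEquiv.commutes, ← IsScalarTower.algebraMap_apply] }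
  obtain ⟨φ', _⟩ := exists_splitting_of_algHom k A L hn hA ρ
  exact ⟨n, hn, ⟨φ'⟩⟩

end Tower

end Groth.Agent.Lib.Helper1.RedNormField
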