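import Groth.Agent.Lib.Helper1.CSA.ReducedCharpoly
import Groth.Agent.Lib.Helper1.CSA.SeparableSplitting
import Groth.Agent.Lib.Helper1.CSA.RedNormField
import Groth.Agent.Lib.Helper1.CSA.SepLocus

/-!
# Elements generating separable maximal subfields (helper1)

* `charpoly_mulLeft_eq_minpoly_pow`, `isSeparable_of_charpoly_separable`,
  `exists_charpoly_separable`: field-level lemmas
* `exists_maximal_subfield_mem`: a maximal subfield (in the universe of `k`) through an element
* `charpoly_eq_map_charpoly_mulLeft`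
* `exists_separable_subfield_of_good`: separable reduced charpoly => separable maximal subfield
* `exists_good`, `exists_good_mul` (infinite `k`): density of such elements along pencils
-/

set_option autoImplicit false
universe u v w
open scoped TensorProduct
open Polynomial IntermediateField

namespace Groth.Agent.Lib.Helper1.SepGen

section FieldLemma

variable (k : Type u) [Field k] (L : Type v) [Field L] [Algebra k L] [FiniteDimensional k L]

/-- The characteristic polynomial of multiplication by `b` on a finite field extension `L/k` is a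
power of the minimal polynomial. -/
theorem charpoly_mulLeft_eq_minpoly_pow (b : L) :
    LinearMap.charpoly (LinearMap.mulLeft k b) = (minpoly k b) ^ Module.finrank k⟮b⟯ L := by
  classical
  have hb : IsIntegral k b := Algebra.IsIntegral.isIntegral b
  let pb := IntermediateField.adjoin.powerBasis hb
  have h := charpoly_lsmul_restrictScalars (k := k) (K := k⟮b⟯) (V := L) pb.basis
    (Module.finBasis k⟮b⟯ L) (AdjoinSimple.gen k b)
  have h1 : (LinearMap.lsmul k⟮b⟯ L (AdjoinSimple.gen k b)).restrictScalars k =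
      LinearMap.mulLeft k b := by
    ext x
    rfl
  rw [h1] at h
  rw [h, Fintype.card_fin]
  congr 1
  have h2 := charpoly_leftMulMatrix pb
  rw [IntermediateField.adjoin.powerBasis_gen, IntermediateField.minpoly_gen] at h2
  exact h2

/-- If multiplication by `b` has separable characteristic polynomial then `L = k(b)` is separable
over `k`. -/
theorem isSeparable_of_charpoly_separable (b : L)
    (h : (LinearMap.charpoly (LinearMap.mulLeft k b : L →ₗ[k] L)).Separable) :
    Algebra.IsSeparable k L := by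
  have hb : IsIntegral k b := Algebra.IsIntegral.isIntegral b
  rw [charpoly_mulLeft_eq_minpoly_pow] at h
  have hfr : Module.finrank k⟮b⟯ L ≠ 0 := Module.finrank_pos.ne'
  obtain ⟨hsep, h1⟩ := Polynomial.Separable.of_pow (minpoly.not_isUnit k b) hfr h
  have htop : k⟮b⟯ = ⊤ := IntermediateField.finrank_eq_one_iff_eq_top.mp h1
  have hsepF : Algebra.IsSeparable k k⟮b⟯ :=
    (IntermediateField.isSeparable_adjoin_simple_iff_isSeparable k L).mpr hsep
  refine ⟨fun x => ?_⟩
  have hx : x ∈ k⟮b⟯ := by rw [htop]; exact IntermediateField.mem_top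
  have := Algebra.IsSeparable.isSeparable k (⟨x, hx⟩ : k⟮b⟯)
  unfold IsSeparable at this ⊢
  rwa [IntermediateField.minpoly_eq (⟨x, hx⟩ : k⟮b⟯)] at this

/-- A finite separable extension has a nonzero element whose multiplication has separable
characteristic polynomial. -/
theorem exists_charpoly_separable [Algebra.IsSeparable k L] :
    ∃ θ : L, θ ≠ 0 ∧ (LinearMap.charpoly (LinearMap.mulLeft k θ : L →ₗ[k] L)).Separable := by
  obtain ⟨α, hα⟩ := Field.exists_primitive_element k L
  have key : ∀ θ : L, k⟮θ⟯ = ⊤ →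
      (LinearMap.charpoly (LinearMap.mulLeft k θ : L →ₗ[k] L)).Separable := by
    intro θ hθ
    rw [charpoly_mulLeft_eq_minpoly_pow, IntermediateField.finrank_eq_one_iff_eq_top.mpr hθ, pow_one]
    exact Algebra.IsSeparable.isSeparable k θ
  by_cases h0 : α = 0
  · refine ⟨1, one_ne_zero, key 1 ?_⟩
    rw [← hα, h0]
    simp
  · exact ⟨α, h0, key α hα⟩

end FieldLemma

section Division

open Groth.Agent.Lib.Helper1.RedNormField

variable (k : Type u) [Field k] (D : Type v) [DivisionRing D] [Algebra k D]
  [Algebra.IsCentral k D] [FiniteDimensional k D]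

/-- A maximal subfield through a given element, realised in the universe of `k`. -/
theorem exists_maximal_subfield_mem {d : ℕ} (hD : Module.finrank k D = d ^ 2) (b : D) :
    ∃ (K₁ : Type u) (_ : Field K₁) (_ : Algebra k K₁) (_ : FiniteDimensional k K₁)
      (ι : K₁ →ₐ[k] D) (x : K₁), Module.finrank k K₁ = d ∧ ι x = b := by
  obtain ⟨L, hbL, hcomm, hmax⟩ := exists_maximal_commutative_subalgebra_mem (k := k) b
  have hLsq : Module.finrank k D = Module.finrank k L ^ 2 :=
    finrank_eq_sq_of_maximal_commutative L hcomm hmax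
  have hLd : Module.finrank k L = d := by
    have : Module.finrank k L ^ 2 = d ^ 2 := by rw [← hLsq, hD]
    exact Nat.pow_left_injective (by norm_num : 2 ≠ 0) this
  obtain ⟨K₁, _, _, ⟨e⟩⟩ := exists_field_algEquiv k L
    (fun x y => Subtype.ext (hcomm x.1 x.2 y.1 y.2))
  have hfin : FiniteDimensional k K₁ := Module.Finite.equiv e.symm.toLinearEquiv
  refine ⟨K₁, inferInstance, inferInstance, hfin, L.val.comp e.toAlgHom, e.symm ⟨b, hbL⟩, ?_, ?_⟩
  · rw [e.toLinearEquiv.finrank_eq, hLd]
  · simp

variable (K : Type w) [Field K] [Algebra k K] {d : ℕ}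
  (φ : K ⊗[k] D ≃ₐ[K] Matrix (Fin d) (Fin d) K)

omit [Algebra.IsCentral k D] in
/-- The reduced characteristic polynomial of an element of a maximal subfield. -/
theorem charpoly_eq_map_charpoly_mulLeft (hd : d ≠ 0) (hD : Module.finrank k D = d ^ 2)
    (K₁ : Type u) [Field K₁] [Algebra k K₁] [FiniteDimensional k K₁]
    (ι : K₁ →ₐ[k] D) (hK₁ : Module.finrank k K₁ = d) (x : K₁) :
    (φ (1 ⊗ₜ[k] ι x)).charpoly =
      (LinearMap.charpoly (LinearMap.mulLeft k x : K₁ →ₗ[k] K₁)).map (algebraMap k K) := by
  rw [charpoly_splitting_algHom k D K K₁ ι x hd hD hK₁ φ]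
  congr 1
  rw [← LinearMap.charpoly_toMatrix (LinearMap.mulLeft k x) (Module.finBasis k K₁)]
  rfl

/-- An element with separable reduced characteristic polynomial lies in (generates) a separable
maximal subfield. -/
theorem exists_separable_subfield_of_good (hd : d ≠ 0) (hD : Module.finrank k D = d ^ 2) (b : D)
    (hb : (φ (1 ⊗ₜ[k] b)).charpoly.Separable) :
    ∃ (K₁ : Type u) (_ : Field K₁) (_ : Algebra k K₁) (_ : FiniteDimensional k K₁)
      (_ : Algebra.IsSeparable k K₁) (ι : K₁ →ₐ[k] D) (x : K₁),
      Module.finrank k K₁ = d ∧ ι x = b := by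
  obtain ⟨K₁, _, _, hfin, ι, x, hK₁, hx⟩ := exists_maximal_subfield_mem k D hD b
  refine ⟨K₁, inferInstance, inferInstance, hfin, ?_, ι, x, hK₁, hx⟩
  rw [← hx, charpoly_eq_map_charpoly_mulLeft k D K φ hd hD K₁ ι hK₁ x,
    Polynomial.separable_map] at hb
  exact isSeparable_of_charpoly_separable k K₁ x hb

/-- There is a nonzero element with separable reduced characteristic polynomial. -/
theorem exists_good (hd : d ≠ 0) (hD : Module.finrank k D = d ^ 2) :
    ∃ θ : D, θ ≠ 0 ∧ (φ (1 ⊗ₜ[k] θ)).charpoly.Separable := by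
  obtain ⟨L, hcomm, hmax, hsep⟩ := exists_maximal_commutative_separable k D
  have hLsq : Module.finrank k D = Module.finrank k L ^ 2 :=
    finrank_eq_sq_of_maximal_commutative L hcomm hmax
  have hLd : Module.finrank k L = d := by
    have : Module.finrank k L ^ 2 = d ^ 2 := by rw [← hLsq, hD]
    exact Nat.pow_left_injective (by norm_num : 2 ≠ 0) this
  obtain ⟨K₁, _, _, ⟨e⟩⟩ := exists_field_algEquiv k L
    (fun x y => Subtype.ext (hcomm x.1 x.2 y.1 y.2))
  have hfin : FiniteDimensional k K₁ := Module.Finite.equiv e.symm.toLinearEquiv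
  have hsep' : Algebra.IsSeparable k K₁ := ⟨fun y => by
    have := hsep (e y).1 (e y).2
    unfold IsSeparable at this ⊢
    change (minpoly k (L.val (e y))).Separable at this
    rwa [minpoly.algHom_eq L.val Subtype.val_injective, minpoly.algEquiv_eq] at this⟩
  have hK₁ : Module.finrank k K₁ = d := by rw [e.toLinearEquiv.finrank_eq, hLd]
  obtain ⟨θ, hθ0, hθ⟩ := exists_charpoly_separable k K₁
  let ι : K₁ →ₐ[k] D := L.val.comp e.toAlgHom
  refine ⟨ι θ, (map_ne_zero ι).mpr hθ0, ?_⟩
  rw [charpoly_eq_map_charpoly_mulLeft k D K φ hd hD K₁ ι hK₁ θ, Polynomial.separable_map]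
  exact hθ

/-- Over an infinite field: every nonzero `y` admits a nonzero `b` such that both `b` and `y * b`
have separable reduced characteristic polynomial. -/
theorem exists_good_mul [Infinite k] (hd : d ≠ 0) (hD : Module.finrank k D = d ^ 2) (y : D)
    (hy : y ≠ 0) :
    ∃ b : D, b ≠ 0 ∧ (φ (1 ⊗ₜ[k] b)).charpoly.Separable ∧
      (φ (1 ⊗ₜ[k] (y * b))).charpoly.Separable := by
  obtain ⟨θ, hθ0, hθ⟩ := exists_good k D K φ hd hD
  let ρ : D →ₗ[k] Matrix (Fin d) (Fin d) K :=
    (φ.toLinearEquiv.toLinearMap.restrictScalars k).comp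
      ((TensorProduct.mk k K D 1 : D →ₗ[k] K ⊗[k] D))
  have hρ : ∀ x, ρ x = φ (1 ⊗ₜ[k] x) := fun x => rfl
  let w : D := y⁻¹ * θ - θ
  have hpen : ∀ (b₀ b₁ : D) (t : k),
      φ (1 ⊗ₜ[k] (b₀ + t • b₁)) = φ (1 ⊗ₜ[k] b₀) + algebraMap k K t • φ (1 ⊗ₜ[k] b₁) := by
    intro b₀ b₁ t
    rw [← hρ, ← hρ, ← hρ, map_add, map_smul, algebraMap_smul]
  -- the two bad sets
  have hB1 := SepLocus.finite_not_separable (φ (1 ⊗ₜ[k] θ)) (φ (1 ⊗ₜ[k] w)) 0
    (by rw [zero_smul, add_zero]; exact hθ)
  have hB2 := SepLocus.finite_not_separable (φ (1 ⊗ₜ[k] (y * θ))) (φ (1 ⊗ₜ[k] (θ - y * θ))) 1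
    (by
      rw [one_smul, ← map_add, ← TensorProduct.tmul_add]
      have : y * θ + (θ - y * θ) = θ := by abel
      rw [this]; exact hθ)
  have hinj : Function.Injective (algebraMap k K) := (algebraMap k K).injective
  have hB1' := hB1.preimage (hinj.injOn (s := _))
  have hB2' := hB2.preimage (hinj.injOn (s := _))
  have hB3 : {t : k | θ + t • w = 0}.Finite := by
    by_cases hw : w = 0
    · have : {t : k | θ + t • w = 0} = ∅ := by
        ext t
        simp [hw, hθ0]
      rw [this]; exact Set.finite_empty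
    · apply Set.Subsingleton.finite
      intro s hs t ht
      have hs' : θ + s • w = 0 := hs
      have ht' : θ + t • w = 0 := ht
      have h1 : (s - t) • w = 0 := by
        rw [sub_smul]
        have := hs'.trans ht'.symm
        exact sub_eq_zero.mpr (add_left_cancel this)
      rcases smul_eq_zero.mp h1 with h | h
      · exact sub_eq_zero.mp h
      · exact absurd h hw
  obtain ⟨t, ht⟩ := (((hB1'.union hB2').union hB3).infinite_compl).nonempty
  simp only [Set.mem_compl_iff, Set.mem_union, Set.mem_preimage, Set.mem_ofPred_eq, not_or,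
    not_not] at ht
  obtain ⟨⟨h1, h2⟩, h3⟩ := ht
  refine ⟨θ + t • w, h3, ?_, ?_⟩
  · rw [hpen]; exact h1
  · have : y * (θ + t • w) = y * θ + t • (θ - y * θ) := by
      simp only [w, mul_add, mul_smul_comm, mul_sub, ← mul_assoc, mul_inv_cancel₀ hy, one_mul]
    rw [this, hpen]; exact h2

end Division

end Groth.Agent.Lib.Helper1.SepGen
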