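import Mathlib
import Groth.Agent.Lib.Helper1.CSA.CommDense
import Groth.Agent.Lib.Helper1.CSA.SepGen
import Groth.Agent.Lib.Helper1.CSA.RedNormExists

/-!
# Reduced norms are norms from separable maximal subfields (helper1)

* `discPoly`, `eval_discPoly_ne_zero_iff`: the discriminant of the reduced characteristic polynomial
  of `y * w` as a polynomial in the coordinates of `w`
* `exists_mul_commutator_good` (infinite `k`): `y * (c • s)` has separable reduced charpoly for some
  `c ∈ kˣ`, `s ∈ [Dˣ, Dˣ]` (uses the density theorem of `CommDense`)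
* `infinite_of_finrank_ne_one`
* `exists_separable_field_norm_eq`: every reduced norm of a central division algebra is the field
  norm of an element of a separable maximal subfield (in the universe of `D`)
-/

set_option autoImplicit false
universe u v w
open Polynomial Matrix
open scoped TensorProduct

namespace Groth.Agent.Lib.Helper1.SepNorm

theorem separable_of_monic_natDegree_one {K : Type u} [Field K] (p : K[X]) (hm : p.Monic)
    (h1 : p.natDegree = 1) : p.Separable := by
  rw [hm.eq_X_add_C h1]
  exact separable_X_add_C _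

section Disc
variable {k : Type u} [Field k] {D : Type v} [Ring D] [Algebra k D]
  {ι : Type w} [Fintype ι] [DecidableEq ι] (b : Module.Basis ι k D)
  {K : Type u} [Field K] [Algebra k K] {d : ℕ}
  (φ : K ⊗[k] D ≃ₐ[K] Matrix (Fin d) (Fin d) K)

/-- the generic matrix `φ (y ⊗ Z)` -/
noncomputable def genMul (y : D) : Matrix (Fin d) (Fin d) (MvPolynomial ι K) :=
  (φ (1 ⊗ₜ[k] y)).map MvPolynomial.C *
    ∑ i, (MvPolynomial.X i : MvPolynomial ι K) • (φ (1 ⊗ₜ[k] b i)).map MvPolynomial.C

theorem genMul_map_eval (y w : D) :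
    (genMul b φ y).map (MvPolynomial.eval (fun i => algebraMap k K (b.repr w i))) =
      φ (1 ⊗ₜ[k] (y * w)) := by
  have h1 : ((φ (1 ⊗ₜ[k] y)).map MvPolynomial.C).map
      (MvPolynomial.eval (fun i => algebraMap k K (b.repr w i))) = φ (1 ⊗ₜ[k] y) := by
    ext a c
    simp only [Matrix.map_apply, MvPolynomial.eval_C]
  have h2 : (∑ i, (MvPolynomial.X i : MvPolynomial ι K) •
      (φ (1 ⊗ₜ[k] b i)).map MvPolynomial.C).map
      (MvPolynomial.eval (fun i => algebraMap k K (b.repr w i))) = φ (1 ⊗ₜ[k] w) := by
    have h3 : φ (1 ⊗ₜ[k] w) = ∑ i, algebraMap k K (b.repr w i) • φ (1 ⊗ₜ[k] b i) := by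
      conv_lhs => rw [← b.sum_repr w]
      rw [TensorProduct.tmul_sum, map_sum]
      apply Finset.sum_congr rfl
      intro i _
      rw [TensorProduct.tmul_smul, ← algebraMap_smul K (b.repr w i) ((1 : K) ⊗ₜ[k] b i),
        map_smul φ]
    rw [h3]
    ext a c
    simp only [Matrix.map_apply, Matrix.sum_apply, Matrix.smul_apply, smul_eq_mul, map_sum,
      map_mul, MvPolynomial.eval_X, MvPolynomial.eval_C]
  rw [genMul, Matrix.map_mul, h1, h2, ← map_mul, Algebra.TensorProduct.tmul_mul_tmul, one_mul]

/-- the discriminant polynomial of `w ↦ φ (1 ⊗ y w)` -/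
noncomputable def discPoly (y : D) : MvPolynomial ι K :=
  resultant (genMul b φ y).charpoly (derivative (genMul b φ y).charpoly) d (d - 1)

theorem eval_discPoly_ne_zero_iff (y w : D) :
    MvPolynomial.eval (fun i => algebraMap k K (b.repr w i)) (discPoly b φ y) ≠ 0 ↔
      (φ (1 ⊗ₜ[k] (y * w))).charpoly.Separable := by
  rw [SepLocus.separable_iff_resultant_ne_zero (Matrix.charpoly_monic _)
    (by rw [Matrix.charpoly_natDegree_eq_dim, Fintype.card_fin] :
      (φ (1 ⊗ₜ[k] (y * w))).charpoly.natDegree = d)]
  rw [discPoly, ← resultant_map_map, ← derivative_map, ← Matrix.charpoly_map, genMul_map_eval]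

end Disc

section Good
variable {k : Type u} [Field k] [Infinite k] {D : Type v} [DivisionRing D] [Algebra k D]
  [Algebra.IsCentral k D] [FiniteDimensional k D]
  {K : Type u} [Field K] [Algebra k K] [IsAlgClosed K] {d : ℕ}
  (φ : K ⊗[k] D ≃ₐ[K] Matrix (Fin d) (Fin d) K)

/-- Over an infinite field, every nonzero `y` can be multiplied by a scalar multiple of an element
of the commutator subgroup so that the product has separable reduced characteristic polynomial. -/
theorem exists_mul_commutator_good (hd : d ≠ 0) (hD : Module.finrank k D = d ^ 2) (y : D)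
    (hy : y ≠ 0) :
    ∃ (c : k) (s : Dˣ), c ≠ 0 ∧ s ∈ commutator Dˣ ∧
      (φ (1 ⊗ₜ[k] (y * (c • (s : D))))).charpoly.Separable := by
  classical
  by_contra hcon
  push Not at hcon
  let b := Module.finBasis k D
  have h0 : discPoly b φ y = 0 := by
    apply CommDense.eq_zero_of_vanishes_on_scalar_commutators b K
    intro c s hc hs
    by_contra hne
    exact hcon c s hc hs ((eval_discPoly_ne_zero_iff b φ y _).mp hne)
  obtain ⟨θ, -, hθ⟩ := SepGen.exists_good k D K φ hd hD
  have h1 := (eval_discPoly_ne_zero_iff b φ y (y⁻¹ * θ)).mpr (by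
    rw [mul_inv_cancel_left₀ hy]; exact hθ)
  rw [h0, map_zero] at h1
  exact h1 rfl

end Good


section Small
variable (k : Type u) [Field k] (D : Type v) [DivisionRing D] [Algebra k D]
  [Algebra.IsCentral k D] [FiniteDimensional k D]

/-- a noncommutative central division algebra lives over an infinite field -/
theorem infinite_of_finrank_ne_one (h : Module.finrank k D ≠ 1) : Infinite k := by
  by_contra hfin
  rw [not_infinite_iff_finite] at hfin
  have : Finite D := Module.finite_of_finite k
  have hfield : IsField D := Finite.isDomain_to_isField D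
  apply h
  rw [← Subalgebra.bot_eq_top_iff_finrank_eq_one, ← Algebra.IsCentral.center_eq_bot k D]
  rw [eq_top_iff]
  intro x _
  rw [Subalgebra.mem_center_iff]
  intro y
  exact hfield.mul_comm y x


open Groth.Agent.Lib.Helper1.SepNorm in
/-- Every reduced norm of a central division algebra is the norm of an element of a separable
maximal subfield. -/
theorem exists_separable_field_norm_eq (ND : D →* k) (hND : CSAGal.IsRedNorm k D ND) (y : D)
    (hy : y ≠ 0) :
    ∃ (K : Type v) (_ : Field K) (_ : Algebra k K) (_ : K →ₐ[k] D), FiniteDimensional k K ∧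
      Algebra.IsSeparable k K ∧ Module.finrank k D = Module.finrank k K ^ 2 ∧
      ∃ x : K, Algebra.norm k x = ND y := by
  classical
  -- a splitting over the algebraic closure
  let Ω := AlgebraicClosure k
  have hsimple : IsSimpleRing (Ω ⊗[k] D) := Groth.Agent.Lib.Helper1.isSimpleRing_tensor_divisionRing Ω D
  obtain ⟨d, hdne, ⟨φ⟩⟩ := IsSimpleRing.exists_algEquiv_matrix_of_isAlgClosed Ω (Ω ⊗[k] D)
  have hd : d ≠ 0 := hdne.out
  have hD : Module.finrank k D = d ^ 2 := by
    have h1 := φ.toLinearEquiv.finrank_eq
    rw [Module.finrank_baseChange, Module.finrank_matrix] at h1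
    simpa [sq] using h1
  -- a good element `c' • y'` with `ND y' = ND y`
  have hgood : ∃ (c' : k) (y' : D), c' ≠ 0 ∧ ND y' = ND y ∧
      (φ (1 ⊗ₜ[k] (c' • y'))).charpoly.Separable := by
    by_cases hd1 : d = 1
    · refine ⟨1, y, one_ne_zero, rfl, ?_⟩
      apply separable_of_monic_natDegree_one _ (Matrix.charpoly_monic _)
      rw [Matrix.charpoly_natDegree_eq_dim, Fintype.card_fin, hd1]
    · have hinf : Infinite k := by
        apply infinite_of_finrank_ne_one k D
        rw [hD]
        intro h1
        apply hd1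
        exact (Nat.pow_eq_one.mp h1).resolve_right (by norm_num)
      obtain ⟨c', s, hc', hs, hsep⟩ := exists_mul_commutator_good φ hd hD y hy
      refine ⟨c', y * (s : D), hc', ?_, ?_⟩
      · rw [map_mul]
        have h1 : Units.map ND s = 1 := by
          have := Abelianization.commutator_subset_ker (Units.map ND) hs
          exact this
        have h2 : ND (s : D) = 1 := by
          have := congrArg Units.val h1
          simpa using this
        rw [h2, mul_one]
      · rw [← mul_smul_comm]; exact hsep
  obtain ⟨c', y', hc', hy', hsep⟩ := hgood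
  obtain ⟨K₁, _, _, hfin, hsepK, ι, x, hK₁, hx⟩ :=
    SepGen.exists_separable_subfield_of_good k D Ω φ hd hD _ hsep
  -- move to the universe of `D`
  let L : Subalgebra k D := ι.range
  have hcomm : ∀ a b : L, a * b = b * a := by
    rintro ⟨_, ⟨a, rfl⟩⟩ ⟨_, ⟨b, rfl⟩⟩
    apply Subtype.ext
    change ι a * ι b = ι b * ι a
    rw [← map_mul, ← map_mul, mul_comm]
  have : IsMulCommutative L := ⟨⟨hcomm⟩⟩
  open scoped IsMulCommutative in
  let _ : Field L := fieldOfFiniteDimensional k L
  let e₁ : K₁ ≃ₐ[k] L := AlgEquiv.ofInjective ι ι.toRingHom.injective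
  have hLd : Module.finrank k L = d := by rw [← e₁.toLinearEquiv.finrank_eq, hK₁]
  have hsepL : Algebra.IsSeparable k L := Algebra.IsSeparable.of_algHom k K₁ e₁.symm.toAlgHom
  refine ⟨L, inferInstance, inferInstance, L.val, inferInstance, hsepL, by rw [hLd, hD],
    e₁ (c'⁻¹ • x), ?_⟩
  have h1 : L.val (e₁ (c'⁻¹ • x)) = y' := by
    change ι (c'⁻¹ • x) = y'
    rw [map_smul, hx, smul_smul, inv_mul_cancel₀ hc', one_smul]
  rw [← hy', ← h1]
  exact (RedNormU.redNorm_algHom_eq_norm k D ND hND L hd hD hLd L.val _).symm

end Small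
end Groth.Agent.Lib.Helper1.SepNorm
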