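import Mathlib
import Groth.Agent.Lib.Helper1.CSA.SepNorm

/-!
# Regular (separable) elements of central simple algebras (helper1)

* `minpoly_one_tmul`: the minimal polynomial is invariant under base field extension
* `finrank_adjoin_singleton`, `isSeparable_adjoin_of_separable_minpoly`,
  `separable_minpoly_of_isSeparable_adjoin`: `k[x]` (in a noncommutative algebra) vs `minpoly k x`
* `minpoly_eq_charpoly_of_separable`
* `separable_charpoly_iff`, `adjoin_props_iff`: for a splitting `φ` over an algebraically closed
  field, the reduced characteristic polynomial of `x` is separable iff `minpoly k x` is separable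
  of degree `r` iff `k[x]` is étale of dimension `r`
* `exists_separable_charpoly` (infinite `k`), `exists_algEquiv_matrix_of_finite`,
  `exists_separable_minpoly_of_finite`, `exists_regular_separable`
-/

set_option autoImplicit false
universe u v w
open Polynomial IntermediateField
open scoped TensorProduct

namespace Groth.Agent.Lib.Helper1.RegularElt

section MinpolyBC
variable (k : Type u) [Field k] {A : Type v} [Ring A] [Algebra k A]
  (K : Type w) [Field K] [Algebra k K]

theorem aeval_one_tmul (x : A) (p : k[X]) :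
    aeval ((1 : K) ⊗ₜ[k] x) (p.map (algebraMap k K)) = (1 : K) ⊗ₜ[k] (aeval x p) := by
  rw [aeval_map_algebraMap]
  have : ((1 : K) ⊗ₜ[k] x) = (Algebra.TensorProduct.includeRight : A →ₐ[k] K ⊗[k] A) x := rfl
  rw [this, aeval_algHom_apply]
  rfl

/-- the minimal polynomial is invariant under base field extension -/
theorem minpoly_one_tmul (x : A) (hx : IsIntegral k x) :
    minpoly K ((1 : K) ⊗ₜ[k] x) = (minpoly k x).map (algebraMap k K) := by
  symm
  apply minpoly.unique _ _ ((minpoly.monic hx).map _)
  · rw [aeval_one_tmul, minpoly.aeval, TensorProduct.tmul_zero]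
  · intro q hq hq0
    by_contra hlt
    push Not at hlt
    rw [degree_map] at hlt
    have hli : LinearIndependent K fun i : Fin (minpoly k x).natDegree =>
        ((1 : K) ⊗ₜ[k] x) ^ (i : ℕ) := by
      have := Module.Flat.linearIndependent_one_tmul (S := K) (linearIndependent_pow (K := k) x)
      convert this using 2 with i
      rw [Algebra.TensorProduct.tmul_pow, one_pow]
    have hqd : q.natDegree < (minpoly k x).natDegree := by
      rwa [degree_eq_natDegree hq.ne_zero, degree_eq_natDegree (minpoly.ne_zero hx),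
        Nat.cast_lt] at hlt
    rw [aeval_eq_sum_range' hqd, ← Fin.sum_univ_eq_sum_range
      (fun i => q.coeff i • ((1 : K) ⊗ₜ[k] x) ^ i)] at hq0
    have h0 := Fintype.linearIndependent_iff.mp hli (fun i => q.coeff i) hq0 ⟨q.natDegree, hqd⟩
    simp only at h0
    rw [hq.coeff_natDegree] at h0
    exact one_ne_zero h0

end MinpolyBC

section Adjoin
variable (k : Type u) [Field k] {A : Type v} [Ring A] [Algebra k A]

theorem finrank_adjoin_singleton (x : A) :
    Module.finrank k (Algebra.adjoin k ({x} : Set A)) = (minpoly k x).natDegree := by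
  let f : k[X] →ₐ[k] (aeval x : k[X] →ₐ[k] A).range := (aeval x).rangeRestrict
  have hf : Function.Surjective f := (aeval x).rangeRestrict_surjective
  let e := Ideal.quotientKerAlgEquivOfSurjective hf
  have hker : RingHom.ker f = Ideal.span {minpoly k x} := by
    rw [Ideal.span, ← minpoly.ker_aeval_eq_span_minpoly]
    ext p
    simp only [RingHom.mem_ker, f]
    constructor
    · intro h
      exact congrArg Subtype.val h
    · intro h
      exact Subtype.ext h
  have h1 : Algebra.adjoin k ({x} : Set A) = (aeval x : k[X] →ₐ[k] A).range :=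
    Algebra.adjoin_singleton_eq_range_aeval k x
  rw [h1, ← e.toLinearEquiv.finrank_eq,
    (Ideal.quotientEquivAlgOfEq k hker).toLinearEquiv.finrank_eq]
  exact finrank_quotient_span_eq_natDegree

theorem minpoly_mk_adjoin (x : A) (y : A) (hy : y ∈ Algebra.adjoin k ({x} : Set A)) :
    minpoly k (⟨y, hy⟩ : Algebra.adjoin k ({x} : Set A)) = minpoly k y :=
  (minpoly.algHom_eq (Algebra.adjoin k ({x} : Set A)).val Subtype.val_injective ⟨y, hy⟩).symm

theorem separable_minpoly_of_isSeparable_adjoin (x : A)
    (h : Algebra.IsSeparable k (Algebra.adjoin k ({x} : Set A))) : (minpoly k x).Separable := by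
  have := Algebra.IsSeparable.isSeparable k (⟨x, Algebra.self_mem_adjoin_singleton k x⟩ :
    Algebra.adjoin k ({x} : Set A))
  rwa [IsSeparable, minpoly_mk_adjoin] at this

theorem isSeparable_adjoin_of_separable_minpoly (x : A) (h : (minpoly k x).Separable) :
    Algebra.IsSeparable k (Algebra.adjoin k ({x} : Set A)) := by
  classical
  have hx : IsIntegral k x := by
    by_contra hni
    rw [minpoly.eq_zero hni] at h
    exact not_separable_zero h
  refine ⟨fun ⟨y, hy⟩ => ?_⟩
  rw [IsSeparable, minpoly_mk_adjoin]
  rw [Algebra.adjoin_singleton_eq_range_aeval] at hy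
  obtain ⟨g, rfl⟩ := hy
  let Ω := AlgebraicClosure k
  set PΩ : Polynomial Ω := (minpoly k x).map (algebraMap k Ω) with hPΩ
  set gΩ : Polynomial Ω := g.map (algebraMap k Ω) with hgΩ
  have hPsep : PΩ.Separable := h.map
  have hPsplit : PΩ.Splits := IsAlgClosed.splits _
  have hP0 : PΩ ≠ 0 := hPsep.ne_zero
  let S : Finset Ω := PΩ.roots.toFinset.image (fun μ => gΩ.eval μ)
  let q : Polynomial Ω := ∏ v ∈ S, (X - C v)
  have hqsep : q.Separable := separable_prod_X_sub_C_iff'.mpr (fun a _ b _ hab => hab)
  have hdvd : PΩ ∣ q.comp gΩ := by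
    by_cases h0 : q.comp gΩ = 0
    · rw [h0]; exact dvd_zero _
    apply hPsplit.dvd_of_roots_le_roots hP0
    rw [Multiset.le_iff_subset (nodup_roots hPsep)]
    intro μ hμ
    rw [mem_roots h0, IsRoot, eval_comp, eval_prod]
    apply Finset.prod_eq_zero (i := gΩ.eval μ)
    · exact Finset.mem_image_of_mem _ (Multiset.mem_toFinset.mpr hμ)
    · rw [eval_sub, eval_X, eval_C, sub_self]
  -- the element `1 ⊗ x`
  have hz : minpoly Ω ((1 : Ω) ⊗ₜ[k] x) = PΩ := minpoly_one_tmul k Ω x hx
  have h1 : aeval ((1 : Ω) ⊗ₜ[k] x) (q.comp gΩ) = 0 := by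
    obtain ⟨c, hc⟩ := hdvd
    rw [hc, map_mul, ← hz, minpoly.aeval, zero_mul]
  rw [aeval_comp, aeval_one_tmul] at h1
  have h2 : minpoly Ω ((1 : Ω) ⊗ₜ[k] (aeval x g)) ∣ q := minpoly.dvd _ _ h1
  have hy : IsIntegral k (aeval x g) := by
    rcases subsingleton_or_nontrivial A with hA | hA
    · exact ⟨1, monic_one, Subsingleton.elim _ _⟩
    have hfin : IsIntegral k (⟨aeval x g, Algebra.adjoin_singleton_eq_range_aeval k x ▸ ⟨g, rfl⟩⟩ :
        Algebra.adjoin k ({x} : Set A)) := by
      have : Module.Finite k (Algebra.adjoin k ({x} : Set A)) := by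
        apply Module.finite_of_finrank_pos
        rw [finrank_adjoin_singleton]
        exact minpoly.natDegree_pos hx
      exact IsIntegral.of_finite k _
    exact hfin.map (Algebra.adjoin k ({x} : Set A)).val
  rw [minpoly_one_tmul k Ω _ hy] at h2
  exact (separable_map _).mp (hqsep.of_dvd h2)

end Adjoin

section Mat
variable {Ω : Type u} [Field Ω] [IsAlgClosed Ω] {n : ℕ}

theorem minpoly_eq_charpoly_of_separable (M : Matrix (Fin n) (Fin n) Ω)
    (h : M.charpoly.Separable) : minpoly Ω M = M.charpoly := by
  apply eq_of_monic_of_associated (minpoly.monic (Matrix.isIntegral M)) (Matrix.charpoly_monic M)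
  apply associated_of_dvd_dvd (Matrix.minpoly_dvd_charpoly M)
  apply (IsAlgClosed.splits M.charpoly).dvd_of_roots_le_roots h.ne_zero
  rw [Multiset.le_iff_subset (nodup_roots h)]
  intro μ hμ
  have h1 : M.charpoly.IsRoot μ := (mem_roots h.ne_zero).mp hμ
  rw [← Matrix.charpoly_toLin', ← Module.End.hasEigenvalue_iff_isRoot_charpoly] at h1
  have h2 := Module.End.isRoot_of_hasEigenvalue h1
  rw [Matrix.minpoly_toLin'] at h2
  exact (mem_roots (minpoly.ne_zero (Matrix.isIntegral M))).mpr h2

end Mat

section Link
variable (k : Type u) [Field k] {A : Type v} [Ring A] [Algebra k A]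
  {K : Type w} [Field K] [Algebra k K] [IsAlgClosed K] {r : ℕ}
  (φ : K ⊗[k] A ≃ₐ[K] Matrix (Fin r) (Fin r) K)

theorem minpoly_splitting (x : A) (hx : IsIntegral k x) :
    minpoly K (φ (1 ⊗ₜ[k] x)) = (minpoly k x).map (algebraMap k K) := by
  rw [minpoly.algEquiv_eq φ, minpoly_one_tmul k K x hx]

/-- separable reduced characteristic polynomial <=> separable minimal polynomial of full degree -/
theorem separable_charpoly_iff (x : A) (hx : IsIntegral k x) :
    (φ (1 ⊗ₜ[k] x)).charpoly.Separable ↔
      (minpoly k x).Separable ∧ (minpoly k x).natDegree = r := by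
  constructor
  · intro h
    have h1 := minpoly_eq_charpoly_of_separable _ h
    rw [minpoly_splitting k φ x hx] at h1
    constructor
    · rw [← separable_map (algebraMap k K), h1]; exact h
    · have := congrArg natDegree h1
      rwa [natDegree_map, Matrix.charpoly_natDegree_eq_dim, Fintype.card_fin] at this
  · rintro ⟨h1, h2⟩
    have h3 : (minpoly k x).map (algebraMap k K) ∣ (φ (1 ⊗ₜ[k] x)).charpoly := by
      rw [← minpoly_splitting k φ x hx]
      exact Matrix.minpoly_dvd_charpoly _
    have h4 : (φ (1 ⊗ₜ[k] x)).charpoly = (minpoly k x).map (algebraMap k K) := by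
      apply eq_of_monic_of_dvd_of_natDegree_le ((minpoly.monic hx).map _)
        (Matrix.charpoly_monic _) h3
      rw [natDegree_map, Matrix.charpoly_natDegree_eq_dim, Fintype.card_fin, h2]
    rw [h4]
    exact h1.map

theorem adjoin_props_iff (x : A) (hx : IsIntegral k x) :
    (φ (1 ⊗ₜ[k] x)).charpoly.Separable ↔
      Algebra.IsSeparable k (Algebra.adjoin k ({x} : Set A)) ∧
        Module.finrank k (Algebra.adjoin k ({x} : Set A)) = r := by
  rw [separable_charpoly_iff k φ x hx, finrank_adjoin_singleton]
  constructor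
  · rintro ⟨h1, h2⟩
    exact ⟨isSeparable_adjoin_of_separable_minpoly k x h1, h2⟩
  · rintro ⟨h1, h2⟩
    exact ⟨separable_minpoly_of_isSeparable_adjoin k x h1, h2⟩

end Link

section Exists
variable {k : Type u} [Field k] {A : Type v} [Ring A] [Algebra k A]
  {ι : Type w} [Fintype ι] [DecidableEq ι] (b : Module.Basis ι k A)
  {K : Type u} [Field K] [Algebra k K] {r : ℕ}
  (φ : K ⊗[k] A ≃ₐ[K] Matrix (Fin r) (Fin r) K)

theorem genMul_map_eval' (y : A) (x : ι → K) :
    (SepNorm.genMul b φ y).map (MvPolynomial.eval x) =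
      φ (1 ⊗ₜ[k] y) * φ (∑ i, x i • ((1 : K) ⊗ₜ[k] b i)) := by
  have h1 : ((φ (1 ⊗ₜ[k] y)).map MvPolynomial.C).map (MvPolynomial.eval x) = φ (1 ⊗ₜ[k] y) := by
    ext a c
    simp only [Matrix.map_apply, MvPolynomial.eval_C]
  have h2 : (∑ i, (MvPolynomial.X i : MvPolynomial ι K) •
      (φ (1 ⊗ₜ[k] b i)).map MvPolynomial.C).map (MvPolynomial.eval x) =
      φ (∑ i, x i • ((1 : K) ⊗ₜ[k] b i)) := by
    rw [map_sum]
    ext a c
    simp only [Matrix.map_apply, Matrix.sum_apply, Matrix.smul_apply, smul_eq_mul, map_sum,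
      map_mul, MvPolynomial.eval_X, MvPolynomial.eval_C, map_smul]
  rw [SepNorm.genMul, Matrix.map_mul, h1, h2]

theorem eval_discPoly_ne_zero_iff' (y : A) (x : ι → K) :
    MvPolynomial.eval x (SepNorm.discPoly b φ y) ≠ 0 ↔
      (φ (1 ⊗ₜ[k] y) * φ (∑ i, x i • ((1 : K) ⊗ₜ[k] b i))).charpoly.Separable := by
  rw [SepLocus.separable_iff_resultant_ne_zero (Matrix.charpoly_monic _)
    (by rw [Matrix.charpoly_natDegree_eq_dim, Fintype.card_fin] :
      (φ (1 ⊗ₜ[k] y) * φ (∑ i, x i • ((1 : K) ⊗ₜ[k] b i))).charpoly.natDegree = r)]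
  rw [SepNorm.discPoly, ← resultant_map_map, ← derivative_map, ← Matrix.charpoly_map,
    genMul_map_eval']

include b in
/-- Over an infinite field, a split-able algebra has an element with separable reduced
characteristic polynomial. -/
theorem exists_separable_charpoly [Infinite k] [IsAlgClosed K] :
    ∃ w : A, (φ (1 ⊗ₜ[k] w)).charpoly.Separable := by
  classical
  have : Infinite K := IsAlgClosed.instInfinite
  obtain ⟨d, hdinj, -⟩ := CommDense.exists_distinct_nonzero (K := K) r
  have hne : SepNorm.discPoly b φ 1 ≠ 0 := by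
    intro h0
    let β := Algebra.TensorProduct.basis K b
    have h1 := (eval_discPoly_ne_zero_iff' b φ 1
      (fun i => β.repr (φ.symm (Matrix.diagonal d)) i)).mpr (by
        have h2 : ∑ i, (β.repr (φ.symm (Matrix.diagonal d)) i) • ((1 : K) ⊗ₜ[k] b i) =
            φ.symm (Matrix.diagonal d) := by
          have := β.sum_repr (φ.symm (Matrix.diagonal d))
          simpa [β] using this
        rw [h2, φ.apply_symm_apply, ← Algebra.TensorProduct.one_def, map_one, one_mul,
          Matrix.charpoly_diagonal]
        exact separable_prod_X_sub_C_iff.mpr hdinj)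
    rw [h0, map_zero] at h1
    exact h1 rfl
  have hex : ∃ x : ι → K, (∀ i, x i ∈ Set.range (algebraMap k K)) ∧
      MvPolynomial.eval x (SepNorm.discPoly b φ 1) ≠ 0 := by
    by_contra hcon
    push Not at hcon
    apply hne
    apply MvPolynomial.funext_set (fun _ => Set.range (algebraMap k K))
      (fun _ => Set.infinite_range_of_injective (algebraMap k K).injective)
    intro x hx
    rw [map_zero]
    exact hcon x (fun i => hx i trivial)
  obtain ⟨x, hx, hx0⟩ := hex
  choose c hc using hx
  refine ⟨b.equivFun.symm c, ?_⟩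
  have h3 := (SepNorm.eval_discPoly_ne_zero_iff b φ 1 (b.equivFun.symm c)).mp (by
    have : (fun i => algebraMap k K (b.repr (b.equivFun.symm c) i)) = x := by
      ext i
      rw [← hc i]
      congr 1
      exact congrFun (b.equivFun.apply_symm_apply c) i
    rw [this]; exact hx0)
  rwa [one_mul] at h3

end Exists

section FiniteCase
variable (k : Type u) [Field k] [Finite k] (A : Type v) [Ring A] [Algebra k A]
  [Algebra.IsCentral k A] [IsSimpleRing A] [FiniteDimensional k A]

/-- a central simple algebra over a finite field is a matrix algebra over the field -/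
theorem exists_algEquiv_matrix_of_finite (r : ℕ) (hA : Module.finrank k A = r ^ 2) :
    Nonempty (A ≃ₐ[k] Matrix (Fin r) (Fin r) k) := by
  have hart : IsArtinianRing A := IsArtinianRing.of_finite k A
  obtain ⟨m, hm, D, hDdiv, hDalg, hDfin, ⟨e⟩⟩ :=
    IsSimpleRing.exists_algEquiv_matrix_divisionRing_finite k A
  have hcM : Algebra.IsCentral k (Matrix (Fin m) (Fin m) D) :=
    Algebra.IsCentral.of_algEquiv k _ _ e
  have hcD : Algebra.IsCentral k D := Groth.Agent.Lib.Helper1.isCentral_of_isCentral_matrix D m
  have hD1 : Module.finrank k D = 1 := by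
    by_contra h
    have := SepNorm.infinite_of_finrank_ne_one k D h
    exact not_finite k
  have hmr : m = r := by
    have h1 := e.toLinearEquiv.finrank_eq
    rw [hA, Module.finrank_matrix, hD1, Fintype.card_fin] at h1
    have h2 : r ^ 2 = m ^ 2 := by rw [h1]; ring
    exact (Nat.pow_left_injective (by norm_num : 2 ≠ 0) h2).symm
  subst hmr
  have hbt : (⊥ : Subalgebra k D) = ⊤ := Subalgebra.bot_eq_top_of_finrank_eq_one hD1
  let eD : D ≃ₐ[k] k :=
    (Subalgebra.topEquiv (R := k) (A := D)).symm.trans
      ((Subalgebra.equivOfEq _ _ hbt.symm).trans (Algebra.botEquiv k D))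
  exact ⟨e.trans (AlgEquiv.mapMatrix eD)⟩

theorem exists_separable_minpoly_of_finite (r : ℕ) (hA : Module.finrank k A = r ^ 2) :
    ∃ x : A, (minpoly k x).Separable ∧ (minpoly k x).natDegree = r := by
  obtain ⟨e⟩ := exists_algEquiv_matrix_of_finite k A r hA
  have hr : r ≠ 0 := by
    rintro rfl
    have : 0 < Module.finrank k A := Module.finrank_pos
    omega
  have : NeZero r := ⟨hr⟩
  obtain ⟨p, hp⟩ := CharP.exists k
  have hpp : Fact p.Prime := ⟨CharP.char_is_prime k p⟩
  let L := FiniteField.Extension k p r
  have hL : Module.finrank k L = r := FiniteField.finrank_extension k p r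
  have hsep : Algebra.IsSeparable k L := Algebra.IsAlgebraic.isSeparable_of_perfectField
  obtain ⟨θ, hθ⟩ := Field.exists_primitive_element k L
  have hθint : IsIntegral k θ := IsIntegral.of_finite k θ
  have hdeg : (minpoly k θ).natDegree = r := by
    rw [← IntermediateField.adjoin.finrank hθint, hθ, IntermediateField.finrank_top', hL]
  let bL : Module.Basis (Fin r) k L := Module.finBasisOfFinrankEq k L hL
  let f : L →ₐ[k] A := e.symm.toAlgHom.comp (Algebra.leftMulMatrix bL)
  have hf : Function.Injective f :=
    e.symm.injective.comp (Algebra.leftMulMatrix_injective bL)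
  refine ⟨f θ, ?_, ?_⟩
  · rw [minpoly.algHom_eq f hf]
    exact Algebra.IsSeparable.isSeparable k θ
  · rw [minpoly.algHom_eq f hf, hdeg]

end FiniteCase

section Main
variable (k : Type u) [Field k] (A : Type v) [Ring A] [Algebra k A]
  [Algebra.IsCentral k A] [IsSimpleRing A] [FiniteDimensional k A]

/-- A central simple algebra of degree `r` has an element whose minimal polynomial is separable of
degree `r` (a regular semisimple element). -/
theorem exists_regular_separable (r : ℕ) (hA : Module.finrank k A = r ^ 2) :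
    ∃ x : A, (minpoly k x).Separable ∧ (minpoly k x).natDegree = r := by
  classical
  rcases finite_or_infinite k with hfin | hinf
  · exact exists_separable_minpoly_of_finite k A r hA
  · let Ω := AlgebraicClosure k
    have hsimple : IsSimpleRing (Ω ⊗[k] A) :=
      Groth.Agent.Lib.Helper1.isSimpleRing_tensor_of_isCentral_of_isSimpleRing Ω A
    obtain ⟨n, hn, ⟨φ⟩⟩ := IsSimpleRing.exists_algEquiv_matrix_of_isAlgClosed Ω (Ω ⊗[k] A)
    have hnr : n = r := by
      have h1 := φ.toLinearEquiv.finrank_eq
      rw [Module.finrank_baseChange, Module.finrank_matrix, hA] at h1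
      have h2 : r ^ 2 = n ^ 2 := by simpa [sq] using h1
      exact (Nat.pow_left_injective (by norm_num : 2 ≠ 0) h2).symm
    subst hnr
    obtain ⟨w, hw⟩ := exists_separable_charpoly (Module.finBasis k A) φ
    exact ⟨w, (separable_charpoly_iff k φ w (IsIntegral.of_finite k w)).mp hw⟩

end Main

end Groth.Agent.Lib.Helper1.RegularElt
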