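import Mathlib
import Groth.Agent.Lib.Helper1.CSA.RegularElt

set_option autoImplicit false
universe u v w
open Polynomial Matrix
open scoped TensorProduct

namespace Groth.Agent.Lib.Helper1.AzRegular

section Diag
variable {K : Type u} [Field K] [IsAlgClosed K] {n : ℕ}

theorem exists_diagonalization_injective (M : Matrix (Fin n) (Fin n) K)
    (hM : M.charpoly.Separable) :
    ∃ (P : (Matrix (Fin n) (Fin n) K)ˣ) (μ : Fin n → K), Function.Injective μ ∧
      M = (P : Matrix (Fin n) (Fin n) K) * diagonal μ * ((P⁻¹ : (Matrix (Fin n) (Fin n) K)ˣ) :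
        Matrix (Fin n) (Fin n) K) := by
  obtain ⟨P, μ, h⟩ := CommDense.exists_diagonalization M hM
  refine ⟨P, μ, ?_, h⟩
  have h1 : M.charpoly = ∏ i, (X - C (μ i)) := by
    rw [h, Matrix.coe_units_inv, Matrix.charpoly_units_conj, Matrix.charpoly_diagonal]
  rw [h1] at hM
  exact separable_prod_X_sub_C_iff.mp hM

omit [IsAlgClosed K] in
/-- a matrix commuting with a diagonal matrix with distinct entries and with zero diagonal
vanishes -/
theorem eq_zero_of_commute_diagonal {μ : Fin n → K} (hμ : Function.Injective μ)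
    (w : Matrix (Fin n) (Fin n) K) (hw : w * diagonal μ = diagonal μ * w)
    (hd : ∀ i, w i i = 0) : w = 0 := by
  ext i j
  by_cases hij : i = j
  · subst hij; exact hd i
  · have := congrFun (congrFun hw i) j
    rw [Matrix.mul_diagonal, Matrix.diagonal_mul] at this
    have h2 : (μ j - μ i) * w i j = 0 := by rw [sub_mul]; linear_combination this
    rcases mul_eq_zero.mp h2 with h | h
    · exact absurd (hμ (sub_eq_zero.mp h)).symm hij
    · exact h

end Diag

section Ad
variable (k : Type u) [CommRing k] {A : Type v} [Ring A] [Algebra k A]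

/-- the commutator map `y ↦ x y - y x` -/
def ad (x : A) : A →ₗ[k] A := LinearMap.mulLeft k x - LinearMap.mulRight k x

theorem ad_apply (x y : A) : ad k x y = x * y - y * x := rfl

theorem mem_ker_ad (x y : A) : y ∈ LinearMap.ker (ad k x) ↔ x * y = y * x := by
  rw [LinearMap.mem_ker, ad_apply, sub_eq_zero]

end Ad

section Fibre
variable (k : Type u) [Field k] {A : Type v} [Ring A] [Algebra k A] [FiniteDimensional k A]
  {K : Type w} [Field K] [Algebra k K] [IsAlgClosed K] {r : ℕ}
  (φ : K ⊗[k] A ≃ₐ[K] Matrix (Fin r) (Fin r) K)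

include φ in
theorem finrank_ker_ad_le (x : A) (hsep : (φ (1 ⊗ₜ[k] x)).charpoly.Separable) :
    Module.finrank k (LinearMap.ker (ad k x)) ≤ r := by
  classical
  obtain ⟨P, μ, hμ, hM⟩ := exists_diagonalization_injective (φ (1 ⊗ₜ[k] x)) hsep
  set Z := LinearMap.ker (ad k x) with hZ
  let ι : K ⊗[k] Z →ₗ[K] K ⊗[k] A := Z.subtype.baseChange K
  have hι : Function.Injective ι :=
    Module.Flat.lTensor_preserves_injective_linearMap (M := K) Z.subtype Subtype.val_injective
  have hcomm : ∀ z : K ⊗[k] Z, ι z * (1 ⊗ₜ[k] x) = (1 ⊗ₜ[k] x) * ι z := by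
    intro z
    induction z using TensorProduct.induction_on with
    | zero => simp
    | add a b ha hb => rw [map_add, add_mul, mul_add, ha, hb]
    | tmul c z =>
      have hz : x * (z : A) = (z : A) * x := (mem_ker_ad k x z).mp z.2
      simp only [ι, LinearMap.baseChange_tmul, Submodule.subtype_apply,
        Algebra.TensorProduct.tmul_mul_tmul, mul_one, one_mul, hz]
  let conj : Matrix (Fin r) (Fin r) K →ₗ[K] Matrix (Fin r) (Fin r) K :=
    LinearMap.mulLeft K ((P⁻¹ : (Matrix (Fin r) (Fin r) K)ˣ) : Matrix (Fin r) (Fin r) K) ∘ₗ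
      LinearMap.mulRight K (P : Matrix (Fin r) (Fin r) K)
  let Ψ : K ⊗[k] Z →ₗ[K] (Fin r → K) :=
    (Matrix.diagLinearMap (Fin r) K K) ∘ₗ conj ∘ₗ φ.toLinearMap ∘ₗ ι
  have hΨ : Function.Injective Ψ := by
    rw [← LinearMap.ker_eq_bot, LinearMap.ker_eq_bot']
    intro z hz
    set N := φ (ι z) with hN
    set w := ((P⁻¹ : (Matrix (Fin r) (Fin r) K)ˣ) : Matrix (Fin r) (Fin r) K) * N *
      (P : Matrix (Fin r) (Fin r) K) with hw
    have hNM : N * φ (1 ⊗ₜ[k] x) = φ (1 ⊗ₜ[k] x) * N := by
      rw [hN, ← map_mul, ← map_mul, hcomm z]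
    have hPP : ((P⁻¹ : (Matrix (Fin r) (Fin r) K)ˣ) : Matrix (Fin r) (Fin r) K) *
        (P : Matrix (Fin r) (Fin r) K) = 1 := by
      rw [← Units.val_mul, inv_mul_cancel, Units.val_one]
    have hPP' : (P : Matrix (Fin r) (Fin r) K) *
        ((P⁻¹ : (Matrix (Fin r) (Fin r) K)ˣ) : Matrix (Fin r) (Fin r) K) = 1 := by
      rw [← Units.val_mul, mul_inv_cancel, Units.val_one]
    have hD : diagonal μ = ((P⁻¹ : (Matrix (Fin r) (Fin r) K)ˣ) : Matrix (Fin r) (Fin r) K) *
        φ (1 ⊗ₜ[k] x) * (P : Matrix (Fin r) (Fin r) K) := by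
      rw [hM]
      calc diagonal μ = 1 * diagonal μ * 1 := by rw [one_mul, mul_one]
        _ = _ := by rw [← hPP]; simp only [mul_assoc]
    have hwD : w * diagonal μ = diagonal μ * w := by
      rw [hD, hw]
      calc _ = ((P⁻¹ : (Matrix (Fin r) (Fin r) K)ˣ) : Matrix (Fin r) (Fin r) K) * N *
            ((P : Matrix (Fin r) (Fin r) K) *
              ((P⁻¹ : (Matrix (Fin r) (Fin r) K)ˣ) : Matrix (Fin r) (Fin r) K)) *
            φ (1 ⊗ₜ[k] x) * (P : Matrix (Fin r) (Fin r) K) := by simp only [mul_assoc]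
        _ = ((P⁻¹ : (Matrix (Fin r) (Fin r) K)ˣ) : Matrix (Fin r) (Fin r) K) *
            (N * φ (1 ⊗ₜ[k] x)) * (P : Matrix (Fin r) (Fin r) K) := by
          rw [hPP', mul_one]; simp only [mul_assoc]
        _ = ((P⁻¹ : (Matrix (Fin r) (Fin r) K)ˣ) : Matrix (Fin r) (Fin r) K) *
            (φ (1 ⊗ₜ[k] x) * N) * (P : Matrix (Fin r) (Fin r) K) := by rw [hNM]
        _ = ((P⁻¹ : (Matrix (Fin r) (Fin r) K)ˣ) : Matrix (Fin r) (Fin r) K) *
            φ (1 ⊗ₜ[k] x) * ((P : Matrix (Fin r) (Fin r) K) *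
              ((P⁻¹ : (Matrix (Fin r) (Fin r) K)ˣ) : Matrix (Fin r) (Fin r) K)) * N *
            (P : Matrix (Fin r) (Fin r) K) := by rw [hPP', mul_one]; simp only [mul_assoc]
        _ = _ := by simp only [mul_assoc]
    have hdiag : ∀ i, w i i = 0 := by
      intro i
      have := congrFun hz i
      simpa [Ψ, conj, hw, hN, mul_assoc] using this
    have hw0 : w = 0 := eq_zero_of_commute_diagonal hμ w hwD hdiag
    have hN0 : N = 0 := by
      calc N = ((P : Matrix (Fin r) (Fin r) K) *
              ((P⁻¹ : (Matrix (Fin r) (Fin r) K)ˣ) : Matrix (Fin r) (Fin r) K)) * N *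
            ((P : Matrix (Fin r) (Fin r) K) *
              ((P⁻¹ : (Matrix (Fin r) (Fin r) K)ˣ) : Matrix (Fin r) (Fin r) K)) := by
            rw [hPP', one_mul, mul_one]
        _ = (P : Matrix (Fin r) (Fin r) K) * w *
            ((P⁻¹ : (Matrix (Fin r) (Fin r) K)ˣ) : Matrix (Fin r) (Fin r) K) := by
            rw [hw]; simp only [mul_assoc]
        _ = 0 := by rw [hw0, mul_zero, zero_mul]
    have : ι z = 0 := by
      apply φ.injective
      rw [map_zero]; exact hN0
    exact hι (by rw [this, map_zero])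
  have h1 := LinearMap.finrank_le_finrank_of_injective hΨ
  rwa [Module.finrank_baseChange, Module.finrank_fin_fun] at h1

include φ in
/-- For a regular separable element `x` of a split-able algebra, the powers `1, …, x^(r-1)` are
linearly independent and span the centralizer of `x`. -/
theorem span_pow_eq_ker_ad (x : A) (hsep : (φ (1 ⊗ₜ[k] x)).charpoly.Separable) :
    LinearIndependent k (fun i : Fin r => x ^ (i : ℕ)) ∧
      Submodule.span k (Set.range (fun i : Fin r => x ^ (i : ℕ))) = LinearMap.ker (ad k x) := by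
  have hle := finrank_ker_ad_le k φ x hsep
  obtain ⟨-, hdeg⟩ := (RegularElt.separable_charpoly_iff k φ x (IsIntegral.of_finite k x)).mp hsep
  have hli : LinearIndependent k (fun i : Fin r => x ^ (i : ℕ)) := by
    have := linearIndependent_pow (K := k) x
    rw [hdeg] at this
    exact this
  refine ⟨hli, ?_⟩
  apply Submodule.eq_of_le_of_finrank_le
  · rw [Submodule.span_le]
    rintro _ ⟨i, rfl⟩
    rw [SetLike.mem_coe, mem_ker_ad]
    exact ((Commute.refl x).pow_right _).eq
  · rw [finrank_span_eq_card hli, Fintype.card_fin]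
    exact hle

end Fibre

end Groth.Agent.Lib.Helper1.AzRegular
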