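import Mathlib
import Groth.Agent.Lib.Helper1.CSA.AzRegular
import Groth.Agent.Lib.Helper85.AzumayaInner
import Groth.Agent.S3245

set_option autoImplicit false
universe u v w
open Polynomial Matrix
open scoped TensorProduct

namespace Groth.Agent.Lib.Helper1.AzRegular

section LTensor
variable (R : Type u) [CommRing R] (κ : Type v) [CommRing κ] [Algebra R κ]
  (A : Type w) [Ring A] [Algebra R A]

/-- the fibre of a finite linear combination map -/
theorem lTensor_linearCombination {r : ℕ} (v : Fin r → A) (t : κ ⊗[R] (Fin r → R)) :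
    (Fintype.linearCombination R v).lTensor κ t =
      Fintype.linearCombination κ (fun i => (1 : κ) ⊗ₜ[R] v i)
        (TensorProduct.piScalarRight R κ κ (Fin r) t) := by
  induction t using TensorProduct.induction_on with
  | zero => simp
  | add a b ha hb => rw [map_add, map_add, map_add, ha, hb]
  | tmul c f =>
    rw [LinearMap.lTensor_tmul, TensorProduct.piScalarRight_apply,
      TensorProduct.piScalarRightHom_tmul, Fintype.linearCombination_apply,
      Fintype.linearCombination_apply, TensorProduct.tmul_sum]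
    refine Finset.sum_congr rfl fun i _ => ?_
    rw [TensorProduct.smul_tmul', TensorProduct.tmul_smul, TensorProduct.smul_tmul', smul_eq_mul,
      mul_one]

theorem lTensor_ad (ξ : A) (z : κ ⊗[R] A) :
    (ad R ξ).lTensor κ z = ((1 : κ) ⊗ₜ[R] ξ) * z - z * ((1 : κ) ⊗ₜ[R] ξ) := by
  induction z using TensorProduct.induction_on with
  | zero => simp
  | add a b ha hb => rw [map_add, ha, hb, mul_add, add_mul]; abel
  | tmul c a =>
    rw [LinearMap.lTensor_tmul, ad_apply, TensorProduct.tmul_sub,
      Algebra.TensorProduct.tmul_mul_tmul, Algebra.TensorProduct.tmul_mul_tmul, one_mul, mul_one]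

end LTensor

section Local
variable (R : Type u) [CommRing R] [IsLocalRing R] (A : Type u) [Ring A] [Algebra R A]
  [IsAzumaya R A]

local notation "κ" => IsLocalRing.ResidueField R

theorem free_of_isAzumaya : Module.Free R A := Module.free_of_flat_of_isLocalRing

/-- the special fibre of an Azumaya algebra over a local ring is central simple and splits over the
algebraic closure -/
theorem exists_fibre_splitting (r : ℕ) (hA : Module.finrank R A = r ^ 2) :
    Algebra.IsCentral κ (κ ⊗[R] A) ∧ IsSimpleRing (κ ⊗[R] A) ∧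
    Nonempty (AlgebraicClosure κ ⊗[κ] (κ ⊗[R] A) ≃ₐ[AlgebraicClosure κ]
      Matrix (Fin r) (Fin r) (AlgebraicClosure κ)) := by
  have hfree : Module.Free R A := free_of_isAzumaya R A
  have hnt : Nontrivial A := Groth.Agent.Lib.Helper85.nontrivial_of_isAzumaya_local R A
  obtain ⟨hc, hs⟩ := (Groth.Agent.S3245.result R A).mp inferInstance
  refine ⟨hc, hs, ?_⟩
  let Ω := AlgebraicClosure κ
  have hsimple : IsSimpleRing (Ω ⊗[κ] (κ ⊗[R] A)) :=
    Groth.Agent.Lib.Helper1.isSimpleRing_tensor_of_isCentral_of_isSimpleRing Ω (κ ⊗[R] A)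
  obtain ⟨n, hn, ⟨φ⟩⟩ := IsSimpleRing.exists_algEquiv_matrix_of_isAlgClosed Ω (Ω ⊗[κ] (κ ⊗[R] A))
  have hnr : n = r := by
    have h1 := φ.toLinearEquiv.finrank_eq
    rw [Module.finrank_baseChange, Module.finrank_baseChange, Module.finrank_matrix, hA] at h1
    have h2 : r ^ 2 = n ^ 2 := by simpa [sq] using h1
    exact (Nat.pow_left_injective (by norm_num : 2 ≠ 0) h2).symm
  subst hnr
  exact ⟨φ⟩

/-- If the image of `ξ` in the special fibre of an Azumaya algebra of rank `r²` over a local ring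
is regular separable, then `1, ξ, …, ξ^(r-1)` are linearly independent and span the centralizer
of `ξ`. -/
theorem exists_retraction (r : ℕ) (hA : Module.finrank R A = r ^ 2) (ξ : A)
    (hsep : Algebra.IsSeparable κ (Algebra.adjoin κ ({(1 : κ) ⊗ₜ[R] ξ} : Set (κ ⊗[R] A))))
    (hrk : Module.finrank κ (Algebra.adjoin κ ({(1 : κ) ⊗ₜ[R] ξ} : Set (κ ⊗[R] A))) = r) :
    ∃ π : A →ₗ[R] (Fin r → R),
      (∀ c, π (Fintype.linearCombination R (fun i : Fin r => ξ ^ (i : ℕ)) c) = c) ∧
      ∀ a : A, ξ * a = a * ξ →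
        a = Fintype.linearCombination R (fun i : Fin r => ξ ^ (i : ℕ)) (π a) := by
  classical
  obtain ⟨hc, hs, ⟨φ⟩⟩ := exists_fibre_splitting R A r hA
  have hfree := free_of_isAzumaya R A
  set x : κ ⊗[R] A := (1 : κ) ⊗ₜ[R] ξ with hx
  have hcp : (φ (1 ⊗ₜ[κ] x)).charpoly.Separable :=
    (RegularElt.adjoin_props_iff κ φ x (IsIntegral.of_finite κ x)).mpr ⟨hsep, hrk⟩
  obtain ⟨hli, hspan⟩ := span_pow_eq_ker_ad κ φ x hcp
  set l₁ : (Fin r → R) →ₗ[R] A := Fintype.linearCombination R (fun i : Fin r => ξ ^ (i : ℕ))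
    with hl₁
  have hpow : (fun i : Fin r => (1 : κ) ⊗ₜ[R] (ξ ^ (i : ℕ))) = fun i : Fin r => x ^ (i : ℕ) := by
    funext i
    rw [hx, Algebra.TensorProduct.tmul_pow, one_pow]
  have hfib : ∀ t, l₁.lTensor κ t = Fintype.linearCombination κ (fun i : Fin r => x ^ (i : ℕ))
      (TensorProduct.piScalarRight R κ κ (Fin r) t) := by
    intro t
    rw [hl₁, lTensor_linearCombination, hpow]
  have hinj₁ : Function.Injective (l₁.lTensor κ) := by
    intro s t hst
    rw [hfib, hfib] at hst
    exact (TensorProduct.piScalarRight R κ κ (Fin r)).injective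
      (linearIndependent_iff_injective_fintypeLinearCombination.mp hli hst)
  obtain ⟨π, hπ⟩ :=
    (IsLocalRing.split_injective_iff_lTensor_residueField_injective l₁).mpr hinj₁
  have hπ' : ∀ c, π (l₁ c) = c := fun c => LinearMap.congr_fun hπ c
  refine ⟨π, hπ', ?_⟩
  -- the map Φ = (ad ξ, π)
  set Φ : A →ₗ[R] A × (Fin r → R) := (ad R ξ).prod π with hΦ
  have hΦinj : Function.Injective (Φ.lTensor κ) := by
    rw [← LinearMap.ker_eq_bot, LinearMap.ker_eq_bot']
    intro z hz
    have h1 : (ad R ξ).lTensor κ z = 0 := by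
      have : (ad R ξ) = (LinearMap.fst R A (Fin r → R)) ∘ₗ Φ := by rw [hΦ, LinearMap.fst_prod]
      rw [this, LinearMap.lTensor_comp, LinearMap.comp_apply, hz, map_zero]
    have h2 : π.lTensor κ z = 0 := by
      have : π = (LinearMap.snd R A (Fin r → R)) ∘ₗ Φ := by rw [hΦ, LinearMap.snd_prod]
      rw [this, LinearMap.lTensor_comp, LinearMap.comp_apply, hz, map_zero]
    rw [lTensor_ad] at h1
    have h3 : z ∈ LinearMap.ker (ad κ x) := by
      rw [mem_ker_ad]; exact sub_eq_zero.mp h1
    rw [← hspan, ← Fintype.range_linearCombination] at h3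
    obtain ⟨c, hc⟩ := h3
    set t := (TensorProduct.piScalarRight R κ κ (Fin r)).symm c with ht
    have h4 : z = l₁.lTensor κ t := by
      rw [hfib, ht, LinearEquiv.apply_symm_apply, hc]
    have h5 : π.lTensor κ (l₁.lTensor κ t) = t := by
      rw [← LinearMap.comp_apply, ← LinearMap.lTensor_comp, hπ, LinearMap.lTensor_id,
        LinearMap.id_apply]
    rw [h4, h5] at h2
    rw [h4, h2, map_zero]
  obtain ⟨Φ', hΦ'⟩ :=
    (IsLocalRing.split_injective_iff_lTensor_residueField_injective Φ).mpr hΦinj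
  have hΦi : Function.Injective Φ :=
    Function.LeftInverse.injective (fun a => LinearMap.congr_fun hΦ' a)
  intro a ha
  have hcomm : ∀ c, ξ * l₁ c = l₁ c * ξ := by
    intro c
    rw [hl₁, Fintype.linearCombination_apply, Finset.mul_sum, Finset.sum_mul]
    refine Finset.sum_congr rfl fun i _ => ?_
    rw [mul_smul_comm, smul_mul_assoc, ((Commute.refl ξ).pow_right _).eq]
  have h0 : Φ (a - l₁ (π a)) = Φ 0 := by
    rw [map_zero, hΦ, LinearMap.prod_apply]
    show ((ad R ξ) (a - l₁ (π a)), π (a - l₁ (π a))) = 0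
    rw [Prod.mk_eq_zero, ad_apply, map_sub, hπ',
      sub_self, mul_sub, sub_mul, hcomm, ha, sub_self]
    exact ⟨rfl, rfl⟩
  exact sub_eq_zero.mp (hΦi h0)

/-- If the image of `ξ` in the special fibre of an Azumaya algebra of rank `r²` over a local ring
is regular separable, then `1, ξ, …, ξ^(r-1)` are linearly independent and span the centralizer
of `ξ`. -/
theorem centralizer_eq_span (r : ℕ) (hA : Module.finrank R A = r ^ 2) (ξ : A)
    (hsep : Algebra.IsSeparable κ (Algebra.adjoin κ ({(1 : κ) ⊗ₜ[R] ξ} : Set (κ ⊗[R] A))))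
    (hrk : Module.finrank κ (Algebra.adjoin κ ({(1 : κ) ⊗ₜ[R] ξ} : Set (κ ⊗[R] A))) = r) :
    LinearIndependent R (fun i : Fin r => ξ ^ (i : ℕ)) ∧
      ∀ a : A, ξ * a = a * ξ → a ∈ Submodule.span R (Set.range (fun i : Fin r => ξ ^ (i : ℕ))) := by
  obtain ⟨π, hπ, hcen⟩ := exists_retraction R A r hA ξ hsep hrk
  refine ⟨linearIndependent_iff_injective_fintypeLinearCombination.mpr
    (Function.LeftInverse.injective hπ), ?_⟩
  intro a ha
  rw [hcen a ha, ← Fintype.range_linearCombination]
  exact ⟨π a, rfl⟩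

end Local

end Groth.Agent.Lib.Helper1.AzRegular
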