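import Mathlib
import Groth.Agent.Lib.Helper1.CSA.AzRegularLocal
import Groth.Agent.Lib.Helper3.FiniteEtaleLift

set_option autoImplicit false
universe u v w
open Polynomial Matrix
open scoped TensorProduct

namespace Groth.Agent.Lib.Helper1.AzRegular

theorem aeval_one_tmul' {R : Type u} [CommRing R] {A : Type v} [Ring A] [Algebra R A]
    (K : Type w) [CommRing K] [Algebra R K] (x : A) (p : R[X]) :
    aeval ((1 : K) ⊗ₜ[R] x) (p.map (algebraMap R K)) = (1 : K) ⊗ₜ[R] (aeval x p) := by
  rw [aeval_map_algebraMap]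
  have : ((1 : K) ⊗ₜ[R] x) = (Algebra.TensorProduct.includeRight : A →ₐ[R] K ⊗[R] A) x := rfl
  rw [this, aeval_algHom_apply]
  rfl

section Poly
variable {R : Type u} [CommRing R] {A : Type v} [Ring A] [Algebra R A]

/-- the monic polynomial `X^r - ∑ cᵢ Xⁱ` -/
noncomputable def relPoly {r : ℕ} (c : Fin r → R) : R[X] :=
  X ^ r - ∑ i : Fin r, C (c i) * X ^ (i : ℕ)

theorem relPoly_monic {r : ℕ} (c : Fin r → R) : (relPoly c).Monic :=
  monic_X_pow_sub (degree_sum_fin_lt c)

theorem relPoly_natDegree [Nontrivial R] {r : ℕ} (c : Fin r → R) : (relPoly c).natDegree = r := by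
  have h1 : (relPoly c).degree = r := by
    rw [relPoly, degree_sub_eq_left_of_degree_lt, degree_X_pow]
    rw [degree_X_pow]; exact degree_sum_fin_lt c
  exact natDegree_eq_of_degree_eq_some h1

theorem aeval_relPoly {r : ℕ} (c : Fin r → R) (ξ : A) :
    aeval ξ (relPoly c) = ξ ^ r - Fintype.linearCombination R (fun i : Fin r => ξ ^ (i : ℕ)) c := by
  rw [relPoly, map_sub, map_pow, aeval_X, map_sum, Fintype.linearCombination_apply]
  congr 1
  refine Finset.sum_congr rfl fun i _ => ?_
  rw [map_mul, aeval_C, map_pow, aeval_X, Algebra.smul_def]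

/-- the evaluation map `R[X]/(P) → A` at a root `ξ` of `P` in a noncommutative algebra -/
noncomputable def evalHom (P : R[X]) (ξ : A) (h : aeval ξ P = 0) : AdjoinRoot P →ₐ[R] A :=
  Ideal.Quotient.liftₐ (Ideal.span {P}) (aeval ξ) (fun a ha => by
    obtain ⟨q, rfl⟩ := Ideal.mem_span_singleton.mp ha
    rw [map_mul, h, zero_mul])

theorem evalHom_mk (P : R[X]) (ξ : A) (h : aeval ξ P = 0) (q : R[X]) :
    evalHom P ξ h (AdjoinRoot.mk P q) = aeval ξ q := rfl

/-- every element of `R[X]/(P)`, `P` monic of degree `r > 0`, is a combination of `1, …, X^(r-1)`-/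
theorem exists_eq_linearCombination [Nontrivial R] {r : ℕ} (hr : 0 < r) (c : Fin r → R)
    (e : AdjoinRoot (relPoly c)) :
    ∃ d : Fin r → R, e = AdjoinRoot.mk (relPoly c) (∑ i : Fin r, C (d i) * X ^ (i : ℕ)) := by
  obtain ⟨q, rfl⟩ := AdjoinRoot.mk_surjective e
  have hm := relPoly_monic c
  have hne : relPoly c ≠ 1 := by
    intro h
    have := relPoly_natDegree c
    rw [h, natDegree_one] at this
    omega
  have hdeg : (q %ₘ relPoly c).natDegree < r := by
    have := natDegree_modByMonic_lt q hm hne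
    rwa [relPoly_natDegree] at this
  refine ⟨fun i => (q %ₘ relPoly c).coeff i, ?_⟩
  rw [← Finset.sum_range (fun i => C ((q %ₘ relPoly c).coeff i) * X ^ i),
    ← as_sum_range_C_mul_X_pow' _ hdeg, AdjoinRoot.mk_eq_mk]
  exact ⟨q /ₘ relPoly c, by rw [sub_eq_iff_eq_add']; exact (modByMonic_add_div q (relPoly c)).symm⟩

end Poly

end Groth.Agent.Lib.Helper1.AzRegular

namespace Groth.Agent.Lib.Helper1.AzRegular

section Etale
variable (R : Type u) [CommRing R] [IsLocalRing R] (A : Type u) [Ring A] [Algebra R A]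
  [IsAzumaya R A]

local notation "κ" => IsLocalRing.ResidueField R

/-- existence of a lift of a regular separable element of the special fibre -/
theorem exists_regular_lift (r : ℕ) (hA : Module.finrank R A = r ^ 2) :
    ∃ ξ : A,
      Algebra.IsSeparable κ (Algebra.adjoin κ ({(1 : κ) ⊗ₜ[R] ξ} : Set (κ ⊗[R] A))) ∧
      Module.finrank κ (Algebra.adjoin κ ({(1 : κ) ⊗ₜ[R] ξ} : Set (κ ⊗[R] A))) = r := by
  obtain ⟨hc, hs, -⟩ := exists_fibre_splitting R A r hA
  have hfree := free_of_isAzumaya R A
  have hfin : Module.finrank κ (κ ⊗[R] A) = r ^ 2 := by rw [Module.finrank_baseChange, hA]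
  obtain ⟨x, hsep, hdeg⟩ := RegularElt.exists_regular_separable κ (κ ⊗[R] A) r hfin
  obtain ⟨ξ, rfl⟩ := TensorProduct.mk_surjective R A κ Ideal.Quotient.mk_surjective x
  exact ⟨ξ, RegularElt.isSeparable_adjoin_of_separable_minpoly κ _ hsep, by
    rw [RegularElt.finrank_adjoin_singleton]; exact hdeg⟩

theorem rank_pos (r : ℕ) (hA : Module.finrank R A = r ^ 2) : 0 < r := by
  have hfree := free_of_isAzumaya R A
  have hnt : Nontrivial A := Groth.Agent.Lib.Helper85.nontrivial_of_isAzumaya_local R A
  have := (Module.finrank_pos_iff_of_free (R := R) (M := A)).mpr hnt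
  rw [hA] at this
  exact Nat.pos_of_ne_zero (fun h => by rw [h] at this; simp at this)

/-- For a lift `ξ` of a regular separable element: the relation polynomial `P`, its separability
modulo the maximal ideal, and injectivity of `R[X]/(P) → A` on the special fibre. -/
theorem maximal_etale_of_regular (r : ℕ) (hA : Module.finrank R A = r ^ 2) (ξ : A)
    (hsep : Algebra.IsSeparable κ (Algebra.adjoin κ ({(1 : κ) ⊗ₜ[R] ξ} : Set (κ ⊗[R] A))))
    (hrk : Module.finrank κ (Algebra.adjoin κ ({(1 : κ) ⊗ₜ[R] ξ} : Set (κ ⊗[R] A))) = r) :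
    ∃ (c : Fin r → R) (h : aeval ξ (relPoly c) = 0),
      ((relPoly c).map (IsLocalRing.residue R)).Separable ∧
      Function.Injective ((evalHom (relPoly c) ξ h).toLinearMap.lTensor κ) := by
  classical
  obtain ⟨π, hπ, hcen⟩ := exists_retraction R A r hA ξ hsep hrk
  have hr := rank_pos R A r hA
  set c := π (ξ ^ r) with hc
  have hrel := hcen (ξ ^ r) ((Commute.refl ξ).pow_right r).eq
  have h0 : aeval ξ (relPoly c) = 0 := by rw [aeval_relPoly, ← hrel, sub_self]
  refine ⟨c, h0, ?_, ?_⟩
  · -- separable reduction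
    set x : κ ⊗[R] A := (1 : κ) ⊗ₜ[R] ξ with hx
    have hxi : IsIntegral κ x := IsIntegral.of_finite κ x
    have hmin_sep : (minpoly κ x).Separable :=
      RegularElt.separable_minpoly_of_isSeparable_adjoin κ x hsep
    have hmin_deg : (minpoly κ x).natDegree = r := by
      rw [← RegularElt.finrank_adjoin_singleton]; exact hrk
    have hdvd : minpoly κ x ∣ (relPoly c).map (IsLocalRing.residue R) := by
      apply minpoly.dvd
      have := aeval_one_tmul' κ ξ (relPoly c)
      rw [h0, TensorProduct.tmul_zero] at this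
      exact this
    have heq : (relPoly c).map (IsLocalRing.residue R) = minpoly κ x :=
      eq_of_monic_of_dvd_of_natDegree_le (minpoly.monic hxi) ((relPoly_monic c).map _) hdvd (by
        rw [(relPoly_monic c).natDegree_map, relPoly_natDegree, hmin_deg])
    rw [heq]
    exact hmin_sep
  · -- injectivity on the fibre
    set P := relPoly c with hP
    set u := evalHom P ξ h0 with hu
    let L : A →ₗ[R] AdjoinRoot P :=
      (Fintype.linearCombination R (fun i : Fin r => (AdjoinRoot.root P) ^ (i : ℕ))) ∘ₗ π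
    have hL : ∀ e, L (u e) = e := by
      intro e
      obtain ⟨d, rfl⟩ := exists_eq_linearCombination hr c e
      have h1 : u (AdjoinRoot.mk P (∑ i : Fin r, C (d i) * X ^ (i : ℕ))) =
          Fintype.linearCombination R (fun i : Fin r => ξ ^ (i : ℕ)) d := by
        rw [hu, evalHom_mk, map_sum, Fintype.linearCombination_apply]
        refine Finset.sum_congr rfl fun i _ => ?_
        rw [map_mul, aeval_C, map_pow, aeval_X, Algebra.smul_def]
      rw [LinearMap.comp_apply, h1, hπ, Fintype.linearCombination_apply, map_sum]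
      refine Finset.sum_congr rfl fun i _ => ?_
      rw [map_mul, map_pow, AdjoinRoot.mk_X, AdjoinRoot.mk_C, Algebra.smul_def]
      rfl
    have hcomp : (L.lTensor κ) ∘ₗ (u.toLinearMap.lTensor κ) = LinearMap.id := by
      rw [← LinearMap.lTensor_comp, show L ∘ₗ u.toLinearMap = LinearMap.id from LinearMap.ext hL,
        LinearMap.lTensor_id]
    exact Function.LeftInverse.injective (LinearMap.congr_fun hcomp)

/-- A maximal étale subalgebra of an Azumaya algebra over a local ring: `R[X]/(P) → A`, `X ↦ ξ`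
with `ξ` a lift of a regular separable element. -/
theorem exists_maximal_etale (r : ℕ) (hA : Module.finrank R A = r ^ 2) :
    ∃ (c : Fin r → R) (ξ : A) (h : aeval ξ (relPoly c) = 0),
      Algebra.Etale R (AdjoinRoot (relPoly c)) ∧
      Function.Injective ((evalHom (relPoly c) ξ h).toLinearMap.lTensor κ) := by
  obtain ⟨ξ, hsep, hrk⟩ := exists_regular_lift R A r hA
  obtain ⟨c, h, hs, hinj⟩ := maximal_etale_of_regular R A r hA ξ hsep hrk
  exact ⟨c, ξ, h,
    Groth.Agent.Lib.Helper3.etale_adjoinRoot_of_separable _ (relPoly_monic c) hs, hinj⟩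

end Etale

end Groth.Agent.Lib.Helper1.AzRegular
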