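import Mathlib
import Groth.Agent.Lib.Helper1.CSA.TensorSimple

set_option autoImplicit false
universe u v w
open scoped TensorProduct

namespace Groth.Agent.Lib.Helper1.AzFree

section Count
variable (κ : Type u) [Field κ] (S : Type v) [CommRing S] [Algebra κ S] [FiniteDimensional κ S]
  [IsReduced S]
  (M : Type w) [AddCommGroup M] [Module S M] [Module κ M] [IsScalarTower κ S M]
  [FiniteDimensional κ M]

/-- the Chinese remainder map of a module over a reduced artinian ring -/
noncomputable def crtMap : M →ₗ[S] (∀ P : MaximalSpectrum S, (S ⧸ P.asIdeal) ⊗[S] M) :=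
  LinearMap.pi fun P => TensorProduct.mk S (S ⧸ P.asIdeal) M 1

include κ in
omit [Module κ M] [IsScalarTower κ S M] [FiniteDimensional κ M] in
theorem crtMap_bijective : Function.Bijective (crtMap S M) := by
  have : IsArtinianRing S := IsArtinianRing.of_finite κ S
  have hco : Pairwise (Function.onFun IsCoprime fun P : MaximalSpectrum S => P.asIdeal) :=
    fun P Q hPQ => Ideal.isCoprime_of_isMaximal (MaximalSpectrum.ext_iff.ne.mp hPQ)
  constructor
  · rw [← LinearMap.ker_eq_bot, crtMap, Ideal.ker_tensorProductMk_quotient M _ hco,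
      ← IsArtinianRing.nilradical_eq_iInf, nilradical_eq_zero]
    simp
  · exact Ideal.pi_tensorProductMk_quotient_surjective M _ hco

/-- `κ`-linear version of the CRT isomorphism -/
noncomputable def crtEquiv : M ≃ₗ[κ] (∀ P : MaximalSpectrum S, (S ⧸ P.asIdeal) ⊗[S] M) :=
  LinearEquiv.ofBijective
    { toFun := crtMap S M
      map_add' := map_add _
      map_smul' := fun c m => by
        rw [RingHom.id_apply, ← algebraMap_smul S c m, map_smul, algebraMap_smul] }
    (crtMap_bijective κ S M)

theorem finrank_eq_sum [Fintype (MaximalSpectrum S)] :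
    Module.finrank κ M = ∑ P : MaximalSpectrum S,
      Module.finrank κ ((S ⧸ P.asIdeal) ⊗[S] M) := by
  have hfin : ∀ P : MaximalSpectrum S, Module.Finite κ ((S ⧸ P.asIdeal) ⊗[S] M) := by
    intro P
    have : Module.Finite κ (∀ P : MaximalSpectrum S, (S ⧸ P.asIdeal) ⊗[S] M) :=
      Module.Finite.equiv (crtEquiv κ S M)
    exact Module.Finite.of_surjective
      (LinearMap.proj (R := κ) (φ := fun P : MaximalSpectrum S => (S ⧸ P.asIdeal) ⊗[S] M) P)
      (LinearMap.proj_surjective P)
  rw [(crtEquiv κ S M).finrank_eq, Module.finrank_pi_fintype]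

end Count

section LeftMul
variable (κ : Type u) [CommRing κ] (S : Type v) [CommRing S] [Algebra κ S]
  (B : Type w) [Ring B] [Algebra κ B]
  (ū : S →ₐ[κ] B) [Module S B] (hmod : ∀ (z : S) (y : B), z • y = y * ū z)

include hmod in
theorem isScalarTower_of_hmod : IsScalarTower κ S B := by
  constructor
  intro c z y
  rw [hmod, hmod, map_smul, mul_smul_comm]

/-- left multiplication as an `S`-linear map (`S` acts through right multiplication) -/
def leftMul (a : B) : B →ₗ[S] B where
  toFun y := a * y
  map_add' := mul_add a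
  map_smul' z y := by rw [RingHom.id_apply, hmod, hmod, mul_assoc]

theorem leftMul_apply (a y : B) : leftMul κ S B ū hmod a y = a * y := rfl

/-- left multiplication as an algebra homomorphism into the `S`-linear endomorphisms -/
def leftMulHom :
    haveI := isScalarTower_of_hmod κ S B ū hmod
    B →ₐ[κ] Module.End S B :=
  haveI := isScalarTower_of_hmod κ S B ū hmod
  { toFun := fun a => leftMul κ S B ū hmod a
    map_one' := by ext y; simp [leftMul_apply]
    map_mul' := fun a b => by ext y; simp [leftMul_apply, mul_assoc]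
    map_zero' := by ext y; simp [leftMul_apply]
    map_add' := fun a b => by ext y; simp [leftMul_apply, add_mul]
    commutes' := fun c => by
      ext y
      simp only [leftMul_apply, Module.algebraMap_end_apply]
      rw [← Algebra.smul_def] }

theorem leftMulHom_apply (a y : B) : leftMulHom κ S B ū hmod a y = a * y := rfl

end LeftMul

section LowerBound
variable (κ : Type u) [Field κ] (S : Type v) [CommRing S] [Algebra κ S]
  (B : Type w) [Ring B] [Algebra κ B]
  (ū : S →ₐ[κ] B) [Module S B] (hmod : ∀ (z : S) (y : B), z • y = y * ū z)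

variable (F : Type v) [Field F] [Algebra S F]

/-- the action of `B` on a fibre `F ⊗[S] B` -/
noncomputable def fibreAct [Algebra κ F] [IsScalarTower κ S F] :
    haveI := isScalarTower_of_hmod κ S B ū hmod
    B →ₐ[κ] Module.End F (F ⊗[S] B) :=
  haveI := isScalarTower_of_hmod κ S B ū hmod
  { toFun := fun a => (leftMul κ S B ū hmod a).baseChange F
    map_one' := by
      ext y
      simp [leftMul_apply]
    map_mul' := fun a b => by
      ext y
      simp [leftMul_apply, mul_assoc]
    map_zero' := by
      ext y
      simp [leftMul_apply]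
    map_add' := fun a b => by
      ext y
      simp [leftMul_apply, add_mul, TensorProduct.tmul_add]
    commutes' := fun c => by
      ext y
      simp only [TensorProduct.AlgebraTensorModule.curry_apply, TensorProduct.curry_apply,
        LinearMap.coe_restrictScalars, LinearMap.baseChange_tmul, leftMul_apply,
        Module.algebraMap_end_apply]
      rw [← Algebra.smul_def, TensorProduct.tmul_smul] }

include hmod in
/-- the fibre `F ⊗[S] B` is nonzero when `S → B` is injective and `B` is finite over `S` -/
theorem nontrivial_fibre (hū : Function.Injective ū) [Module.Finite S B]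
    (hF : Function.Surjective (algebraMap S F)) : Nontrivial (F ⊗[S] B) := by
  by_contra hsub
  rw [not_nontrivial_iff_subsingleton] at hsub
  set P : Ideal S := RingHom.ker (algebraMap S F) with hP
  have hP1 : P ≠ ⊤ := RingHom.ker_ne_top _
  -- F ≃ S ⧸ P
  let e : (S ⧸ P) ≃ₐ[S] F := Ideal.quotientKerAlgEquivOfSurjective (f := Algebra.ofId S F) hF
  have hsub2 : Subsingleton ((S ⧸ P) ⊗[S] B) :=
    (TensorProduct.congr e.toLinearEquiv (LinearEquiv.refl S B)).toEquiv.subsingleton
  have hsub3 : Subsingleton (B ⧸ (P • (⊤ : Submodule S B))) :=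
    (TensorProduct.quotTensorEquivQuotSMul B P).symm.toEquiv.subsingleton
  have htop : P • (⊤ : Submodule S B) = ⊤ := Submodule.Quotient.subsingleton_iff.mp hsub3
  obtain ⟨e0, he0, he1⟩ := Submodule.exists_sub_one_mem_and_smul_eq_zero_of_fg_of_le_smul P
    (⊤ : Submodule S B) Module.Finite.fg_top (by rw [htop])
  have h1 : ū e0 = 0 := by
    have := he1 1 Submodule.mem_top
    rwa [hmod, one_mul] at this
  have h2 : e0 = 0 := hū (by rw [h1, map_zero])
  rw [h2, zero_sub] at he0
  exact hP1 ((Ideal.eq_top_iff_one P).mpr (by simpa using P.neg_mem he0))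

include hmod in
/-- lower bound for the fibre dimension -/
theorem le_finrank_fibre [Algebra.IsCentral κ B] [IsSimpleRing B] [FiniteDimensional κ B]
    [Algebra κ F] [IsScalarTower κ S F] (r : ℕ) (hB : Module.finrank κ B = r ^ 2)
    (hū : Function.Injective ū) (hF : Function.Surjective (algebraMap S F)) :
    r ≤ Module.finrank F (F ⊗[S] B) := by
  haveI := isScalarTower_of_hmod κ S B ū hmod
  have hfin : Module.Finite S B := Module.Finite.of_restrictScalars_finite κ S B
  have hnt := nontrivial_fibre κ S B ū hmod F hū hF
  let g := fibreAct κ S B ū hmod F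
  let ρ : F ⊗[κ] B →ₐ[F] Module.End F (F ⊗[S] B) :=
    Algebra.TensorProduct.lift (Algebra.ofId F _) g
      (fun x a => Algebra.commute_algebraMap_left x (g a))
  have hsimple : IsSimpleRing (F ⊗[κ] B) :=
    Groth.Agent.Lib.Helper1.isSimpleRing_tensor_of_isCentral_of_isSimpleRing F B
  have hinj : Function.Injective ρ := RingHom.injective ρ.toRingHom
  have h1 := LinearMap.finrank_le_finrank_of_injective (f := ρ.toLinearMap) hinj
  rw [Module.finrank_baseChange, hB, Module.finrank_linearMap, ← sq] at h1
  exact (Nat.pow_le_pow_iff_left (by norm_num)).mp h1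

end LowerBound

section Main
variable (κ : Type u) [Field κ] (S : Type v) [CommRing S] [Algebra κ S] [FiniteDimensional κ S]
  [Algebra.FormallyUnramified κ S]
  (B : Type w) [Ring B] [Algebra κ B] [Algebra.IsCentral κ B] [IsSimpleRing B]
  [FiniteDimensional κ B]
  (ū : S →ₐ[κ] B) [Module S B] (hmod : ∀ (z : S) (y : B), z • y = y * ū z)

include hmod in
/-- A central simple algebra of degree `r` is free of rank `r` as a module over an étale
commutative subalgebra of dimension `r` (acting by right multiplication). -/
theorem nonempty_basis_of_etale (r : ℕ) (hS : Module.finrank κ S = r)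
    (hB : Module.finrank κ B = r ^ 2) (hū : Function.Injective ū) :
    Nonempty (Module.Basis (Fin r) S B) := by
  classical
  have htower := isScalarTower_of_hmod κ S B ū hmod
  have hred : IsReduced S := Algebra.FormallyUnramified.isReduced_of_field κ S
  have hart : IsArtinianRing S := IsArtinianRing.of_finite κ S
  have hfint : Fintype (MaximalSpectrum S) := Fintype.ofFinite _
  have hflat : Module.Flat S B := Algebra.FormallyUnramified.flat_of_restrictScalars κ S B
  have hfinB : Module.Finite S B := Module.Finite.of_restrictScalars_finite κ S B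
  have key : ∀ P : MaximalSpectrum S, ∃ f d : ℕ, 0 < f ∧ r ≤ d ∧
      Module.finrank κ ((S ⧸ P.asIdeal) ⊗[S] S) = f ∧
      Module.finrank κ ((S ⧸ P.asIdeal) ⊗[S] B) = f * d ∧
      Module.finrank (S ⧸ P.asIdeal) ((S ⧸ P.asIdeal) ⊗[S] B) = d := by
    intro P
    haveI := P.isMaximal
    letI : Field (S ⧸ P.asIdeal) := Ideal.Quotient.field P.asIdeal
    refine ⟨Module.finrank κ (S ⧸ P.asIdeal),
      Module.finrank (S ⧸ P.asIdeal) ((S ⧸ P.asIdeal) ⊗[S] B), Module.finrank_pos, ?_, ?_, ?_, rfl⟩
    · exact le_finrank_fibre κ S B ū hmod (S ⧸ P.asIdeal) r hB hū Ideal.Quotient.mk_surjective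
    · exact ((TensorProduct.rid S (S ⧸ P.asIdeal)).restrictScalars κ).finrank_eq
    · exact (Module.finrank_mul_finrank κ (S ⧸ P.asIdeal) _).symm
  choose f d hf hd h1 h2 h3 using key
  have hsum1 : r = ∑ P, f P := by
    rw [← hS, finrank_eq_sum κ S S]
    exact Finset.sum_congr rfl fun P _ => h1 P
  have hsum2 : r ^ 2 = ∑ P, f P * d P := by
    rw [← hB, finrank_eq_sum κ S B]
    exact Finset.sum_congr rfl fun P _ => h2 P
  have hle : ∀ P ∈ (Finset.univ : Finset (MaximalSpectrum S)), f P * r ≤ f P * d P :=
    fun P _ => Nat.mul_le_mul_left _ (hd P)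
  have heq : ∑ P, f P * r = ∑ P, f P * d P := by
    rw [← Finset.sum_mul, ← hsum1, ← hsum2, sq]
  have hall := (Finset.sum_eq_sum_iff_of_le hle).mp heq
  apply Module.nonempty_basis_of_flat_of_finrank_eq S B r
  intro P
  have := hall P (Finset.mem_univ P)
  have hdP : r = d P := Nat.eq_of_mul_eq_mul_left (hf P) this
  rw [hdP]
  convert h3 P

end Main

end Groth.Agent.Lib.Helper1.AzFree
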