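import Mathlib
import Groth.Agent.Lib.Helper1.CSA.AzFree
import Groth.Agent.Lib.Helper1.CSA.AzRegularLocal
import Groth.Agent.Lib.Helper85.FibreAlgHom
import Groth.Agent.Lib.Helper85.CSAField
import Groth.Agent.Lib.Helper85.AzumayaBaseChange

/-!
# An Azumaya algebra over a local ring is free over a maximal étale subalgebra (helper1)

* `nonempty_basis`: `A` is free of rank `r` over `E`
* `toEnd`, `toEnd_bijective`: `E ⊗ A ≃ End_E(A)`
-/

set_option autoImplicit false
universe u v w
open scoped TensorProduct

namespace Groth.Agent.Lib.Helper1.AzFree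

section Local
variable (R : Type u) [CommRing R] [IsLocalRing R] (A : Type u) [Ring A] [Algebra R A]
  [IsAzumaya R A] (E : Type u) [CommRing E] [Algebra R E] [Algebra.Etale R E] [Module.Finite R E]
  [Module.Free R E] (u : E →ₐ[R] A) [Module E A] (hmod : ∀ (e : E) (a : A), e • a = a * u e)

local notation "κ" => IsLocalRing.ResidueField R

include hmod in
theorem isScalarTower_of_hmod' : IsScalarTower R E A := by
  constructor
  intro c z y
  rw [hmod, hmod, map_smul, mul_smul_comm]

include hmod in
/-- `A` is free of rank `r` over a maximal étale subalgebra `E` -/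
theorem nonempty_basis (r : ℕ) (hA : Module.finrank R A = r ^ 2) (hE : Module.finrank R E = r)
    (hu : Function.Injective (u.toLinearMap.lTensor κ)) :
    Nonempty (Module.Basis (Fin r) E A) := by
  classical
  have htower := isScalarTower_of_hmod' R A E u hmod
  have hfree := AzRegular.free_of_isAzumaya R A
  obtain ⟨hc, hs, -⟩ := AzRegular.exists_fibre_splitting R A r hA
  -- the fibre
  let ū : κ ⊗[R] E →ₐ[κ] κ ⊗[R] A := Algebra.TensorProduct.map (AlgHom.id κ κ) u
  have hū_eq : ∀ z, ū z = u.toLinearMap.lTensor κ z := by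
    intro z
    induction z using TensorProduct.induction_on with
    | zero => simp
    | add a b ha hb => rw [map_add, map_add, ha, hb]
    | tmul c e => simp [ū]
  have hūinj : Function.Injective ū := by
    intro a b hab
    rw [hū_eq, hū_eq] at hab
    exact hu hab
  let ρ : κ ⊗[R] E →+* (κ ⊗[R] A)ᵐᵒᵖ := ū.toRingHom.toOpposite (fun x y => by
    show ū x * ū y = ū y * ū x
    rw [← map_mul, ← map_mul, mul_comm])
  letI : Module (κ ⊗[R] E) (κ ⊗[R] A) := Module.compHom (κ ⊗[R] A) ρ
  have hmodbar : ∀ (z : κ ⊗[R] E) (y : κ ⊗[R] A), z • y = y * ū z := fun z y => rfl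
  have hfinE : Module.finrank κ (κ ⊗[R] E) = r := by rw [Module.finrank_baseChange, hE]
  have hfinA : Module.finrank κ (κ ⊗[R] A) = r ^ 2 := by rw [Module.finrank_baseChange, hA]
  obtain ⟨bb⟩ := nonempty_basis_of_etale κ (κ ⊗[R] E) (κ ⊗[R] A) ū hmodbar r hfinE hfinA hūinj
  -- lift the basis
  have hsurj := TensorProduct.mk_surjective R A κ Ideal.Quotient.mk_surjective
  choose b hb using fun i => hsurj (bb i)
  let T : (Fin r → E) →ₗ[E] A := Fintype.linearCombination E b
  -- surjectivity by Nakayama
  have hTsurj : Function.Surjective T := by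
    have hN : LinearMap.range (T.restrictScalars R) = ⊤ := by
      rw [← IsLocalRing.map_tensorProduct_mk_eq_top, eq_top_iff]
      intro y _
      have hy := bb.sum_repr y
      have hsurjE := TensorProduct.mk_surjective R E κ Ideal.Quotient.mk_surjective
      choose c hcc using fun i => hsurjE (bb.repr y i)
      refine ⟨T c, ⟨c, rfl⟩, ?_⟩
      rw [← hy]
      show (1 : κ) ⊗ₜ[R] (Fintype.linearCombination E b c) = _
      rw [Fintype.linearCombination_apply, TensorProduct.tmul_sum]
      refine Finset.sum_congr rfl fun i _ => ?_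
      rw [hmodbar, ← hb i, ← hcc i, hmod]
      simp [ū]
    intro a
    have : a ∈ LinearMap.range (T.restrictScalars R) := by rw [hN]; trivial
    obtain ⟨c, hc⟩ := this
    exact ⟨c, hc⟩
  -- injectivity by rank
  have hrank : Module.finrank R (Fin r → E) = Module.finrank R A := by
    rw [Module.finrank_pi_fintype, hA]
    simp [hE, sq]
  let e : A ≃ₗ[R] (Fin r → E) := (LinearEquiv.ofFinrankEq _ _ hrank).symm
  have hcomp : Function.Surjective ((T.restrictScalars R) ∘ₗ e.toLinearMap) := by
    intro a
    obtain ⟨c, hc⟩ := hTsurj a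
    exact ⟨e.symm c, by simp [hc]⟩
  have hinj := OrzechProperty.injective_of_surjective_endomorphism _ hcomp
  have hTinj : Function.Injective T := by
    intro c c' hcc'
    have := hinj (a₁ := e.symm c) (a₂ := e.symm c') (by simpa using hcc')
    exact e.symm.injective this
  exact ⟨Module.Basis.ofEquivFun (LinearEquiv.ofBijective T ⟨hTinj, hTsurj⟩).symm⟩

end Local

section EndIso
variable (R : Type u) [CommRing R] (A : Type u) [Ring A] [Algebra R A] [IsAzumaya R A]
  (E : Type u) [CommRing E] [Algebra R E] (u : E →ₐ[R] A) [Module E A]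
  (hmod : ∀ (e : E) (a : A), e • a = a * u e)

/-- the canonical map `E ⊗ A → End_E(A)`, `e ⊗ a ↦ (y ↦ a y u(e))` -/
noncomputable def toEnd :
    haveI := isScalarTower_of_hmod R E A u hmod
    E ⊗[R] A →ₐ[E] Module.End E A :=
  haveI := isScalarTower_of_hmod R E A u hmod
  Algebra.TensorProduct.lift (Algebra.ofId E (Module.End E A)) (leftMulHom R E A u hmod)
    (fun x _ => Algebra.commute_algebraMap_left x _)

include hmod in
theorem toEnd_bijective [Nontrivial R] [Nontrivial E] [Module.Free R A] [Module.Free E A] [Module.Finite E A]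
    (r : ℕ) (hr : 0 < r)
    (hA : Module.finrank R A = r ^ 2) (hEA : Module.finrank E A = r) :
    Function.Bijective (toEnd R A E u hmod) := by
  haveI := isScalarTower_of_hmod R E A u hmod
  haveI hAz : IsAzumaya E (E ⊗[R] A) := Groth.Agent.Lib.Helper85.isAzumaya_baseChange R E A
  apply Groth.Agent.Lib.Helper85.algHom_bijective_of_fibres E
  intro p
  have hAz2 : IsAzumaya p.asIdeal.ResidueField (p.asIdeal.ResidueField ⊗[E] (E ⊗[R] A)) :=
    Groth.Agent.Lib.Helper85.isAzumaya_baseChange E p.asIdeal.ResidueField (E ⊗[R] A)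
  refine ⟨Groth.Agent.Lib.Helper85.isSimpleRing_of_isAzumaya p.asIdeal.ResidueField _, ?_, ?_⟩
  · apply Module.nontrivial_of_finrank_pos (R := p.asIdeal.ResidueField)
    rw [Module.finrank_baseChange, Module.finrank_linearMap, hEA]
    positivity
  · rw [Module.finrank_baseChange, Module.finrank_baseChange, Module.finrank_baseChange,
      Module.finrank_linearMap, hEA, hA, sq]

end EndIso

end Groth.Agent.Lib.Helper1.AzFree
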