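import Mathlib
import Groth.Agent.Lib.Helper1.CSA.AzEtale
import Groth.Agent.Lib.Helper1.CSA.AzFreeLocal
import Groth.Agent.Lib.Helper1.CSA.FinrankSquare
import Groth.Agent.S17979

/-!
# Spreading out the étale splitting of an Azumaya algebra from `R_p` to `R_f` (helper1)

* `exists_local_data`: over `R_p`, global elements `a, bᵢ ∈ A` and coefficients `c` such that
  `P_c(a) = 0`, `disc P_c` is a unit and `(bᵢ aʲ)` is a basis of `A_p`
* `exists_bijective_TS`, `exists_global_rel`, `exists_disc_unit`: spreading out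
* `split_of_data`: the splitting `E ⊗ A ≃ M_r(E)` for `E = S[X]/(P_c)` from such data over `S`
* `exists_split_away`: the conclusion over some `R_f`, `f ∉ p`
-/

set_option autoImplicit false
universe u v w
open Polynomial
open scoped TensorProduct

namespace Groth.Agent.Lib.Helper1.AzSpread

open AzRegular

section Data
variable (R : Type u) [CommRing R] (A : Type u) [Ring A] [Algebra R A] {r : ℕ}
  (a : A) (b : Fin r → A)

/-- the family `bᵢ aʲ` -/
def wfam (ij : Fin r × Fin r) : A := b ij.1 * a ^ (ij.2 : ℕ)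

/-- the global map `λ ↦ ∑ λᵢⱼ bᵢ aʲ` -/
noncomputable def Tglob : ((Fin r × Fin r) →₀ R) →ₗ[R] A :=
  Finsupp.linearCombination R (wfam A a b)

variable (S : Type v) [CommRing S] [Algebra R S]

/-- its base change to `S` -/
noncomputable def TS : ((Fin r × Fin r) →₀ S) →ₗ[S] S ⊗[R] A :=
  Finsupp.linearCombination S (fun ij => (1 : S) ⊗ₜ[R] wfam A a b ij)

theorem TS_mapRange (v : (Fin r × Fin r) →₀ R) :
    TS R A a b S (Finsupp.mapRange.linearMap (Algebra.linearMap R S) v) =
      (1 : S) ⊗ₜ[R] Tglob R A a b v := by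
  induction v using Finsupp.induction_linear with
  | zero => simp
  | add x y hx hy => rw [map_add, map_add, map_add, hx, hy, TensorProduct.tmul_add]
  | single i c =>
    simp only [TS, Tglob, Finsupp.mapRange.linearMap_apply, Finsupp.mapRange_single,
      Algebra.linearMap_apply, Finsupp.linearCombination_single]
    rw [TensorProduct.tmul_smul, Algebra.algebraMap_eq_smul_one, smul_assoc, one_smul]

/-- `TS` for a localization is the localized map -/
theorem map_eq_TS (W : Submonoid R) [IsLocalization W S] :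
    IsLocalizedModule.map W (Finsupp.mapRange.linearMap (α := Fin r × Fin r)
      (Algebra.linearMap R S)) (TensorProduct.mk R S A 1) (Tglob R A a b) =
      (TS R A a b S).restrictScalars R := by
  apply IsLocalizedModule.linearMap_ext W (Finsupp.mapRange.linearMap (α := Fin r × Fin r)
      (Algebra.linearMap R S)) (TensorProduct.mk R S A 1)
  rw [IsLocalizedModule.map_comp]
  ext v
  simp only [LinearMap.coe_comp, Function.comp_apply, LinearMap.coe_restrictScalars,
    TensorProduct.mk_apply]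
  rw [← TS_mapRange]

/-- spreading out bijectivity of `TS` -/
theorem exists_bijective_TS (p : Ideal R) [p.IsPrime] [Module.Finite R A] [Module.Projective R A]
    (hp : Function.Bijective (TS R A a b (Localization.AtPrime p))) :
    ∃ r₀ ∈ p.primeCompl, ∀ t : R, r₀ ∣ t →
      Function.Bijective (TS R A a b (Localization.Away t)) := by
  have hfp : Module.FinitePresentation R A := Module.finitePresentation_of_projective R A
  have hf : Function.Bijective (IsLocalizedModule.map p.primeCompl
      (Finsupp.mapRange.linearMap (α := Fin r × Fin r)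
        (Algebra.linearMap R (Localization.AtPrime p)))
      (TensorProduct.mk R (Localization.AtPrime p) A 1) (Tglob R A a b)) := by
    rw [map_eq_TS]; exact hp
  obtain ⟨r₀, hr₀, h⟩ := exists_bijective_map_powers p.primeCompl _ _ (Tglob R A a b) hf
  refine ⟨r₀, hr₀, fun t ht => ?_⟩
  have h1 := h t ht
  have h2 := (IsLocalizedModule.map_bijective_iff_localizedModuleMap_bijective
    (S := Submonoid.powers t)
    (Finsupp.mapRange.linearMap (α := Fin r × Fin r)
        (Algebra.linearMap R (Localization.Away t)))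
    (TensorProduct.mk R (Localization.Away t) A 1) (l := Tglob R A a b)).mpr h1
  rw [map_eq_TS] at h2
  exact h2

end Data

section Coeff
variable {R : Type u} [CommRing R] {A : Type u} [Ring A] [Algebra R A] {r : ℕ}

/-- the discriminant-like resultant of `X^r - ∑ cⱼ Xʲ` with fixed sizes -/
noncomputable def disc {S : Type v} [CommRing S] (c : Fin r → S) : S :=
  resultant (relPoly c) (derivative (relPoly c)) r r

theorem relPoly_map {S : Type v} [CommRing S] {S' : Type w} [CommRing S'] (φ : S →+* S')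
    (c : Fin r → S) : relPoly (φ ∘ c) = (relPoly c).map φ := by
  simp [relPoly, Polynomial.map_sub, Polynomial.map_pow, Polynomial.map_sum, Polynomial.map_mul]

theorem disc_map {S : Type v} [CommRing S] {S' : Type w} [CommRing S'] (φ : S →+* S')
    (c : Fin r → S) : disc (φ ∘ c) = φ (disc c) := by
  rw [disc, disc, relPoly_map, derivative_map, resultant_map_map]

/-- coefficients `s⁻¹ c'` over an `R`-algebra in which `s` is invertible -/
noncomputable def cS (S : Type v) [CommRing S] [Algebra R S] (s : R) (c' : Fin r → R)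
    (hs : IsUnit (algebraMap R S s)) : Fin r → S :=
  fun j => ↑(hs.unit⁻¹) * algebraMap R S (c' j)

theorem cS_map {S : Type v} [CommRing S] [Algebra R S] {S' : Type w} [CommRing S'] [Algebra R S']
    (φ : S →+* S') (hφ : ∀ x, φ (algebraMap R S x) = algebraMap R S' x) (s : R) (c' : Fin r → R)
    (hs : IsUnit (algebraMap R S s)) (hs' : IsUnit (algebraMap R S' s)) :
    φ ∘ cS S s c' hs = cS S' s c' hs' := by
  funext j
  simp only [Function.comp_apply, cS, map_mul, hφ]
  congr 1
  have h1 : φ ↑(hs.unit⁻¹) * algebraMap R S' s = 1 := by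
    rw [← hφ, ← map_mul]
    have : (↑(hs.unit⁻¹) : S) * algebraMap R S s = 1 := by
      have := hs.unit.inv_mul
      rwa [IsUnit.unit_spec] at this
    rw [this, map_one]
  have h2 : (↑(hs'.unit⁻¹) : S') * algebraMap R S' s = 1 := by
    have := hs'.unit.inv_mul
    rwa [IsUnit.unit_spec] at this
  calc φ ↑(hs.unit⁻¹) = φ ↑(hs.unit⁻¹) * (algebraMap R S' s * ↑(hs'.unit⁻¹)) := by
        rw [mul_comm (algebraMap R S' s), h2, mul_one]
    _ = ↑(hs'.unit⁻¹) := by rw [← mul_assoc, h1, one_mul]

/-- the relation `P(a) = 0` holds over any `S` in which `s` is invertible -/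
theorem aeval_cS (S : Type v) [CommRing S] [Algebra R S] (a : A) (s : R) (c' : Fin r → R)
    (hrel : s • a ^ r = Fintype.linearCombination R (fun j : Fin r => a ^ (j : ℕ)) c')
    (hs : IsUnit (algebraMap R S s)) :
    aeval ((1 : S) ⊗ₜ[R] a) (relPoly (cS S s c' hs)) = 0 := by
  rw [aeval_relPoly, Fintype.linearCombination_apply]
  have hpow : ∀ k : ℕ, ((1 : S) ⊗ₜ[R] a) ^ k = (1 : S) ⊗ₜ[R] (a ^ k) := fun k => by
    rw [Algebra.TensorProduct.tmul_pow, one_pow]
  have h1 : ∑ j : Fin r, cS S s c' hs j • ((1 : S) ⊗ₜ[R] a) ^ (j : ℕ) =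
      (↑(hs.unit⁻¹) : S) • ((1 : S) ⊗ₜ[R] (s • a ^ r)) := by
    rw [hrel, Fintype.linearCombination_apply, TensorProduct.tmul_sum, Finset.smul_sum]
    refine Finset.sum_congr rfl fun j _ => ?_
    rw [hpow, cS, mul_smul, TensorProduct.tmul_smul, algebraMap_smul]
  rw [h1, hpow, TensorProduct.tmul_smul, ← algebraMap_smul S s, smul_smul]
  have : (↑(hs.unit⁻¹) : S) * algebraMap R S s = 1 := by
    have := hs.unit.inv_mul
    rwa [IsUnit.unit_spec] at this
  rw [this, one_smul, sub_self]

/-- extraction of a global relation from a relation over the localization at `p` -/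
theorem exists_global_rel (p : Ideal R) [p.IsPrime] (a : A) (c : Fin r → Localization.AtPrime p)
    (h : aeval ((1 : Localization.AtPrime p) ⊗ₜ[R] a) (relPoly c) = 0) :
    ∃ (s : R) (_ : s ∈ p.primeCompl) (c' : Fin r → R),
      s • a ^ r = Fintype.linearCombination R (fun j : Fin r => a ^ (j : ℕ)) c' ∧
      ∀ hs' : IsUnit (algebraMap R (Localization.AtPrime p) s),
        cS (Localization.AtPrime p) s c' hs' = c := by
  classical
  obtain ⟨s₀, hs₀⟩ := IsLocalization.exist_integer_multiples p.primeCompl Finset.univ c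
  choose n hn using fun j => hs₀ j (Finset.mem_univ j)
  rw [aeval_relPoly, Fintype.linearCombination_apply] at h
  have hpow : ∀ k : ℕ, ((1 : Localization.AtPrime p) ⊗ₜ[R] a) ^ k =
      (1 : Localization.AtPrime p) ⊗ₜ[R] (a ^ k) := fun k => by
    rw [Algebra.TensorProduct.tmul_pow, one_pow]
  set z : A := (s₀ : R) • a ^ r - ∑ j : Fin r, n j • a ^ (j : ℕ) with hz
  have hz0 : TensorProduct.mk R (Localization.AtPrime p) A 1 z =
      TensorProduct.mk R (Localization.AtPrime p) A 1 0 := by
    rw [map_zero, hz, map_sub, map_smul, map_sum]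
    simp only [TensorProduct.mk_apply, map_smul]
    have h2 : ∀ j : Fin r, n j • ((1 : Localization.AtPrime p) ⊗ₜ[R] (a ^ (j : ℕ))) =
        (s₀ : R) • (c j • ((1 : Localization.AtPrime p) ⊗ₜ[R] a) ^ (j : ℕ)) := by
      intro j
      rw [← algebraMap_smul (Localization.AtPrime p) (n j), hn j, hpow, smul_assoc]
    have h3 : (s₀ : R) • (((1 : Localization.AtPrime p) ⊗ₜ[R] a) ^ r -
        ∑ j : Fin r, c j • ((1 : Localization.AtPrime p) ⊗ₜ[R] a) ^ (j : ℕ)) = 0 := by
      rw [h, smul_zero]
    rw [smul_sub, Finset.smul_sum, hpow] at h3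
    rw [← h3]
    congr 1
    exact Finset.sum_congr rfl fun j _ => h2 j
  obtain ⟨t₀, ht₀⟩ := IsLocalizedModule.exists_of_eq (S := p.primeCompl) hz0
  rw [smul_zero] at ht₀
  refine ⟨(t₀ : R) * (s₀ : R), (t₀ * s₀).2, fun j => (t₀ : R) * n j, ?_, ?_⟩
  · rw [Fintype.linearCombination_apply]
    have : (t₀ : R) • z = 0 := ht₀
    rw [hz, smul_sub, sub_eq_zero, smul_smul, Finset.smul_sum] at this
    rw [this]
    exact Finset.sum_congr rfl fun j _ => by rw [smul_smul]
  · intro hs'
    funext j
    have hu : (↑(hs'.unit⁻¹) : Localization.AtPrime p) *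
        algebraMap R (Localization.AtPrime p) ((t₀ : R) * (s₀ : R)) = 1 := by
      have := hs'.unit.inv_mul
      rwa [IsUnit.unit_spec] at this
    rw [cS]
    generalize (↑(hs'.unit⁻¹) : Localization.AtPrime p) = u at hu ⊢
    rw [map_mul, hn j, Algebra.smul_def, ← mul_assoc, ← mul_assoc, mul_assoc u, ← map_mul, hu,
      one_mul]

/-- spreading out the unit discriminant -/
theorem exists_disc_unit (p : Ideal R) [p.IsPrime] (s : R) (c' : Fin r → R)
    (hsp : IsUnit (algebraMap R (Localization.AtPrime p) s))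
    (hD : IsUnit (disc (cS (Localization.AtPrime p) s c' hsp))) :
    ∃ y ∈ p.primeCompl, ∀ (S : Type u) [CommRing S] [Algebra R S]
      (hs : IsUnit (algebraMap R S s)), IsUnit (algebraMap R S y) →
        IsUnit (disc (cS S s c' hs)) := by
  set S₀ := Localization.Away s with hS₀
  have hs₀ : IsUnit (algebraMap R S₀ s) := IsLocalization.Away.algebraMap_isUnit s
  obtain ⟨k, y, hy⟩ := IsLocalization.Away.surj s (disc (cS S₀ s c' hs₀))
  have key : ∀ (S : Type u) [CommRing S] [Algebra R S] (hs : IsUnit (algebraMap R S s)),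
      disc (cS S s c' hs) * algebraMap R S s ^ k = algebraMap R S y := by
    intro S _ _ hs
    have hφ : ∀ x, IsLocalization.Away.lift (S := S₀) s hs (algebraMap R S₀ x) = algebraMap R S x :=
      fun x => IsLocalization.Away.lift_eq s hs x
    rw [← cS_map (IsLocalization.Away.lift (S := S₀) s hs) hφ s c' hs₀ hs, disc_map, ← hφ s,
      ← map_pow, ← map_mul, hy, hφ]
  refine ⟨y, ?_, ?_⟩
  · rw [← IsLocalization.AtPrime.isUnit_to_map_iff (Localization.AtPrime p) p, ← key _ hsp]
    exact hD.mul (hsp.pow k)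
  · intro S _ _ hs hyS
    rw [← key S hs] at hyS
    exact isUnit_of_mul_isUnit_left hyS

end Coeff

section Use
variable (R : Type u) [CommRing R] (A : Type u) [Ring A] [Algebra R A] [IsAzumaya R A] {r : ℕ}
  (a : A) (b : Fin r → A) (S : Type u) [CommRing S] [Algebra R S] [Nontrivial S]

theorem isCoprime_of_disc {c : Fin r → S} (hr : 0 < r) (h2 : IsUnit (disc c)) :
    IsCoprime (relPoly c) (derivative (relPoly c)) := by
  have hd1 : (relPoly c).natDegree ≤ r := (relPoly_natDegree c).le
  have hd2 : (derivative (relPoly c)).natDegree ≤ r :=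
    (natDegree_derivative_le _).trans ((Nat.sub_le _ _).trans hd1)
  obtain ⟨p, q, -, -, e⟩ := exists_mul_add_mul_eq_C_resultant (relPoly c)
    (derivative (relPoly c)) hd1 hd2 (Or.inl hr.ne')
  refine ⟨C (↑(h2.unit⁻¹) : S) * p, C (↑(h2.unit⁻¹) : S) * q, ?_⟩
  have h3 : (↑(h2.unit⁻¹) : S) * disc c = 1 := by
    have := h2.unit.inv_mul
    rwa [IsUnit.unit_spec] at this
  calc C (↑(h2.unit⁻¹) : S) * p * relPoly c + C (↑(h2.unit⁻¹) : S) * q * derivative (relPoly c)
      = C (↑(h2.unit⁻¹) : S) * (relPoly c * p + derivative (relPoly c) * q) := by ring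
    _ = 1 := by rw [e]; rw [← disc, ← C_mul, h3, C_1]

theorem split_of_data (hr : 0 < r) (c : Fin r → S)
    (h1 : aeval ((1 : S) ⊗ₜ[R] a) (relPoly c) = 0)
    (h2 : IsUnit (disc c))
    (h3 : Function.Bijective (TS R A a b S)) :
    Algebra.Etale S (AdjoinRoot (relPoly c)) ∧ Module.Finite S (AdjoinRoot (relPoly c)) ∧
    Module.FaithfullyFlat S (AdjoinRoot (relPoly c)) ∧
    Nonempty (AdjoinRoot (relPoly c) ⊗[S] (S ⊗[R] A) ≃ₐ[AdjoinRoot (relPoly c)]
      Matrix (Fin r) (Fin r) (AdjoinRoot (relPoly c))) := by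
  classical
  set P := relPoly c with hP
  have hm : P.Monic := relPoly_monic c
  have hAz : IsAzumaya S (S ⊗[R] A) := Groth.Agent.Lib.Helper85.isAzumaya_baseChange R S A
  -- étale
  have hunit : IsUnit (AdjoinRoot.mk P (derivative P)) := by
    obtain ⟨x, y, hxy⟩ := isCoprime_of_disc S hr h2
    have := congrArg (AdjoinRoot.mk P) hxy
    rw [map_add, map_mul, map_mul, AdjoinRoot.mk_self, mul_zero, zero_add, map_one] at this
    exact IsUnit.of_mul_eq_one_right _ this
  have het : Algebra.Etale S (AdjoinRoot P) :=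
    Groth.Agent.Lib.Helper3.etale_adjoinRoot_of_isUnit P hm hunit
  have hfinE : Module.Finite S (AdjoinRoot P) := hm.finite_adjoinRoot
  have hfreeE : Module.Free S (AdjoinRoot P) := hm.free_adjoinRoot
  have hrkE : Module.finrank S (AdjoinRoot P) = r := by
    rw [(AdjoinRoot.powerBasis' hm).finrank, AdjoinRoot.powerBasis'_dim, hP, relPoly_natDegree]
  have hntE : Nontrivial (AdjoinRoot P) :=
    Module.nontrivial_of_finrank_pos (R := S) (by rw [hrkE]; exact hr)
  refine ⟨het, hfinE, inferInstance, ?_⟩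
  -- the map u and the module structure
  set ξ : S ⊗[R] A := (1 : S) ⊗ₜ[R] a with hξ
  set u : AdjoinRoot P →ₐ[S] S ⊗[R] A := evalHom P ξ h1 with hu
  let ρ : AdjoinRoot P →+* (S ⊗[R] A)ᵐᵒᵖ := u.toRingHom.toOpposite (fun x y => by
    show u x * u y = u y * u x
    rw [← map_mul, ← map_mul, mul_comm])
  letI : Module (AdjoinRoot P) (S ⊗[R] A) := Module.compHom (S ⊗[R] A) ρ
  have hmod : ∀ (e : AdjoinRoot P) (y : S ⊗[R] A), e • y = y * u e := fun e y => rfl
  have htower := AzFree.isScalarTower_of_hmod S (AdjoinRoot P) (S ⊗[R] A) u hmod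
  -- A_S is free of rank r²
  let basS : Module.Basis (Fin r × Fin r) S (S ⊗[R] A) :=
    Module.Basis.ofRepr (LinearEquiv.ofBijective (TS R A a b S) h3).symm
  have hfreeA : Module.Free S (S ⊗[R] A) := .of_basis basS
  have hA : Module.finrank S (S ⊗[R] A) = r ^ 2 := by
    rw [Module.finrank_eq_card_basis basS]; simp [sq]
  -- the E-linear map
  let T : (Fin r → AdjoinRoot P) →ₗ[AdjoinRoot P] S ⊗[R] A :=
    Fintype.linearCombination (AdjoinRoot P) (fun i => (1 : S) ⊗ₜ[R] b i)
  have hTsurj : Function.Surjective T := by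
    intro y
    obtain ⟨v, rfl⟩ := h3.2 y
    refine ⟨fun i => AdjoinRoot.mk P (∑ j : Fin r, C (v (i, j)) * X ^ (j : ℕ)), ?_⟩
    show Fintype.linearCombination (AdjoinRoot P) (fun i => (1 : S) ⊗ₜ[R] b i) _ = _
    rw [Fintype.linearCombination_apply, TS, Finsupp.linearCombination_apply,
      Finsupp.sum_fintype _ _ (fun i => by rw [zero_smul]), Fintype.sum_prod_type]
    refine Finset.sum_congr rfl fun i _ => ?_
    rw [hmod, hu, evalHom_mk, map_sum, Finset.mul_sum]
    refine Finset.sum_congr rfl fun j _ => ?_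
    rw [map_mul, aeval_C, map_pow, aeval_X, hξ, Algebra.TensorProduct.tmul_pow, one_pow,
      ← Algebra.smul_def, mul_smul_comm, Algebra.TensorProduct.tmul_mul_tmul, one_mul, wfam]
  have hrank : Module.finrank S (Fin r → AdjoinRoot P) = Module.finrank S (S ⊗[R] A) := by
    rw [Module.finrank_pi_fintype, hA]
    simp [hrkE, sq]
  let e : (S ⊗[R] A) ≃ₗ[S] (Fin r → AdjoinRoot P) := (LinearEquiv.ofFinrankEq _ _ hrank).symm
  have hcomp : Function.Surjective ((T.restrictScalars S) ∘ₗ e.toLinearMap) := by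
    intro y
    obtain ⟨v, hv⟩ := hTsurj y
    exact ⟨e.symm v, by simp [hv]⟩
  have hinj := OrzechProperty.injective_of_surjective_endomorphism _ hcomp
  have hTinj : Function.Injective T := by
    intro v v' hvv'
    have := hinj (a₁ := e.symm v) (a₂ := e.symm v') (by simpa using hvv')
    exact e.symm.injective this
  let bas : Module.Basis (Fin r) (AdjoinRoot P) (S ⊗[R] A) :=
    Module.Basis.ofEquivFun (LinearEquiv.ofBijective T ⟨hTinj, hTsurj⟩).symm
  have hfreeEA : Module.Free (AdjoinRoot P) (S ⊗[R] A) := .of_basis bas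
  have hfinEA : Module.Finite (AdjoinRoot P) (S ⊗[R] A) := .of_basis bas
  have hEA : Module.finrank (AdjoinRoot P) (S ⊗[R] A) = r := by
    rw [Module.finrank_eq_card_basis bas, Fintype.card_fin]
  have hbij := AzFree.toEnd_bijective S (S ⊗[R] A) (AdjoinRoot P) u hmod r hr hA hEA
  exact ⟨(AlgEquiv.ofBijective (AzFree.toEnd S (S ⊗[R] A) (AdjoinRoot P) u hmod) hbij).trans
    (algEquivMatrix bas)⟩

end Use

section Adjoin

theorem adjoin_smul_eq {κ : Type u} [Field κ] {B : Type v} [Ring B] [Algebra κ B] (σ : κ)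
    (hσ : σ ≠ 0) (x : B) :
    Algebra.adjoin κ ({σ • x} : Set B) = Algebra.adjoin κ ({x} : Set B) := by
  apply le_antisymm
  · apply Algebra.adjoin_le
    intro y hy
    rw [Set.mem_singleton_iff.mp hy]
    exact Subalgebra.smul_mem _ (Algebra.subset_adjoin (Set.mem_singleton x)) σ
  · apply Algebra.adjoin_le
    intro y hy
    rw [Set.mem_singleton_iff.mp hy]
    have h := Subalgebra.smul_mem _
      (Algebra.subset_adjoin (R := κ) (Set.mem_singleton (σ • x))) σ⁻¹
    rwa [smul_smul, inv_mul_cancel₀ hσ, one_smul] at h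

/-- unit discriminant over a local ring from separability of the reduction -/
theorem isUnit_disc_of_separable {R : Type u} [CommRing R] [IsLocalRing R] {r : ℕ}
    (c : Fin r → R) (hs : ((relPoly c).map (IsLocalRing.residue R)).Separable) :
    IsUnit (disc c) := by
  have hm := relPoly_monic c
  have hcop : IsCoprime (relPoly c) (derivative (relPoly c)) := by
    apply Groth.Agent.S17979.Aux.foo R _ _ hm
    rw [← derivative_map]
    exact hs
  have h := (isUnit_resultant_iff_isCoprime hm).mpr hcop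
  have hdeg : (relPoly c).natDegree = r := relPoly_natDegree c
  have hle : (derivative (relPoly c)).natDegree ≤ r :=
    (natDegree_derivative_le _).trans ((Nat.sub_le _ _).trans hdeg.le)
  obtain ⟨k, hk⟩ := Nat.exists_eq_add_of_le hle
  rw [disc]
  have h2 := resultant_add_right_deg (relPoly c) (derivative (relPoly c)) r
    (derivative (relPoly c)).natDegree k le_rfl
  rw [← hk] at h2
  rw [h2]
  have hcoeff : (relPoly c).coeff r = 1 := by
    have := hm.coeff_natDegree
    rwa [hdeg] at this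
  rw [hcoeff, one_pow, one_mul]
  rw [hdeg] at h
  exact h

end Adjoin

section LocalData
variable (R : Type u) [CommRing R] (A : Type u) [Ring A] [Algebra R A] [IsAzumaya R A]
  (p : Ideal R) [p.IsPrime]

theorem exists_local_data :
    ∃ (r : ℕ) (_ : 0 < r) (a : A) (b : Fin r → A) (c : Fin r → Localization.AtPrime p),
      aeval ((1 : Localization.AtPrime p) ⊗ₜ[R] a) (relPoly c) = 0 ∧ IsUnit (disc c) ∧
      Function.Bijective (TS R A a b (Localization.AtPrime p)) := by
  classical
  set Rp := Localization.AtPrime p with hRp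
  have hAz : IsAzumaya Rp (Rp ⊗[R] A) := Groth.Agent.Lib.Helper85.isAzumaya_baseChange R Rp A
  have hfree := free_of_isAzumaya Rp (Rp ⊗[R] A)
  have hnt : Nontrivial (Rp ⊗[R] A) := Groth.Agent.Lib.Helper85.nontrivial_of_isAzumaya_local Rp _
  obtain ⟨hc, hs⟩ := (Groth.Agent.S3245.result Rp (Rp ⊗[R] A)).mp inferInstance
  obtain ⟨r, hr2⟩ := Groth.Agent.Lib.Helper1.isSquare_finrank_of_isCentral_of_isSimpleRing
    (IsLocalRing.ResidueField Rp) (IsLocalRing.ResidueField Rp ⊗[Rp] (Rp ⊗[R] A))
  have hA : Module.finrank Rp (Rp ⊗[R] A) = r ^ 2 := by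
    rw [Module.finrank_baseChange] at hr2
    rw [hr2, sq]
  have hr := rank_pos Rp (Rp ⊗[R] A) r hA
  -- regular lift, made global
  obtain ⟨ξ₀, hsep₀, hrk₀⟩ := exists_regular_lift Rp (Rp ⊗[R] A) r hA
  obtain ⟨⟨a, s₁⟩, hs₁⟩ := IsLocalizedModule.surj p.primeCompl (TensorProduct.mk R Rp A 1) ξ₀
  simp only [TensorProduct.mk_apply] at hs₁
  set ξ : Rp ⊗[R] A := (1 : Rp) ⊗ₜ[R] a with hξ
  set σ : IsLocalRing.ResidueField Rp := IsLocalRing.residue Rp (algebraMap R Rp s₁) with hσ
  have hσ0 : σ ≠ 0 := by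
    rw [hσ, Ne, IsLocalRing.residue_eq_zero_iff]
    intro hmem
    exact (IsLocalRing.mem_maximalIdeal _).mp hmem (IsLocalization.map_units Rp s₁)
  have hx : (1 : IsLocalRing.ResidueField Rp) ⊗ₜ[Rp] ξ =
      σ • ((1 : IsLocalRing.ResidueField Rp) ⊗ₜ[Rp] ξ₀) := by
    rw [← hs₁, Submonoid.smul_def, ← algebraMap_smul Rp (s₁ : R) ξ₀, TensorProduct.tmul_smul,
      TensorProduct.smul_tmul', hσ, Algebra.smul_def, mul_one, TensorProduct.smul_tmul',
      smul_eq_mul, mul_one]
    rfl
  have hadj := adjoin_smul_eq σ hσ0 ((1 : IsLocalRing.ResidueField Rp) ⊗ₜ[Rp] ξ₀)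
  rw [← hx] at hadj
  -- the maximal étale subalgebra
  obtain ⟨c, h1, hPs, hinj⟩ := maximal_etale_of_regular Rp (Rp ⊗[R] A) r hA ξ
    (hadj.symm ▸ hsep₀) (hadj.symm ▸ hrk₀)
  refine ⟨r, hr, a, ?_⟩
  set P := relPoly c with hP
  have hm : P.Monic := relPoly_monic c
  have het : Algebra.Etale Rp (AdjoinRoot P) :=
    Groth.Agent.Lib.Helper3.etale_adjoinRoot_of_separable P hm hPs
  have hfinE : Module.Finite Rp (AdjoinRoot P) := hm.finite_adjoinRoot
  have hfreeE : Module.Free Rp (AdjoinRoot P) := hm.free_adjoinRoot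
  have hrkE : Module.finrank Rp (AdjoinRoot P) = r := by
    rw [(AdjoinRoot.powerBasis' hm).finrank, AdjoinRoot.powerBasis'_dim, hP, relPoly_natDegree]
  set u : AdjoinRoot P →ₐ[Rp] Rp ⊗[R] A := evalHom P ξ h1 with hu
  let ρ : AdjoinRoot P →+* (Rp ⊗[R] A)ᵐᵒᵖ := u.toRingHom.toOpposite (fun x y => by
    show u x * u y = u y * u x
    rw [← map_mul, ← map_mul, mul_comm])
  letI : Module (AdjoinRoot P) (Rp ⊗[R] A) := Module.compHom (Rp ⊗[R] A) ρ
  have hmod : ∀ (e : AdjoinRoot P) (y : Rp ⊗[R] A), e • y = y * u e := fun e y => rfl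
  obtain ⟨bas⟩ := AzFree.nonempty_basis Rp (Rp ⊗[R] A) (AdjoinRoot P) u hmod r hA hrkE hinj
  -- globalize the basis
  choose bt hbt using fun i =>
    IsLocalizedModule.surj p.primeCompl (TensorProduct.mk R Rp A 1) (bas i)
  simp only [TensorProduct.mk_apply] at hbt
  refine ⟨fun i => (bt i).1, c, h1, isUnit_disc_of_separable c hPs, ?_⟩
  -- bijectivity of TS over Rp
  have hkey : ∀ ij : Fin r × Fin r, (1 : Rp) ⊗ₜ[R] wfam A a (fun i => (bt i).1) ij =
      algebraMap R Rp ((bt ij.1).2 : R) • (bas ij.1 * ξ ^ (ij.2 : ℕ)) := by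
    intro ij
    rw [wfam, ← one_mul (1 : Rp), ← Algebra.TensorProduct.tmul_mul_tmul, ← hbt ij.1,
      ← one_pow (ij.2 : ℕ), ← Algebra.TensorProduct.tmul_pow, Submonoid.smul_def,
      ← algebraMap_smul Rp ((bt ij.1).2 : R), smul_mul_assoc]
  have hsurj : Function.Surjective (TS R A a (fun i => (bt i).1) Rp) := by
    intro y
    have hy := bas.sum_repr y
    choose d hd using fun i => exists_eq_linearCombination hr c (bas.repr y i)
    let v : (Fin r × Fin r) → Rp := fun ij =>
      d ij.1 ij.2 * ↑((IsLocalization.map_units Rp (bt ij.1).2).unit⁻¹)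
    refine ⟨Finsupp.equivFunOnFinite.symm v, ?_⟩
    rw [TS, Finsupp.linearCombination_apply,
      Finsupp.sum_fintype _ _ (fun i => by rw [zero_smul]), Fintype.sum_prod_type, ← hy]
    refine Finset.sum_congr rfl fun i _ => ?_
    rw [hmod, hd i, hu, evalHom_mk, map_sum, Finset.mul_sum]
    refine Finset.sum_congr rfl fun j _ => ?_
    rw [hkey (i, j), Finsupp.coe_equivFunOnFinite_symm, smul_smul, map_mul, aeval_C,
      map_pow, aeval_X, ← Algebra.smul_def, mul_smul_comm]
    congr 1
    show d i j * ↑((IsLocalization.map_units Rp (bt i).2).unit⁻¹) * algebraMap R Rp ((bt i).2 : R)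
      = d i j
    rw [mul_assoc]
    have : (↑((IsLocalization.map_units Rp (bt i).2).unit⁻¹) : Rp) *
        algebraMap R Rp ((bt i).2 : R) = 1 := by
      have := (IsLocalization.map_units Rp (bt i).2).unit.inv_mul
      rwa [IsUnit.unit_spec] at this
    rw [this, mul_one]
  have hrank : Module.finrank Rp ((Fin r × Fin r) →₀ Rp) = Module.finrank Rp (Rp ⊗[R] A) := by
    rw [hA]; simp [sq]
  let e : (Rp ⊗[R] A) ≃ₗ[Rp] ((Fin r × Fin r) →₀ Rp) := (LinearEquiv.ofFinrankEq _ _ hrank).symm
  have hcomp : Function.Surjective ((TS R A a (fun i => (bt i).1) Rp) ∘ₗ e.toLinearMap) := by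
    intro y
    obtain ⟨v, hv⟩ := hsurj y
    exact ⟨e.symm v, by simp [hv]⟩
  have hinj2 := OrzechProperty.injective_of_surjective_endomorphism _ hcomp
  refine ⟨?_, hsurj⟩
  intro v v' hvv'
  have := hinj2 (a₁ := e.symm v) (a₂ := e.symm v') (by simpa using hvv')
  exact e.symm.injective this

end LocalData

/-- `T ⊗[S] (S ⊗[R] A) ≃ₐ[T] T ⊗[R] A` for a possibly noncommutative `A` -/
noncomputable def cancelBaseChangeAlg (R : Type u) (S : Type v) (T : Type w) [CommRing R]
    [CommRing S] [Algebra R S] [CommRing T] [Algebra R T] [Algebra S T] [IsScalarTower R S T]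
    (A : Type*) [Ring A] [Algebra R A] :
    T ⊗[S] (S ⊗[R] A) ≃ₐ[T] T ⊗[R] A :=
  AlgEquiv.symm <| AlgEquiv.ofLinearEquiv
    (TensorProduct.AlgebraTensorModule.cancelBaseChange R S T T A).symm
    (by simp [Algebra.TensorProduct.one_def]) <|
      LinearMap.map_mul_of_map_mul_tmul (fun _ _ _ _ ↦ by simp)


section Final
variable (R : Type u) [CommRing R] (A : Type u) [Ring A] [Algebra R A] [IsAzumaya R A]
  (p : Ideal R) [p.IsPrime]

theorem exists_split_away :
    ∃ f : R, f ∉ p ∧ ∃ (r : ℕ) (_ : 0 < r) (c : Fin r → Localization.Away f),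
      Algebra.Etale (Localization.Away f) (AdjoinRoot (relPoly c)) ∧
      Module.Finite (Localization.Away f) (AdjoinRoot (relPoly c)) ∧
      Module.FaithfullyFlat (Localization.Away f) (AdjoinRoot (relPoly c)) ∧
      Nonempty (AdjoinRoot (relPoly c) ⊗[Localization.Away f] (Localization.Away f ⊗[R] A)
        ≃ₐ[AdjoinRoot (relPoly c)] Matrix (Fin r) (Fin r) (AdjoinRoot (relPoly c))) := by
  obtain ⟨r, hr, a, b, cp, h1, h2, h3⟩ := exists_local_data R A p
  obtain ⟨r₀, hr₀, hT⟩ := exists_bijective_TS R A a b p h3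
  obtain ⟨s, hs, c', hrel, hcS⟩ := exists_global_rel p a cp h1
  have hsp : IsUnit (algebraMap R (Localization.AtPrime p) s) :=
    IsLocalization.map_units (Localization.AtPrime p) (⟨s, hs⟩ : p.primeCompl)
  have hD : IsUnit (disc (cS (Localization.AtPrime p) s c' hsp)) := by rw [hcS hsp]; exact h2
  obtain ⟨y, hy, hdisc⟩ := exists_disc_unit p s c' hsp hD
  set f := r₀ * s * y with hf
  have hfp : f ∈ p.primeCompl := mul_mem (mul_mem hr₀ hs) hy
  refine ⟨f, hfp, r, hr, ?_⟩
  have hfu : IsUnit (algebraMap R (Localization.Away f) f) :=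
    IsLocalization.Away.algebraMap_isUnit f
  have hsS : IsUnit (algebraMap R (Localization.Away f) s) :=
    isUnit_of_dvd_unit (map_dvd _ ⟨r₀ * y, by rw [hf]; ring⟩) hfu
  have hyS : IsUnit (algebraMap R (Localization.Away f) y) :=
    isUnit_of_dvd_unit (map_dvd _ ⟨r₀ * s, by rw [hf]; ring⟩) hfu
  have hnt : Nontrivial (Localization.Away f) := by
    have hfu' : IsUnit (algebraMap R (Localization.AtPrime p) f) :=
      IsLocalization.map_units (Localization.AtPrime p) (⟨f, hfp⟩ : p.primeCompl)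
    exact (IsLocalization.Away.lift (S := Localization.Away f) f hfu').domain_nontrivial
  exact ⟨cS (Localization.Away f) s c' hsS,
    split_of_data R A a b (Localization.Away f) hr _ (aeval_cS _ a s c' hrel hsS)
      (hdisc _ hsS hyS) (hT f ⟨s * y, by rw [hf]; ring⟩)⟩

end Final

end Groth.Agent.Lib.Helper1.AzSpread
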