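import Mathlib

set_option autoImplicit false
universe u v w
open scoped TensorProduct
open MulOpposite

namespace Groth.Agent.Lib.Helper1.AzCorner

section Corner
variable {R : Type u} [CommRing R] {A : Type v} [Ring A] [Algebra R A] {e : A}
  (he : IsIdempotentElem e)

/-- the underlying element -/
def cval (x : he.Corner) : A := Subtype.val x

theorem cval_injective : Function.Injective (cval he) := Subtype.val_injective
theorem e_mul_cval (x : he.Corner) : e * cval he x = cval he x :=
  ((Subsemigroup.mem_corner_iff he).mp x.2).1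
theorem cval_mul_e (x : he.Corner) : cval he x * e = cval he x :=
  ((Subsemigroup.mem_corner_iff he).mp x.2).2
theorem cval_mul (x y : he.Corner) : cval he (x * y) = cval he x * cval he y := rfl
theorem cval_add (x y : he.Corner) : cval he (x + y) = cval he x + cval he y := rfl
theorem cval_zero : cval he (0 : he.Corner) = 0 := rfl
theorem cval_one : cval he (1 : he.Corner) = e := rfl
theorem cval_neg (x : he.Corner) : cval he (-x) = -cval he x := rfl
theorem cval_sub (x y : he.Corner) : cval he (x - y) = cval he x - cval he y := by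
  rw [sub_eq_add_neg, cval_add, cval_neg, sub_eq_add_neg]

/-- `a ↦ e a e` -/
def cmk (a : A) : he.Corner := ⟨e * a * e, a, rfl⟩

theorem cmk_val (a : A) : cval he (cmk he a) = e * a * e := rfl

theorem cmk_of_val (x : he.Corner) : cmk he (cval he x) = x :=
  cval_injective he (by rw [cmk_val, e_mul_cval, cval_mul_e])

include he in
theorem eee : e * e * e = e := by rw [he.eq, he.eq]

instance instAlgebraCorner : Algebra R he.Corner :=
  RingHom.toAlgebra'
    { toFun := fun r => cmk he (r • (1 : A))
      map_one' := cval_injective he (by rw [cmk_val, one_smul, mul_one, he.eq, cval_one])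
      map_mul' := fun r s => cval_injective he (by
        rw [cval_mul, cmk_val, cmk_val, cmk_val]
        simp only [mul_smul_comm, smul_mul_assoc, mul_one, he.eq, smul_smul, mul_comm r s])
      map_zero' := cval_injective he (by rw [cmk_val, zero_smul, mul_zero, zero_mul, cval_zero])
      map_add' := fun r s => cval_injective he (by
        rw [cval_add, cmk_val, cmk_val, cmk_val, add_smul, mul_add, add_mul]) }
    (fun r x => cval_injective he (by
      show e * (r • (1 : A)) * e * cval he x = cval he x * (e * (r • (1 : A)) * e)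
      simp only [mul_smul_comm, smul_mul_assoc, mul_one, he.eq, e_mul_cval, cval_mul_e]))

theorem algebraMap_val (r : R) : cval he (algebraMap R he.Corner r) = r • e := by
  show e * (r • (1 : A)) * e = r • e
  simp only [mul_smul_comm, smul_mul_assoc, mul_one, he.eq]

theorem cval_smul (r : R) (x : he.Corner) : cval he (r • x) = r • cval he x := by
  rw [Algebra.smul_def, cval_mul, algebraMap_val, smul_mul_assoc, e_mul_cval]

/-- the inclusion of the corner, as a linear map -/
def ι : he.Corner →ₗ[R] A where
  toFun x := cval he x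
  map_add' _ _ := rfl
  map_smul' r x := cval_smul he r x

/-- the retraction onto the corner, as a linear map -/
def ρ : A →ₗ[R] he.Corner where
  toFun a := cmk he a
  map_add' a b := cval_injective he (by
    rw [cval_add, cmk_val, cmk_val, cmk_val, mul_add, add_mul])
  map_smul' r a := cval_injective he (by
    rw [RingHom.id_apply, cval_smul, cmk_val, cmk_val, mul_smul_comm, smul_mul_assoc])

theorem ρ_ι (x : he.Corner) : ρ (R := R) he (ι (R := R) he x) = x := cmk_of_val he x

theorem ι_apply (x : he.Corner) : ι (R := R) he x = cval he x := rfl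
theorem cmk_of_val_ρ (x : he.Corner) : ρ (R := R) he (cval he x) = x := cmk_of_val he x
theorem ρ_apply (a : A) : cval he (ρ (R := R) he a) = e * a * e := rfl

end Corner

section Azumaya
variable {R : Type u} [CommRing R] {A : Type v} [Ring A] [Algebra R A] {e : A}
  (he : IsIdempotentElem e)

instance instFiniteCorner [Module.Finite R A] : Module.Finite R he.Corner :=
  Module.Finite.of_surjective (ρ (R := R) he) (fun x => ⟨ι (R := R) he x, ρ_ι he x⟩)

instance instProjectiveCorner [Module.Projective R A] : Module.Projective R he.Corner :=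
  Module.Projective.of_split (ι (R := R) he) (ρ (R := R) he) (LinearMap.ext (ρ_ι he))

/-- `ι` on opposites -/
def ιop : he.Cornerᵐᵒᵖ →ₗ[R] Aᵐᵒᵖ :=
  (opLinearEquiv R : A ≃ₗ[R] Aᵐᵒᵖ).toLinearMap ∘ₗ ι (R := R) he ∘ₗ
    (opLinearEquiv R : he.Corner ≃ₗ[R] he.Cornerᵐᵒᵖ).symm.toLinearMap

/-- `ρ` on opposites -/
def ρop : Aᵐᵒᵖ →ₗ[R] he.Cornerᵐᵒᵖ :=
  (opLinearEquiv R : he.Corner ≃ₗ[R] he.Cornerᵐᵒᵖ).toLinearMap ∘ₗ ρ (R := R) he ∘ₗ
    (opLinearEquiv R : A ≃ₗ[R] Aᵐᵒᵖ).symm.toLinearMap

theorem ιop_apply (x : he.Cornerᵐᵒᵖ) : ιop (R := R) he x = op (cval he (unop x)) := rfl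
theorem ρop_apply (a : Aᵐᵒᵖ) : ρop (R := R) he a = op (ρ (R := R) he (unop a)) := rfl

theorem ρop_ιop (x : he.Cornerᵐᵒᵖ) : ρop (R := R) he (ιop (R := R) he x) = x := by
  rw [ιop_apply, ρop_apply, unop_op]
  exact congrArg op (cmk_of_val he (unop x))

theorem mulLeftRight_map_ρ (t : A ⊗[R] Aᵐᵒᵖ) (x : he.Corner) :
    cval he (AlgHom.mulLeftRight R he.Corner
      (TensorProduct.map (ρ (R := R) he) (ρop (R := R) he) t) x) =
      e * (AlgHom.mulLeftRight R A t (cval he x)) * e := by
  induction t using TensorProduct.induction_on with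
  | zero => simp [cval_zero]
  | add t₁ t₂ h₁ h₂ =>
    rw [map_add, map_add, LinearMap.add_apply, cval_add, h₁, h₂, map_add, LinearMap.add_apply,
      mul_add, add_mul]
  | tmul a a' =>
    rw [TensorProduct.map_tmul, AlgHom.mulLeftRight_apply, AlgHom.mulLeftRight_apply, cval_mul,
      cval_mul, ρop_apply, unop_op, ρ_apply, ρ_apply]
    have h1 : e * cval he x = cval he x := e_mul_cval he x
    have h2 : cval he x * e = cval he x := cval_mul_e he x
    calc e * a * e * cval he x * (e * unop a' * e)
        = e * a * (e * cval he x) * e * (unop a' * e) := by simp only [mul_assoc]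
      _ = e * a * (cval he x * e) * (unop a' * e) := by rw [h1]; simp only [mul_assoc]
      _ = e * (a * cval he x * unop a') * e := by rw [h2]; simp only [mul_assoc]

theorem mulLeftRight_map_ι (s : he.Corner ⊗[R] he.Cornerᵐᵒᵖ) (a : A) :
    AlgHom.mulLeftRight R A (TensorProduct.map (ι (R := R) he) (ιop (R := R) he) s) a =
      cval he (AlgHom.mulLeftRight R he.Corner s (ρ (R := R) he a)) := by
  induction s using TensorProduct.induction_on with
  | zero => simp [cval_zero]
  | add t₁ t₂ h₁ h₂ =>
    rw [map_add, map_add, LinearMap.add_apply, h₁, h₂, map_add, LinearMap.add_apply, cval_add]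
  | tmul b b' =>
    rw [TensorProduct.map_tmul, AlgHom.mulLeftRight_apply, AlgHom.mulLeftRight_apply, cval_mul,
      cval_mul, ιop_apply, unop_op, ι_apply, ρ_apply]
    have h1 : cval he b * e = cval he b := cval_mul_e he b
    have h2 : e * cval he (unop b') = cval he (unop b') := e_mul_cval he (unop b')
    calc cval he b * a * cval he (unop b')
        = (cval he b * e) * a * (e * cval he (unop b')) := by rw [h1, h2]
      _ = cval he b * (e * a * e) * cval he (unop b') := by simp only [mul_assoc]

theorem isAzumaya_corner [IsAzumaya R A] [FaithfulSMul R he.Corner] : IsAzumaya R he.Corner := by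
  refine { bij := ⟨?_, ?_⟩ }
  · -- injective
    rw [injective_iff_map_eq_zero]
    intro s hs
    have h0 : AlgHom.mulLeftRight R A (TensorProduct.map (ι (R := R) he) (ιop (R := R) he) s) = 0 := by
      refine LinearMap.ext fun a => ?_
      rw [mulLeftRight_map_ι, hs, LinearMap.zero_apply, cval_zero, LinearMap.zero_apply]
    have h1 : TensorProduct.map (ι (R := R) he) (ιop (R := R) he) s = 0 :=
      (injective_iff_map_eq_zero _).mp (IsAzumaya.bij (R := R) (A := A)).1 _ h0
    have h2 : TensorProduct.map (ρ (R := R) he) (ρop (R := R) he)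
        (TensorProduct.map (ι (R := R) he) (ιop (R := R) he) s) = s := by
      rw [← LinearMap.comp_apply, ← TensorProduct.map_comp]
      have e1 : ρ (R := R) he ∘ₗ ι (R := R) he = LinearMap.id := LinearMap.ext (ρ_ι he)
      have e2 : ρop (R := R) he ∘ₗ ιop (R := R) he = LinearMap.id := LinearMap.ext (ρop_ιop he)
      rw [e1, e2, TensorProduct.map_id, LinearMap.id_apply]
    rw [← h2, h1, map_zero]
  · -- surjective
    intro φ
    obtain ⟨t, ht⟩ := (IsAzumaya.bij (R := R) (A := A)).2
      (ι (R := R) he ∘ₗ φ ∘ₗ ρ (R := R) he)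
    refine ⟨TensorProduct.map (ρ (R := R) he) (ρop (R := R) he) t, ?_⟩
    refine LinearMap.ext fun x => cval_injective he ?_
    rw [mulLeftRight_map_ρ, ht, LinearMap.comp_apply, LinearMap.comp_apply, ι_apply,
      cmk_of_val_ρ, e_mul_cval, cval_mul_e]

end Azumaya

section LeftIdeal
variable (R : Type u) [CommRing R] {A : Type v} [Ring A] [Algebra R A] (e : A)

/-- the left ideal `A e` as an `R`-submodule -/
def Lid : Submodule R A := LinearMap.range (LinearMap.mulRight R e)

variable {R} {e}

theorem mul_mem_Lid (x : A) : x * e ∈ Lid R e := ⟨x, rfl⟩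

section
variable (he : IsIdempotentElem e)
include he

theorem mem_Lid_iff {y : A} : y ∈ Lid R e ↔ y * e = y := by
  constructor
  · rintro ⟨x, rfl⟩
    rw [LinearMap.mulRight_apply, mul_assoc, he.eq]
  · intro h
    exact ⟨y, h⟩

theorem Lid_mul_e (y : Lid R e) : (y : A) * e = y := (mem_Lid_iff he).mp y.2

end

variable (R) (e) in
/-- the projection `x ↦ x e` -/
def πL : A →ₗ[R] Lid R e := (LinearMap.mulRight R e).rangeRestrict

theorem πL_val (x : A) : (πL R e x : A) = x * e := rfl

theorem πL_of_mem (he : IsIdempotentElem e) (y : Lid R e) : πL R e (y : A) = y :=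
  Subtype.ext (by rw [πL_val, Lid_mul_e he])

instance instFiniteLid [Module.Finite R A] : Module.Finite R (Lid R e) :=
  Module.Finite.range _

theorem projective_Lid (he : IsIdempotentElem e) [Module.Projective R A] :
    Module.Projective R (Lid R e) :=
  Module.Projective.of_split (Lid R e).subtype (πL R e) (LinearMap.ext (πL_of_mem he))

variable (R) (e) in
/-- left multiplication on the left ideal -/
def lA : A →ₐ[R] Module.End R (Lid R e) where
  toFun a := (LinearMap.mulLeft R a).restrict (p := Lid R e) (q := Lid R e) (by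
    rintro _ ⟨x, rfl⟩
    exact ⟨a * x, by simp [mul_assoc]⟩)
  map_one' := by
    refine LinearMap.ext fun y => Subtype.ext ?_
    simp
  map_mul' a b := by
    refine LinearMap.ext fun y => Subtype.ext ?_
    simp [mul_assoc]
  map_zero' := by
    refine LinearMap.ext fun y => Subtype.ext ?_
    simp
  map_add' a b := by
    refine LinearMap.ext fun y => Subtype.ext ?_
    simp [add_mul]
  commutes' r := by
    refine LinearMap.ext fun y => Subtype.ext ?_
    simp [Algebra.algebraMap_eq_smul_one]

theorem lA_apply (a : A) (y : Lid R e) : (lA R e a y : A) = a * y := rfl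

/-- right multiplication by the corner on the left ideal -/
def rB (he : IsIdempotentElem e) : he.Cornerᵐᵒᵖ →ₐ[R] Module.End R (Lid R e) where
  toFun b := (LinearMap.mulRight R (cval he (unop b))).restrict (p := Lid R e) (q := Lid R e) (by
    intro y _
    refine (mem_Lid_iff he).mpr ?_
    rw [LinearMap.mulRight_apply, mul_assoc, cval_mul_e])
  map_one' := by
    refine LinearMap.ext fun y => Subtype.ext ?_
    simp [cval_one, Lid_mul_e he]
  map_mul' a b := by
    refine LinearMap.ext fun y => Subtype.ext ?_
    simp [cval_mul, mul_assoc]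
  map_zero' := by
    refine LinearMap.ext fun y => Subtype.ext ?_
    simp [cval_zero]
  map_add' a b := by
    refine LinearMap.ext fun y => Subtype.ext ?_
    simp [cval_add, mul_add]
  commutes' r := by
    refine LinearMap.ext fun y => Subtype.ext ?_
    simp [Algebra.algebraMap_eq_smul_one, cval_smul, cval_one, Lid_mul_e he]

theorem rB_apply (he : IsIdempotentElem e) (b : he.Cornerᵐᵒᵖ) (y : Lid R e) :
    (rB (R := R) he b y : A) = y * cval he (unop b) := rfl

/-- the action of `A ⊗ (eAe)ᵐᵒᵖ` on `A e` -/
def Φ (he : IsIdempotentElem e) : A ⊗[R] he.Cornerᵐᵒᵖ →ₐ[R] Module.End R (Lid R e) :=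
  Algebra.TensorProduct.lift (lA R e) (rB (R := R) he) (fun a b => by
    show lA R e a * rB (R := R) he b = rB (R := R) he b * lA R e a
    refine LinearMap.ext fun y => Subtype.ext ?_
    simp [lA_apply, rB_apply, mul_assoc])

theorem Φ_tmul (he : IsIdempotentElem e) (a : A) (b : he.Cornerᵐᵒᵖ) (y : Lid R e) :
    (Φ (R := R) he (a ⊗ₜ[R] b) y : A) = a * y * cval he (unop b) := by
  simp [Φ, lA_apply, rB_apply, mul_assoc]

end LeftIdeal

section PhiBij
variable {R : Type u} [CommRing R] {A : Type v} [Ring A] [Algebra R A] {e : A}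
  (he : IsIdempotentElem e)

theorem Φ_map_ρop (t : A ⊗[R] Aᵐᵒᵖ) (y : Lid R e) :
    (Φ (R := R) he (TensorProduct.map LinearMap.id (ρop (R := R) he) t) y : A) =
      AlgHom.mulLeftRight R A t (y : A) * e := by
  induction t using TensorProduct.induction_on with
  | zero => simp
  | add t₁ t₂ h₁ h₂ =>
    rw [map_add, map_add, LinearMap.add_apply, Submodule.coe_add, h₁, h₂, map_add,
      LinearMap.add_apply, add_mul]
  | tmul a a' =>
    rw [TensorProduct.map_tmul, Φ_tmul, AlgHom.mulLeftRight_apply, ρop_apply, unop_op, ρ_apply,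
      LinearMap.id_apply]
    have h1 : (y : A) * e = y := Lid_mul_e he y
    calc a * (y : A) * (e * unop a' * e) = a * ((y : A) * e) * unop a' * e := by
          simp only [mul_assoc]
      _ = a * (y : A) * unop a' * e := by rw [h1]

theorem mulLeftRight_map_ιop (s : A ⊗[R] he.Cornerᵐᵒᵖ) (x : A) :
    AlgHom.mulLeftRight R A (TensorProduct.map LinearMap.id (ιop (R := R) he) s) x =
      (Φ (R := R) he s (πL R e x) : A) := by
  induction s using TensorProduct.induction_on with
  | zero => simp
  | add t₁ t₂ h₁ h₂ =>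
    rw [map_add, map_add, LinearMap.add_apply, h₁, h₂, map_add, LinearMap.add_apply,
      Submodule.coe_add]
  | tmul a b =>
    rw [TensorProduct.map_tmul, Φ_tmul, AlgHom.mulLeftRight_apply, ιop_apply, unop_op,
      LinearMap.id_apply, πL_val]
    have h1 : e * cval he (unop b) = cval he (unop b) := e_mul_cval he (unop b)
    calc a * x * cval he (unop b) = a * x * (e * cval he (unop b)) := by rw [h1]
      _ = a * (x * e) * cval he (unop b) := by simp only [mul_assoc]

theorem Φ_bijective [IsAzumaya R A] : Function.Bijective (Φ (R := R) he) := by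
  constructor
  · rw [injective_iff_map_eq_zero]
    intro s hs
    have h0 : AlgHom.mulLeftRight R A
        (TensorProduct.map LinearMap.id (ιop (R := R) he) s) = 0 := by
      refine LinearMap.ext fun a => ?_
      rw [mulLeftRight_map_ιop, hs, LinearMap.zero_apply, LinearMap.zero_apply,
        Submodule.coe_zero]
    have h1 : TensorProduct.map LinearMap.id (ιop (R := R) he) s = 0 :=
      (injective_iff_map_eq_zero _).mp (IsAzumaya.bij (R := R) (A := A)).1 _ h0
    have h2 : TensorProduct.map LinearMap.id (ρop (R := R) he)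
        (TensorProduct.map (LinearMap.id : A →ₗ[R] A) (ιop (R := R) he) s) = s := by
      rw [← LinearMap.comp_apply, ← TensorProduct.map_comp]
      have e2 : ρop (R := R) he ∘ₗ ιop (R := R) he = LinearMap.id := LinearMap.ext (ρop_ιop he)
      rw [e2, LinearMap.id_comp, TensorProduct.map_id, LinearMap.id_apply]
    rw [← h2, h1, map_zero]
  · intro φ
    obtain ⟨t, ht⟩ := (IsAzumaya.bij (R := R) (A := A)).2
      ((Lid R e).subtype ∘ₗ φ ∘ₗ πL R e)
    refine ⟨TensorProduct.map LinearMap.id (ρop (R := R) he) t, ?_⟩
    refine LinearMap.ext fun y => Subtype.ext ?_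
    rw [Φ_map_ρop, ht, LinearMap.comp_apply, LinearMap.comp_apply, Submodule.subtype_apply,
      πL_of_mem he, Lid_mul_e he]

end PhiBij

section Rank
variable {R : Type u} [CommRing R] (M : Type v) [AddCommGroup M] [Module R M]
  [Module.Finite R M] [Module.Projective R M]

theorem rankAtStalk_pos_of_connected [ConnectedSpace (PrimeSpectrum R)] [Nontrivial M]
    (p : PrimeSpectrum R) : 0 < Module.rankAtStalk M p := by
  have hfp : Module.FinitePresentation R M := Module.finitePresentation_of_projective R M
  have hlc := Module.isLocallyConstant_rankAtStalk (R := R) (M := M)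
  by_contra h
  have h0 : Module.rankAtStalk M p = 0 := by omega
  have h1 : Module.rankAtStalk (R := R) M = 0 := by
    ext q
    rw [hlc.apply_eq_of_isPreconnected isPreconnected_univ (Set.mem_univ q) (Set.mem_univ p), h0]
    rfl
  have h2 := (Module.rankAtStalk_eq_zero_iff_subsingleton (R := R) (M := M)).mp h1
  exact not_subsingleton M h2

attribute [local instance] Module.free_of_flat_of_isLocalRing in
theorem faithfulSMul_of_rankAtStalk_pos
    (h : ∀ p : PrimeSpectrum R, 0 < Module.rankAtStalk M p) : FaithfulSMul R M := by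
  have key : ∀ r : R, (∀ m : M, r • m = 0) → r = 0 := by
    intro r hr
    by_contra hne
    set I : Ideal R := LinearMap.ker (LinearMap.mulRight R r) with hI
    have hI1 : I ≠ ⊤ := by
      intro htop
      have : (1 : R) ∈ I := htop ▸ Submodule.mem_top
      rw [hI, LinearMap.mem_ker, LinearMap.mulRight_apply, one_mul] at this
      exact hne this
    obtain ⟨m, hm, hIm⟩ := Ideal.exists_le_maximal I hI1
    have := hm.isPrime
    have hpos := h ⟨m, hm.isPrime⟩
    have hnt : Nontrivial (LocalizedModule m.primeCompl M) := by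
      by_contra hn
      rw [not_nontrivial_iff_subsingleton] at hn
      have : Module.rankAtStalk M ⟨m, hm.isPrime⟩ = 0 := Module.finrank_zero_of_subsingleton
      omega
    have hz : algebraMap R (Localization.AtPrime m) r = 0 := by
      apply FaithfulSMul.eq_of_smul_eq_smul (α := LocalizedModule m.primeCompl M)
      intro x
      induction x using LocalizedModule.induction_on with
      | h m' s =>
        rw [zero_smul, algebraMap_smul, LocalizedModule.smul'_mk, hr, LocalizedModule.zero_mk]
    obtain ⟨s, hs⟩ := (IsLocalization.map_eq_zero_iff m.primeCompl (Localization.AtPrime m) r).mp hz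
    have : (s : R) ∈ I := by
      rw [hI, LinearMap.mem_ker, LinearMap.mulRight_apply]
      exact hs
    exact s.2 (hIm this)
  refine ⟨fun {r₁ r₂} hr => ?_⟩
  have := key (r₁ - r₂) (fun m => by rw [sub_smul, hr m, sub_self])
  exact sub_eq_zero.mp this

theorem faithfulSMul_of_connected [ConnectedSpace (PrimeSpectrum R)] [Nontrivial M] :
    FaithfulSMul R M :=
  faithfulSMul_of_rankAtStalk_pos M (rankAtStalk_pos_of_connected M)

end Rank

section Decomp
variable {R : Type u} [CommRing R] {A : Type v} [Ring A] [Algebra R A] {e f : A}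

theorem isIdempotentElem_sub (he : IsIdempotentElem e) (hf : IsIdempotentElem f)
    (hef : e * f = f) (hfe : f * e = f) : IsIdempotentElem (e - f) := by
  show (e - f) * (e - f) = e - f
  rw [mul_sub, sub_mul, sub_mul, he.eq, hef, hfe, hf.eq, sub_self, sub_zero]

/-- `A e = A f ⊕ A (e - f)` for idempotents `f ≤ e` -/
def lidDecomp (he : IsIdempotentElem e) (hf : IsIdempotentElem f)
    (hef : e * f = f) (hfe : f * e = f) : Lid R e ≃ₗ[R] (Lid R f × Lid R (e - f)) where
  toFun y := (πL R f (y : A), πL R (e - f) (y : A))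
  map_add' y z := by
    rw [Submodule.coe_add, map_add, map_add, Prod.mk_add_mk]
  map_smul' r y := by
    rw [Submodule.coe_smul, map_smul, map_smul, RingHom.id_apply, Prod.smul_mk]
  invFun uv := ⟨(uv.1 : A) + (uv.2 : A), (mem_Lid_iff he).mpr (by
    have h1 : (uv.1 : A) * f = uv.1 := Lid_mul_e hf uv.1
    have h2 : (uv.2 : A) * (e - f) = uv.2 := Lid_mul_e (isIdempotentElem_sub he hf hef hfe) uv.2
    have h5 : (uv.1 : A) * e = uv.1 := by rw [← h1, mul_assoc, hfe]
    have h6 : (uv.2 : A) * e = uv.2 := by rw [← h2, mul_assoc, sub_mul, he.eq, hfe]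
    rw [add_mul, h5, h6])⟩
  left_inv y := Subtype.ext (by
    show (y : A) * f + (y : A) * (e - f) = y
    rw [← mul_add, add_sub_cancel, Lid_mul_e he])
  right_inv uv := by
    have h1 : (uv.1 : A) * f = uv.1 := Lid_mul_e hf uv.1
    have h2 : (uv.2 : A) * (e - f) = uv.2 := Lid_mul_e (isIdempotentElem_sub he hf hef hfe) uv.2
    have h3 : (uv.2 : A) * f = 0 := by
      rw [← h2, mul_assoc, sub_mul, hef, hf.eq, sub_self, mul_zero]
    have h4 : (uv.1 : A) * (e - f) = 0 := by
      rw [← h1, mul_assoc, mul_sub, hfe, hf.eq, sub_self, mul_zero]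
    refine Prod.ext (Subtype.ext ?_) (Subtype.ext ?_)
    · show ((uv.1 : A) + (uv.2 : A)) * f = uv.1
      rw [add_mul, h1, h3, add_zero]
    · show ((uv.1 : A) + (uv.2 : A)) * (e - f) = uv.2
      rw [add_mul, h4, h2, zero_add]

end Decomp

section Main
variable {R : Type u} [CommRing R] [ConnectedSpace (PrimeSpectrum R)]
  (A : Type u) [Ring A] [Algebra R A] [IsAzumaya R A]

include R in
theorem nontrivial_of_connected : Nontrivial A := by
  have : Nontrivial R := by
    by_contra h
    rw [not_nontrivial_iff_subsingleton] at h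
    exact (isEmpty_iff.mp (inferInstance : IsEmpty (PrimeSpectrum R)))
      (Classical.arbitrary (PrimeSpectrum R))
  refine ⟨⟨1, 0, fun h => ?_⟩⟩
  have h1 : algebraMap R A 1 = algebraMap R A 0 := by rw [map_one, map_zero, h]
  exact one_ne_zero (FaithfulSMul.algebraMap_injective R A h1)

include R in
theorem exists_minimal_idempotent :
    ∃ (e : A) (he : IsIdempotentElem e), e ≠ 0 ∧
      ∀ b : he.Corner, IsIdempotentElem b → b = 0 ∨ b = 1 := by
  classical
  have hA : Nontrivial A := nontrivial_of_connected (R := R) A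
  let p₀ : PrimeSpectrum R := Classical.arbitrary _
  let ρk : A → ℕ := fun f => Module.rankAtStalk (Lid R f) p₀
  obtain ⟨e, ⟨he, he0⟩, hmin⟩ := WellFounded.has_min (measure ρk).wf
    {f : A | IsIdempotentElem f ∧ f ≠ 0} ⟨1, IsIdempotentElem.one, one_ne_zero⟩
  refine ⟨e, he, he0, fun b hb => ?_⟩
  set f : A := cval he b with hfdef
  have hf : IsIdempotentElem f := by
    show f * f = f
    rw [hfdef, ← cval_mul, hb.eq]
  have hef : e * f = f := e_mul_cval he b
  have hfe : f * e = f := cval_mul_e he b
  by_cases hf0 : f = 0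
  · left
    exact cval_injective he (by rw [← hfdef, hf0, cval_zero])
  by_cases hfe' : f = e
  · right
    exact cval_injective he (by rw [← hfdef, hfe', cval_one])
  exfalso
  have hg : IsIdempotentElem (e - f) := isIdempotentElem_sub he hf hef hfe
  have hg0 : e - f ≠ 0 := fun h => hfe' (sub_eq_zero.mp h).symm
  have := projective_Lid (R := R) he
  have := projective_Lid (R := R) hf
  have := projective_Lid (R := R) hg
  have hnt : Nontrivial (Lid R (e - f)) := by
    refine ⟨⟨⟨e - f, (mem_Lid_iff hg).mpr hg.eq⟩, 0, fun h => hg0 ?_⟩⟩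
    exact congrArg Subtype.val h
  have hpos : 0 < Module.rankAtStalk (Lid R (e - f)) p₀ :=
    rankAtStalk_pos_of_connected (Lid R (e - f)) p₀
  have hsum : ρk e = ρk f + Module.rankAtStalk (Lid R (e - f)) p₀ := by
    show Module.rankAtStalk (Lid R e) p₀ = _
    rw [Module.rankAtStalk_eq_of_equiv (lidDecomp (R := R) he hf hef hfe),
      Module.rankAtStalk_prod]
    rfl
  exact hmin f ⟨hf, hf0⟩ (by show ρk f < ρk e; omega)

theorem exists_brauerEquivalent_idempotents_trivial :
    ∃ (B : Type u) (_ : Ring B) (_ : Algebra R B) (_ : IsAzumaya R B) (P Q : Type u)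
      (_ : AddCommGroup P) (_ : Module R P) (_ : AddCommGroup Q) (_ : Module R Q),
      (∀ b : B, IsIdempotentElem b → b = 0 ∨ b = 1) ∧ Module.Finite R P ∧ Module.Projective R P ∧
      FaithfulSMul R P ∧ Module.Finite R Q ∧ Module.Projective R Q ∧ FaithfulSMul R Q ∧
      Nonempty (A ⊗[R] Module.End R P ≃ₐ[R] B ⊗[R] Module.End R Q) := by
  obtain ⟨e, he, he0, hidem⟩ := exists_minimal_idempotent (R := R) A
  have hntB : Nontrivial he.Corner := by
    refine ⟨⟨1, 0, fun h => he0 ?_⟩⟩
    have := congrArg (cval he) h
    rwa [cval_one, cval_zero] at this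
  have hfB : FaithfulSMul R he.Corner := faithfulSMul_of_connected (R := R) he.Corner
  have hazB : IsAzumaya R he.Corner := isAzumaya_corner he
  have hprojL := projective_Lid (R := R) he
  have hntL : Nontrivial (Lid R e) := by
    refine ⟨⟨⟨e, (mem_Lid_iff he).mpr he.eq⟩, 0, fun h => he0 ?_⟩⟩
    exact congrArg Subtype.val h
  have hfL : FaithfulSMul R (Lid R e) := faithfulSMul_of_connected (R := R) (Lid R e)
  refine ⟨he.Corner, inferInstance, inferInstance, hazB, he.Corner, Lid R e, inferInstance,
    inferInstance, inferInstance, inferInstance, hidem, inferInstance, inferInstance, hfB,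
    inferInstance, hprojL, hfL, ⟨?_⟩⟩
  let e1 : he.Corner ⊗[R] he.Cornerᵐᵒᵖ ≃ₐ[R] Module.End R he.Corner :=
    AlgEquiv.ofBijective (AlgHom.mulLeftRight R he.Corner) IsAzumaya.bij
  let e2 : A ⊗[R] he.Cornerᵐᵒᵖ ≃ₐ[R] Module.End R (Lid R e) :=
    AlgEquiv.ofBijective (Φ (R := R) he) (Φ_bijective he)
  exact (Algebra.TensorProduct.congr AlgEquiv.refl e1.symm).trans <|
    (Algebra.TensorProduct.congr AlgEquiv.refl
      (Algebra.TensorProduct.comm R he.Corner he.Cornerᵐᵒᵖ)).trans <|
    (Algebra.TensorProduct.assoc R R R A he.Cornerᵐᵒᵖ he.Corner).symm.trans <|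
    (Algebra.TensorProduct.congr e2 AlgEquiv.refl).trans <|
    Algebra.TensorProduct.comm R (Module.End R (Lid R e)) he.Corner

end Main

end Groth.Agent.Lib.Helper1.AzCorner
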