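import Mathlib
import Groth.Agent.S17979
import Groth.Agent.S0497

/-!
# Idempotent lifting over henselian local rings for finite free noncommutative algebras (helper1)

* `exists_idempotent_lift`
-/

set_option autoImplicit false
universe u v w
open Polynomial
open scoped TensorProduct

namespace Groth.Agent.Lib.Helper1.AzHens

section Tools

theorem aeval_idempotent {κ : Type u} [Field κ] {B : Type v} [Ring B] [Algebra κ B] (e : B)
    (he : IsIdempotentElem e) (p : κ[X]) :
    aeval e p = p.eval 0 • (1 - e) + p.eval 1 • e := by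
  induction p using Polynomial.induction_on' with
  | add p q hp hq =>
    rw [map_add, hp, hq, eval_add, eval_add, add_smul, add_smul]
    abel
  | monomial n c =>
    rw [aeval_monomial, eval_monomial, eval_monomial, one_pow, mul_one]
    rcases Nat.eq_zero_or_pos n with rfl | hn
    · rw [pow_zero, pow_zero, mul_one, mul_one, ← smul_add, sub_add_cancel, Algebra.smul_def,
        mul_one]
    · have hen : e ^ n = e := by
        obtain ⟨m, rfl⟩ : ∃ m, n = m + 1 := ⟨n - 1, by omega⟩
        exact he.pow_succ_eq m
      rw [zero_pow hn.ne', mul_zero, zero_smul, zero_add, hen, Algebra.smul_def]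

theorem aeval_one_tmul' {R : Type u} [CommRing R] {A : Type v} [Ring A] [Algebra R A]
    (K : Type w) [CommRing K] [Algebra R K] (x : A) (p : R[X]) :
    aeval ((1 : K) ⊗ₜ[R] x) (p.map (algebraMap R K)) = (1 : K) ⊗ₜ[R] (aeval x p) := by
  rw [aeval_map_algebraMap]
  have : ((1 : K) ⊗ₜ[R] x) = (Algebra.TensorProduct.includeRight : A →ₐ[R] K ⊗[R] A) x := rfl
  rw [this, aeval_algHom_apply]
  rfl

end Tools

section IdemLift
variable (R : Type u) [CommRing R] [HenselianLocalRing R]
  (A : Type v) [Ring A] [Algebra R A] [Module.Free R A] [Module.Finite R A]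

/-- Idempotents lift from the special fibre of a finite free (noncommutative) algebra over a
henselian local ring; the lift is a polynomial in any given lift. -/
theorem exists_idempotent_lift (a : A)
    (ha : IsIdempotentElem ((1 : IsLocalRing.ResidueField R) ⊗ₜ[R] a :
      IsLocalRing.ResidueField R ⊗[R] A)) :
    ∃ e : A, IsIdempotentElem e ∧
      (1 : IsLocalRing.ResidueField R) ⊗ₜ[R] e = (1 : IsLocalRing.ResidueField R) ⊗ₜ[R] a ∧
      ∃ q : R[X], e = aeval a q := by
  classical
  set κ := IsLocalRing.ResidueField R with hκ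
  set χ : R[X] := (LinearMap.mulLeft R a).charpoly with hχ
  have hχm : χ.Monic := LinearMap.charpoly_monic _
  have hχa : aeval a χ = 0 := by
    have h1 := LinearMap.aeval_self_charpoly (LinearMap.mulLeft R a)
    have h2 : aeval (LinearMap.mulLeft R a) χ = LinearMap.mulLeft R (aeval a χ) := by
      have : LinearMap.mulLeft R a = Algebra.lmul R A a := rfl
      rw [this, aeval_algHom_apply]; rfl
    rw [h2] at h1
    have := congrArg (fun f => f 1) h1
    simpa using this
  set χb : κ[X] := χ.map (algebraMap R κ) with hχb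
  set eb : κ ⊗[R] A := (1 : κ) ⊗ₜ[R] a with heb
  have hχe : aeval eb χb = 0 := by
    rw [hχb, heb, aeval_one_tmul', hχa, TensorProduct.tmul_zero]
  have hexp := aeval_idempotent eb ha χb
  rw [hχe] at hexp
  -- consequences
  have hc0 : χb.eval 0 • (1 - eb) = 0 := by
    have := congrArg (fun z => (1 - eb) * z) hexp
    simp only [mul_zero, mul_add, mul_smul_comm] at this
    rw [ha.one_sub.eq, show (1 - eb) * eb = 0 by rw [sub_mul, one_mul, ha.eq, sub_self],
      smul_zero, add_zero] at this
    exact this.symm
  have hc1 : χb.eval 1 • eb = 0 := by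
    have := congrArg (fun z => eb * z) hexp
    simp only [mul_zero, mul_add, mul_smul_comm] at this
    rw [ha.eq, show eb * (1 - eb) = 0 by rw [mul_sub, mul_one, ha.eq, sub_self],
      smul_zero, zero_add] at this
    exact this.symm
  -- factor χb = X^s * g₁
  have hne : χb ≠ 0 := (hχm.map _).ne_zero
  obtain ⟨g₁, hfac, hg₁⟩ := exists_eq_pow_rootMultiplicity_mul_and_not_dvd χb hne 0
  set s := rootMultiplicity 0 χb with hs
  rw [C_0, sub_zero] at hfac hg₁
  have hcop : IsCoprime ((X : κ[X]) ^ s) g₁ :=
    IsCoprime.pow_left ((irreducible_X.coprime_iff_not_dvd).mpr hg₁)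
  obtain ⟨G₀, G₁, hGG, hG₀m, hG₀, hG₁⟩ := Groth.Agent.S0497.result R χ (X ^ s) g₁
    (monic_X_pow s) hcop hfac
  have hcopR : IsCoprime G₀ G₁ := Groth.Agent.S17979.Aux.foo R G₀ G₁ hG₀m (by
    rw [hG₀, hG₁]; exact hcop)
  obtain ⟨u, v, huv⟩ := hcopR
  refine ⟨aeval a (u * G₀), ?_, ?_, u * G₀, rfl⟩
  · -- idempotent
    have h1 : (u * G₀) * (u * G₀) = u * G₀ - u * v * χ := by
      rw [hGG]
      have : u * G₀ = 1 - v * G₁ := by rw [← huv]; ring
      calc u * G₀ * (u * G₀) = u * G₀ * (1 - v * G₁) := by rw [← this]
        _ = u * G₀ - u * v * (G₀ * G₁) := by ring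
    rw [IsIdempotentElem, ← map_mul, h1, map_sub, map_mul _ (u * v) χ, hχa, mul_zero, sub_zero]
  · -- reduction
    rw [← aeval_one_tmul' κ a (u * G₀), aeval_idempotent _ ha]
    set ub : κ[X] := u.map (algebraMap R κ) with hub
    have hq : (u * G₀).map (algebraMap R κ) = ub * X ^ s := by
      rw [Polynomial.map_mul]
      have e1 : Polynomial.map (algebraMap R κ) G₀ = X ^ s := hG₀
      rw [e1]
    have hbez : ub * X ^ s + v.map (algebraMap R κ) * g₁ = 1 := by
      have := congrArg (Polynomial.map (algebraMap R κ)) huv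
      rw [Polynomial.map_add, Polynomial.map_mul, Polynomial.map_mul, Polynomial.map_one] at this
      rw [← this]
      have e1 : Polynomial.map (algebraMap R κ) G₀ = X ^ s := hG₀
      have e2 : Polynomial.map (algebraMap R κ) G₁ = g₁ := hG₁
      rw [e1, e2]
    rw [hq]
    -- first term
    have ht0 : (ub * X ^ s).eval 0 • (1 - eb) = 0 := by
      rcases Nat.eq_zero_or_pos s with h0 | hpos
      · have : χb.eval 0 ≠ 0 := by
          rw [hfac, h0, pow_zero, one_mul]
          intro h
          exact hg₁ (by
            have := (dvd_iff_isRoot (p := g₁) (a := 0)).mpr h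
            rwa [C_0, sub_zero] at this)
        have h2 := hc0
        rw [smul_eq_zero] at h2
        rw [h2.resolve_left this, smul_zero]
      · rw [eval_mul, eval_pow, eval_X, zero_pow hpos.ne', mul_zero, zero_smul]
    have ht1 : (ub * X ^ s).eval 1 • eb = eb := by
      have h3 : (ub * X ^ s).eval 1 = 1 - (v.map (algebraMap R κ)).eval 1 * g₁.eval 1 := by
        have := congrArg (eval 1) hbez
        rw [eval_add, eval_mul (p := v.map (algebraMap R κ)) (q := g₁), eval_one] at this
        linear_combination this
      by_cases hg1 : g₁.eval 1 = 0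
      · rw [h3, hg1, mul_zero, sub_zero, one_smul]
      · have : χb.eval 1 ≠ 0 := by
          rw [hfac, eval_mul, eval_pow, eval_X, one_pow, one_mul]; exact hg1
        have h2 := hc1
        rw [smul_eq_zero] at h2
        rw [h2.resolve_left this, smul_zero]
    rw [ht0, ht1, zero_add]

end IdemLift
end Groth.Agent.Lib.Helper1.AzHens
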