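import Mathlib
import Groth.Agent.Lib.Helper1.CSA.AzHens
import Groth.Agent.Lib.Helper1.CSA.AzRegularLocal
import Groth.Agent.Lib.Helper85.AzumayaIdeals

set_option autoImplicit false
universe u v w
open scoped TensorProduct
open MulOpposite

namespace Groth.Agent.Lib.Helper1.AzHensLift

section Alpha
variable (R : Type u) [CommRing R] (κ : Type u) [Field κ] [Algebra R κ]
  (A : Type u) [Ring A] [Algebra R A] (B : Type u) [Ring B] [Algebra R B]
  (e₀ : (κ ⊗[R] A) ≃ₐ[κ] (κ ⊗[R] B))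

/-- `a ↦ L_{e₀(1 ⊗ a)}` -/
noncomputable def fA : A →ₐ[R] Module.End κ (κ ⊗[R] B) :=
  ((Algebra.lmul κ (κ ⊗[R] B)).restrictScalars R).comp
    ((e₀.toAlgHom.restrictScalars R).comp Algebra.TensorProduct.includeRight)

theorem fA_apply (a : A) (y : κ ⊗[R] B) : fA R κ A B e₀ a y = e₀ (1 ⊗ₜ[R] a) * y := rfl

/-- `op b ↦ R_{1 ⊗ b}` -/
noncomputable def gB : Bᵐᵒᵖ →ₐ[R] Module.End κ (κ ⊗[R] B) where
  toFun x := LinearMap.mulRight κ ((1 : κ) ⊗ₜ[R] unop x)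
  map_one' := by ext y; simp
  map_mul' x y := by
    ext z
    simp [mul_assoc]
  map_zero' := by ext y; simp
  map_add' x y := by ext z; simp [TensorProduct.tmul_add, mul_add]
  commutes' c := by
    ext z
    simp [Algebra.algebraMap_eq_smul_one]

theorem gB_apply (x : Bᵐᵒᵖ) (y : κ ⊗[R] B) :
    gB R κ B x y = y * ((1 : κ) ⊗ₜ[R] unop x) := rfl

/-- the action of `A ⊗ Bᵐᵒᵖ` on the fibre of `B` -/
noncomputable def α₀ : A ⊗[R] Bᵐᵒᵖ →ₐ[R] Module.End κ (κ ⊗[R] B) :=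
  Algebra.TensorProduct.lift (fA R κ A B e₀) (gB R κ B) (fun a x => by
    show fA R κ A B e₀ a * gB R κ B x = gB R κ B x * fA R κ A B e₀ a
    ext y
    simp [fA_apply, gB_apply, mul_assoc])

theorem α₀_tmul (a : A) (x : Bᵐᵒᵖ) (y : κ ⊗[R] B) :
    α₀ R κ A B e₀ (a ⊗ₜ[R] x) y = e₀ (1 ⊗ₜ[R] a) * y * ((1 : κ) ⊗ₜ[R] unop x) := by
  simp [α₀, fA_apply, gB_apply, mul_assoc]

/-- its `κ`-linear extension -/
noncomputable def α : κ ⊗[R] (A ⊗[R] Bᵐᵒᵖ) →ₐ[κ] Module.End κ (κ ⊗[R] B) :=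
  Algebra.TensorProduct.lift (Algebra.ofId κ _) (α₀ R κ A B e₀)
    (fun x _ => Algebra.commute_algebraMap_left x _)

theorem α_one_tmul (c : A ⊗[R] Bᵐᵒᵖ) : α R κ A B e₀ (1 ⊗ₜ[R] c) = α₀ R κ A B e₀ c := by
  simp [α]

theorem α_surjective [IsAzumaya κ (κ ⊗[R] B)] (hκ : Function.Surjective (algebraMap R κ)) :
    Function.Surjective (α R κ A B e₀) := by
  intro T
  obtain ⟨w, rfl⟩ := (IsAzumaya.AlgHom.mulLeftRight_bij κ (κ ⊗[R] B)).2 T
  induction w using TensorProduct.induction_on with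
  | zero => exact ⟨0, by simp⟩
  | add w₁ w₂ h₁ h₂ =>
    obtain ⟨c₁, hc₁⟩ := h₁
    obtain ⟨c₂, hc₂⟩ := h₂
    exact ⟨c₁ + c₂, by rw [map_add, map_add, hc₁, hc₂]⟩
  | tmul x y' =>
    obtain ⟨a, ha⟩ := TensorProduct.mk_surjective R A κ hκ (e₀.symm x)
    obtain ⟨b, hb⟩ := TensorProduct.mk_surjective R B κ hκ (unop y')
    refine ⟨1 ⊗ₜ[R] (a ⊗ₜ[R] op b), ?_⟩
    rw [α_one_tmul]
    refine LinearMap.ext fun v => ?_
    rw [α₀_tmul, AlgHom.mulLeftRight_apply]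
    simp only [TensorProduct.mk_apply] at ha hb
    rw [ha, AlgEquiv.apply_symm_apply, unop_op, hb]

theorem α_bijective [Nontrivial R] [IsAzumaya κ (κ ⊗[R] B)]
    (hκ : Function.Surjective (algebraMap R κ))
    [Module.Free R A] [Module.Finite R A] [Module.Free R B] [Module.Finite R B]
    (hAB : Module.finrank R A = Module.finrank R B) :
    Function.Bijective (α R κ A B e₀) := by
  have hs := α_surjective R κ A B e₀ hκ
  have hfr : Module.finrank κ (κ ⊗[R] (A ⊗[R] Bᵐᵒᵖ)) =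
      Module.finrank κ (Module.End κ (κ ⊗[R] B)) := by
    rw [Module.finrank_baseChange, Module.finrank_tensorProduct, Module.finrank_linearMap,
      Module.finrank_baseChange, hAB, (MulOpposite.opLinearEquiv R : B ≃ₗ[R] Bᵐᵒᵖ).finrank_eq]
  exact ⟨(LinearMap.injective_iff_surjective_of_finrank_eq_finrank
    (f := (α R κ A B e₀).toLinearMap) hfr).mpr hs, hs⟩

end Alpha

section Main
open IsLocalRing

variable (R : Type u) [CommRing R] [HenselianLocalRing R]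
  (A : Type u) [Ring A] [Algebra R A] [IsAzumaya R A]
  (B : Type u) [Ring B] [Algebra R B] [IsAzumaya R B]
  (e₀ : (ResidueField R ⊗[R] A) ≃ₐ[ResidueField R] (ResidueField R ⊗[R] B))

local notation "κ" => ResidueField R

theorem exists_lift :
    ∃ e : A ≃ₐ[R] B, ∀ a : A, e₀ ((1 : κ) ⊗ₜ[R] a) = (1 : κ) ⊗ₜ[R] (e a) := by
  classical
  have : Module.Free R A := AzRegular.free_of_isAzumaya R A
  have : Module.Free R B := AzRegular.free_of_isAzumaya R B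
  have : Module.Free R Bᵐᵒᵖ := Module.Free.of_equiv (MulOpposite.opLinearEquiv R : B ≃ₗ[R] Bᵐᵒᵖ)
  have : IsAzumaya κ (κ ⊗[R] B) := Groth.Agent.Lib.Helper85.isAzumaya_baseChange R κ B
  have hκ : Function.Surjective (algebraMap R κ) := IsLocalRing.residue_surjective
  have hAB : Module.finrank R A = Module.finrank R B := by
    rw [← Module.finrank_baseChange (R := κ) (M' := A),
      ← Module.finrank_baseChange (R := κ) (M' := B)]
    exact e₀.toLinearEquiv.finrank_eq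
  have hα := α_bijective R κ A B e₀ hκ hAB
  -- the rank one projector
  obtain ⟨lam, hlam⟩ := Groth.Agent.Lib.Helper85.exists_dual_one_eq_one κ (κ ⊗[R] B)
  set π : Module.End κ (κ ⊗[R] B) := lam.smulRight (1 : κ ⊗[R] B) with hπ
  have hπa : ∀ y, π y = lam y • (1 : κ ⊗[R] B) := fun y => by
    rw [hπ, LinearMap.smulRight_apply]
  have hπ1 : π 1 = 1 := by rw [hπa, hlam, one_smul]
  obtain ⟨εbar, hεbar⟩ := hα.2 π
  obtain ⟨c₀, hc₀⟩ := TensorProduct.mk_surjective R (A ⊗[R] Bᵐᵒᵖ) κ hκ εbar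
  simp only [TensorProduct.mk_apply] at hc₀
  have hidem : IsIdempotentElem ((1 : κ) ⊗ₜ[R] c₀ : κ ⊗[R] (A ⊗[R] Bᵐᵒᵖ)) := by
    apply hα.1
    rw [map_mul, hc₀, hεbar]
    refine LinearMap.ext fun y => ?_
    rw [Module.End.mul_apply, hπa, hπa, map_smul, hlam, smul_eq_mul, mul_one]
  obtain ⟨ε, hε, hε1, -⟩ := AzHens.exists_idempotent_lift R (A ⊗[R] Bᵐᵒᵖ) c₀ hidem
  have hαε : α₀ R κ A B e₀ ε = π := by
    rw [← α_one_tmul, hε1, hc₀, hεbar]
  -- the comparison maps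
  set β : B →ₗ[R] A ⊗[R] Bᵐᵒᵖ := (LinearMap.mulRight R ε) ∘ₗ
    ((Algebra.TensorProduct.includeRight : Bᵐᵒᵖ →ₐ[R] A ⊗[R] Bᵐᵒᵖ).toLinearMap ∘ₗ
      (MulOpposite.opLinearEquiv R : B ≃ₗ[R] Bᵐᵒᵖ).toLinearMap) with hβdef
  set γ : A →ₗ[R] A ⊗[R] Bᵐᵒᵖ := (LinearMap.mulRight R ε) ∘ₗ
    (Algebra.TensorProduct.includeLeft : A →ₐ[R] A ⊗[R] Bᵐᵒᵖ).toLinearMap with hγdef
  have hβ : ∀ b, β b = ((1 : A) ⊗ₜ[R] op b) * ε := fun b => rfl
  have hγ : ∀ a, γ a = (a ⊗ₜ[R] (1 : Bᵐᵒᵖ)) * ε := fun a => rfl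
  have K1 : ∀ c, α₀ R κ A B e₀ (c * ε) = α₀ R κ A B e₀ c * π := fun c => by
    rw [map_mul, hαε]
  have K2 : ∀ (b : B) (y : κ ⊗[R] B),
      α₀ R κ A B e₀ ((1 : A) ⊗ₜ[R] op b) y = y * ((1 : κ) ⊗ₜ[R] b) := fun b y => by
    rw [α₀_tmul, ← Algebra.TensorProduct.one_def, map_one, one_mul, unop_op]
  have K3 : ∀ (a : A) (y : κ ⊗[R] B),
      α₀ R κ A B e₀ (a ⊗ₜ[R] (1 : Bᵐᵒᵖ)) y = e₀ ((1 : κ) ⊗ₜ[R] a) * y := fun a y => by
    rw [α₀_tmul, unop_one, ← Algebra.TensorProduct.one_def, mul_one]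
  have evβ : ∀ b, α₀ R κ A B e₀ (β b) 1 = (1 : κ) ⊗ₜ[R] b := fun b => by
    rw [hβ, K1, Module.End.mul_apply, hπ1, K2, one_mul]
  have evγ : ∀ a, α₀ R κ A B e₀ (γ a) 1 = e₀ ((1 : κ) ⊗ₜ[R] a) := fun a => by
    rw [hγ, K1, Module.End.mul_apply, hπ1, K3, mul_one]
  -- `β` is a split injection
  have hβinj : Function.Injective (β.lTensor κ) := by
    have hleft : ∀ z : κ ⊗[R] B, α R κ A B e₀ (β.lTensor κ z) 1 = z := by
      intro z
      induction z using TensorProduct.induction_on with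
      | zero => simp
      | add x y hx hy => rw [map_add, map_add, LinearMap.add_apply, hx, hy]
      | tmul k b =>
        rw [LinearMap.lTensor_tmul]
        have : (k ⊗ₜ[R] β b : κ ⊗[R] (A ⊗[R] Bᵐᵒᵖ)) = k • ((1 : κ) ⊗ₜ[R] β b) := by
          rw [TensorProduct.smul_tmul', smul_eq_mul, mul_one]
        rw [this, map_smul, α_one_tmul, LinearMap.smul_apply, evβ, TensorProduct.smul_tmul',
          smul_eq_mul, mul_one]
    intro z₁ z₂ h
    rw [← hleft z₁, ← hleft z₂, h]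
  obtain ⟨l', hl'⟩ :=
    (IsLocalRing.split_injective_iff_lTensor_residueField_injective β).mpr hβinj
  have hl'β : ∀ b, l' (β b) = b := fun b => LinearMap.congr_fun hl' b
  have hβi : Function.Injective β := fun b₁ b₂ h => by rw [← hl'β b₁, ← hl'β b₂, h]
  -- the left ideal `C ε` is the image of `β`
  have hN : LinearMap.range (LinearMap.mulRight R ε) ≤ LinearMap.range β := by
    apply Submodule.le_of_le_smul_of_le_jacobson_bot (I := maximalIdeal R)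
    · rw [LinearMap.range_eq_map]; exact Module.Finite.fg_top.map _
    · rw [IsLocalRing.jacobson_eq_maximalIdeal ⊥ bot_ne_top]
    · rintro _ ⟨c', rfl⟩
      set c := LinearMap.mulRight R ε c' with hc
      have hcε : c * ε = c := by
        rw [hc, LinearMap.mulRight_apply, mul_assoc, hε.eq]
      obtain ⟨b, hb⟩ := TensorProduct.mk_surjective R B κ hκ (α₀ R κ A B e₀ c 1)
      simp only [TensorProduct.mk_apply] at hb
      have hd0 : (1 : κ) ⊗ₜ[R] (c - β b) = (0 : κ ⊗[R] (A ⊗[R] Bᵐᵒᵖ)) := by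
        apply hα.1
        rw [map_zero, α_one_tmul, map_sub, sub_eq_zero]
        conv_lhs => rw [← hcε]
        rw [hβ, K1, K1]
        refine LinearMap.ext fun y => ?_
        rw [Module.End.mul_apply, Module.End.mul_apply, hπa, map_smul, map_smul, K2, one_mul, hb]
      have hdm : c - β b ∈ maximalIdeal R • (⊤ : Submodule R (A ⊗[R] Bᵐᵒᵖ)) := by
        rw [← LinearMap.ker_tensorProductMk]
        exact hd0
      have hdε : (c - β b) * ε = c - β b := by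
        rw [sub_mul, hcε, hβ, mul_assoc, hε.eq]
      have hmem : c - β b ∈ maximalIdeal R • LinearMap.range (LinearMap.mulRight R ε) := by
        rw [LinearMap.range_eq_map, ← Submodule.map_smul'']
        exact ⟨c - β b, hdm, hdε⟩
      have h2 : c = β b + (c - β b) := by abel
      rw [h2]
      exact Submodule.add_mem_sup ⟨b, rfl⟩ hmem
  -- the lift
  set e : A →ₗ[R] B := l' ∘ₗ γ with hedef
  have he : ∀ a, β (e a) = γ a := fun a => by
    obtain ⟨b, hb⟩ := hN (⟨a ⊗ₜ[R] (1 : Bᵐᵒᵖ), rfl⟩ : γ a ∈ LinearMap.range (LinearMap.mulRight R ε))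
    show β (l' (γ a)) = γ a
    rw [← hb, hl'β]
  have he1 : e 1 = 1 := by
    apply hβi
    rw [he, hβ, hγ, op_one]
  have hemul : ∀ a a', e (a * a') = e a * e a' := fun a a' => by
    apply hβi
    have h1 : ((1 : A) ⊗ₜ[R] (op (e a') * op (e a)) : A ⊗[R] Bᵐᵒᵖ) =
        ((1 : A) ⊗ₜ[R] op (e a')) * ((1 : A) ⊗ₜ[R] op (e a)) := by
      rw [Algebra.TensorProduct.tmul_mul_tmul, one_mul]
    have h2 : ((1 : A) ⊗ₜ[R] op (e a') : A ⊗[R] Bᵐᵒᵖ) * (a ⊗ₜ[R] (1 : Bᵐᵒᵖ)) =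
        (a ⊗ₜ[R] (1 : Bᵐᵒᵖ)) * ((1 : A) ⊗ₜ[R] op (e a')) := by
      rw [Algebra.TensorProduct.tmul_mul_tmul, Algebra.TensorProduct.tmul_mul_tmul, one_mul,
        mul_one, one_mul, mul_one]
    have h3 : ((a * a') ⊗ₜ[R] (1 : Bᵐᵒᵖ) : A ⊗[R] Bᵐᵒᵖ) =
        (a ⊗ₜ[R] (1 : Bᵐᵒᵖ)) * (a' ⊗ₜ[R] (1 : Bᵐᵒᵖ)) := by
      rw [Algebra.TensorProduct.tmul_mul_tmul, one_mul]
    have chain : β (e a * e a') = γ (a * a') :=
      calc β (e a * e a')
          = ((1 : A) ⊗ₜ[R] op (e a')) * (((1 : A) ⊗ₜ[R] op (e a)) * ε) := by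
            rw [hβ, op_mul, h1, mul_assoc]
        _ = ((1 : A) ⊗ₜ[R] op (e a')) * γ a := by rw [← hβ, he]
        _ = (a ⊗ₜ[R] (1 : Bᵐᵒᵖ)) * (((1 : A) ⊗ₜ[R] op (e a')) * ε) := by
            rw [hγ, ← mul_assoc, h2, mul_assoc]
        _ = (a ⊗ₜ[R] (1 : Bᵐᵒᵖ)) * γ a' := by rw [← hβ, he]
        _ = γ (a * a') := by rw [hγ, hγ, ← mul_assoc, ← h3]
    rw [he, chain]
  set E : A →ₐ[R] B := AlgHom.ofLinearMap e he1 hemul with hE
  have hEe : ∀ a, E a = e a := fun a => rfl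
  have hcompat : ∀ a : A, e₀ ((1 : κ) ⊗ₜ[R] a) = (1 : κ) ⊗ₜ[R] (E a) := fun a => by
    rw [hEe, ← evγ, ← he, evβ]
  have hEsurj : Function.Surjective E := by
    have hr : LinearMap.range E.toLinearMap = ⊤ := by
      rw [← IsLocalRing.map_tensorProduct_mk_eq_top (R := R) (M := B), eq_top_iff]
      rintro z -
      obtain ⟨a, ha⟩ := TensorProduct.mk_surjective R A κ hκ (e₀.symm z)
      simp only [TensorProduct.mk_apply] at ha
      refine ⟨E a, ⟨a, rfl⟩, ?_⟩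
      show (1 : κ) ⊗ₜ[R] E a = z
      rw [← hcompat, ha, AlgEquiv.apply_symm_apply]
    exact LinearMap.range_eq_top.mp hr
  have hEinj : Function.Injective E := by
    have i : A ≃ₗ[R] B := LinearEquiv.ofFinrankEq A B hAB
    exact OrzechProperty.injective_of_surjective_of_injective i.toLinearMap E.toLinearMap
      i.injective hEsurj
  exact ⟨AlgEquiv.ofBijective E ⟨hEinj, hEsurj⟩, fun a => by rw [hcompat]; rfl⟩

end Main

end Groth.Agent.Lib.Helper1.AzHensLift
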