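import Mathlib
import Groth.Agent.Lib.Helper85.Azumaya
import Groth.Agent.Lib.Helper25.PiTensorAlg

set_option autoImplicit false
universe u v w
open scoped TensorProduct
open PiTensorProduct

namespace Groth.Agent.Lib.Helper1.AzTPow

section Succ
variable (k : Type u) [CommRing k] (A : Type v) [Ring A] [Algebra k A]

/-- linear version of `A^{⊗(e+1)} ≃ A^{⊗e} ⊗ A` -/
noncomputable def succLinear (e : ℕ) :
    (⨂[k] _ : Fin (e + 1), A) ≃ₗ[k] (⨂[k] _ : Fin e, A) ⊗[k] A :=
  ((PiTensorProduct.reindex k (fun _ : Fin (e + 1) => A) finSumFinEquiv.symm :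
      (⨂[k] _ : Fin (e + 1), A) ≃ₗ[k] (⨂[k] _ : Fin e ⊕ Fin 1, A))) ≪≫ₗ
    (PiTensorProduct.tmulEquiv k A).symm ≪≫ₗ
    (TensorProduct.congr (LinearEquiv.refl k _)
      (PiTensorProduct.subsingletonEquiv (s := fun _ : Fin 1 => A) (0 : Fin 1)))

theorem succLinear_tprod (e : ℕ) (a : Fin (e + 1) → A) :
    succLinear k A e (tprod k a) =
      (tprod k fun i : Fin e => a (Fin.castAdd 1 i)) ⊗ₜ[k] a (Fin.natAdd e 0) := by
  simp only [succLinear, LinearEquiv.trans_apply]
  rw [PiTensorProduct.reindex_tprod]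
  erw [PiTensorProduct.tmulEquiv_symm_apply]
  simp

/-- `A^{⊗(e+1)} ≃ A^{⊗e} ⊗ A` as algebras -/
noncomputable def succEquiv (e : ℕ) :
    (⨂[k] _ : Fin (e + 1), A) ≃ₐ[k] (⨂[k] _ : Fin e, A) ⊗[k] A :=
  Groth.Agent.Lib.Helper25.PiTensorAlg.algEquivOfTprod (succLinear k A e)
    (by
      rw [succLinear_tprod, Algebra.TensorProduct.one_def, PiTensorProduct.one_def]
      rfl)
    (by
      intro a b
      rw [succLinear_tprod, succLinear_tprod, succLinear_tprod,
        Algebra.TensorProduct.tmul_mul_tmul, PiTensorProduct.tprod_mul_tprod]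
      rfl)

/-- `A^{⊗0} ≃ k` as algebras -/
noncomputable def zeroEquiv : (⨂[k] _ : Fin 0, A) ≃ₐ[k] k :=
  Groth.Agent.Lib.Helper25.PiTensorAlg.algEmpty (fun _ : Fin 0 => A)

end Succ

section Azumaya
variable (R : Type u) [CommRing R] (A : Type v) [Ring A] [Algebra R A] [IsAzumaya R A]

theorem isAzumaya_tpow : ∀ n : ℕ, IsAzumaya R (⨂[R] _ : Fin n, A)
  | 0 => IsAzumaya.of_AlgEquiv _ _ _ (zeroEquiv R A).symm
  | n + 1 => by
    have := isAzumaya_tpow n
    have : IsAzumaya R ((⨂[R] _ : Fin n, A) ⊗[R] A) :=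
      Groth.Agent.Lib.Helper85.isAzumaya_tensorProduct R _ A
    exact IsAzumaya.of_AlgEquiv _ _ _ (succEquiv R A n).symm

theorem rankAtStalk_tpow (p : PrimeSpectrum R) : ∀ n : ℕ,
    Module.rankAtStalk (⨂[R] _ : Fin n, A) p = (Module.rankAtStalk A p) ^ n
  | 0 => by
    have : Nontrivial R := p.nontrivial
    rw [Module.rankAtStalk_eq_of_equiv (zeroEquiv R A).toLinearEquiv, pow_zero,
      Module.rankAtStalk_self]
    rfl
  | n + 1 => by
    have := isAzumaya_tpow R A n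
    rw [Module.rankAtStalk_eq_of_equiv (succEquiv R A n).toLinearEquiv,
      Module.rankAtStalk_tensorProduct, Pi.mul_apply, rankAtStalk_tpow p n, pow_succ]

end Azumaya

end Groth.Agent.Lib.Helper1.AzTPow
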