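import Mathlib

set_option autoImplicit false
universe u v w
open scoped TensorProduct
open Matrix Finset Function Equiv

namespace Groth.Agent.Lib.Helper1.Kron

section Basic
variable {n : Type*} [Fintype n] [DecidableEq n] {S : Type*} [CommRing S]

/-- the iterated Kronecker product of a family of square matrices -/
def K (m : n → Matrix n n S) : Matrix (n → n) (n → n) S :=
  Matrix.of fun I J => ∏ k, m k (I k) (J k)

theorem K_apply (m : n → Matrix n n S) (I J : n → n) : K m I J = ∏ k, m k (I k) (J k) := rfl

theorem K_mul (m m' : n → Matrix n n S) : K (fun k => m k * m' k) = K m * K m' := by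
  ext I J
  rw [K_apply, Matrix.mul_apply]
  simp only [K_apply, Matrix.mul_apply, ← Finset.prod_mul_distrib]
  rw [Finset.prod_univ_sum]
  simp [Fintype.piFinset_univ]

theorem K_one : K (fun _ : n => (1 : Matrix n n S)) = 1 := by
  ext I J
  rw [K_apply]
  simp only [Matrix.one_apply]
  rw [Fintype.prod_ite_zero]
  simp only [Finset.prod_const_one]
  by_cases h : I = J
  · subst h; simp
  · rw [if_neg (fun h' => h (funext h')), if_neg h]

theorem K_map {S' : Type*} [CommRing S'] (f : S →+* S') (m : n → Matrix n n S) :
    (K m).map f = K (fun k => (m k).map f) := by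
  ext I J
  simp [K_apply, map_prod]

/-- the signature of a self-map, zero unless bijective -/
noncomputable def ε (I : n → n) : S := by
  classical
  exact if h : Function.Bijective I then ((Equiv.Perm.sign (Equiv.ofBijective I h) : ℤ) : S) else 0

theorem ε_perm (σ : Equiv.Perm n) : (ε (⇑σ) : S) = ((Equiv.Perm.sign σ : ℤ) : S) := by
  classical
  unfold ε
  rw [dif_pos σ.bijective]
  congr 3
  ext x; rfl

theorem ε_of_not_bijective {I : n → n} (h : ¬ Function.Bijective I) : (ε I : S) = 0 := by
  classical
  unfold ε
  rw [dif_neg h]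

theorem ε_id : (ε (id : n → n) : S) = 1 := by
  have := ε_perm (S := S) (1 : Equiv.Perm n)
  simpa using this

theorem sum_mul_ε (f : (n → n) → S) :
    ∑ L : n → n, f L * ε L = ∑ σ : Equiv.Perm n, f σ * ((Equiv.Perm.sign σ : ℤ) : S) := by
  classical
  calc ∑ L : n → n, f L * ε L = ∑ L : n → n with Function.Bijective L, f L * ε L := by
        refine (Finset.sum_subset (Finset.filter_subset _ _) fun L _ hL => ?_).symm
        have : ¬ Function.Bijective L := by simpa using hL
        rw [ε_of_not_bijective this, mul_zero]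
    _ = ∑ σ : Equiv.Perm n, f σ * ((Equiv.Perm.sign σ : ℤ) : S) :=
        Finset.sum_bij (fun p h => Equiv.ofBijective p (Finset.mem_filter.1 h).2)
          (fun _ _ => Finset.mem_univ _)
          (fun _ _ _ _ h => by injection h)
          (fun b _ => ⟨b, Finset.mem_filter.2 ⟨Finset.mem_univ _, b.bijective⟩,
            Equiv.coe_fn_injective rfl⟩)
          (fun p h => by
            have hb : Function.Bijective p := (Finset.mem_filter.1 h).2
            have : (ε p : S) = ((Equiv.Perm.sign (Equiv.ofBijective p hb) : ℤ) : S) := by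
              rw [← ε_perm]; rfl
            rw [this]; rfl)

theorem det_submatrix_left (u : Matrix n n S) (I : n → n) :
    (u.submatrix I id).det = ε I * u.det := by
  classical
  by_cases h : Function.Bijective I
  · have hI : I = ⇑(Equiv.ofBijective I h) := rfl
    rw [hI, ε_perm, Matrix.det_permute]
  · rw [ε_of_not_bijective h, zero_mul]
    obtain ⟨i, j, hpij, hij⟩ : ∃ i j, I i = I j ∧ i ≠ j := by
      rw [← Finite.injective_iff_bijective, Function.Injective] at h
      push Not at h
      exact h
    exact Matrix.det_zero_of_row_eq hij (by ext k; simp [hpij])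

theorem det_submatrix_right (u : Matrix n n S) (J : n → n) :
    (u.submatrix id J).det = ε J * u.det := by
  classical
  by_cases h : Function.Bijective J
  · have hJ : J = ⇑(Equiv.ofBijective J h) := rfl
    rw [hJ, ε_perm, Matrix.det_permute']
  · rw [ε_of_not_bijective h, zero_mul]
    obtain ⟨i, j, hpij, hij⟩ : ∃ i j, J i = J j ∧ i ≠ j := by
      rw [← Finite.injective_iff_bijective, Function.Injective] at h
      push Not at h
      exact h
    exact Matrix.det_zero_of_column_eq hij (by intro k; simp [hpij])

theorem K_const_mulVec_ε (u : Matrix n n S) :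
    K (fun _ => u) *ᵥ ε = u.det • (ε : (n → n) → S) := by
  ext I
  rw [Matrix.mulVec, dotProduct]
  simp only [K_apply]
  rw [sum_mul_ε (fun L => ∏ k, u (I k) (L k)), Pi.smul_apply, smul_eq_mul, mul_comm u.det,
    ← det_submatrix_left, ← Matrix.det_transpose, Matrix.det_apply']
  refine Finset.sum_congr rfl fun σ _ => ?_
  rw [mul_comm]
  rfl

theorem ε_vecMul_K_const (u : Matrix n n S) :
    (ε : (n → n) → S) ᵥ* K (fun _ => u) = u.det • (ε : (n → n) → S) := by
  ext J
  rw [Matrix.vecMul, dotProduct]
  simp only [K_apply]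
  have := sum_mul_ε (fun L => ∏ k, u (L k) (J k))
  simp only [mul_comm _ (ε _)] at this
  rw [this, Pi.smul_apply, smul_eq_mul, mul_comm u.det, ← det_submatrix_right, Matrix.det_apply']
  refine Finset.sum_congr rfl fun σ _ => ?_
  rw [mul_comm]
  rfl

/-- the antisymmetrizer, as an outer product -/
noncomputable def s : Matrix (n → n) (n → n) S := Matrix.vecMulVec ε ε

theorem K_const_mul_s_mul (u u' : Matrix n n S) (h : u * u' = 1) :
    K (fun _ => u) * s * K (fun _ => u') = s := by
  unfold s
  rw [Matrix.mul_vecMulVec, Matrix.vecMulVec_mul, K_const_mulVec_ε, ε_vecMul_K_const]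
  ext I J
  simp only [Matrix.vecMulVec_apply, Pi.smul_apply, smul_eq_mul]
  have hd : u.det * u'.det = 1 := by rw [← Matrix.det_mul, h, Matrix.det_one]
  calc u.det * ε I * (u'.det * ε J) = (u.det * u'.det) * (ε I * ε J) := by ring
    _ = ε I * ε J := by rw [hd, one_mul]

theorem s_map {S' : Type*} [CommRing S'] (f : S →+* S') :
    (s : Matrix (n → n) (n → n) S).map f = s := by
  classical
  ext I J
  simp only [s, Matrix.map_apply, Matrix.vecMulVec_apply, map_mul]
  have : ∀ L : n → n, f (ε L) = ε L := by
    intro L
    by_cases h : Function.Bijective L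
    · have hL : L = ⇑(Equiv.ofBijective L h) := rfl
      rw [hL, ε_perm, ε_perm, map_intCast]
    · rw [ε_of_not_bijective h, ε_of_not_bijective h, map_zero]
  rw [this, this]

end Basic

section Ideal
variable {n : Type*} [Fintype n] [DecidableEq n] {S : Type*} [CommRing S]

/-- `w ↦ w ⊗ ε` -/
noncomputable def colε : ((n → n) → S) →ₗ[S] Matrix (n → n) (n → n) S where
  toFun w := Matrix.vecMulVec w ε
  map_add' w w' := by
    ext I J; simp [Matrix.vecMulVec_apply, add_mul]
  map_smul' c w := by
    ext I J; simp [Matrix.vecMulVec_apply, mul_assoc]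

/-- the column indexed by the identity -/
def ev : Matrix (n → n) (n → n) S →ₗ[S] ((n → n) → S) where
  toFun m := fun I => m I id
  map_add' _ _ := rfl
  map_smul' _ _ := rfl

theorem ev_colε (w : (n → n) → S) : ev (colε w) = w := by
  ext I
  show Matrix.vecMulVec w ε I id = w I
  rw [Matrix.vecMulVec_apply, ε_id, mul_one]

theorem mul_s (h : Matrix (n → n) (n → n) S) : h * s = colε (h *ᵥ ε) := by
  unfold s
  rw [Matrix.mul_vecMulVec]
  rfl

theorem colε_ev_of_mul_s (h : Matrix (n → n) (n → n) S) : colε (ev (h * s)) = h * s := by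
  rw [mul_s, ev_colε]

theorem exists_mulVec_ε (w : (n → n) → S) :
    ∃ h : Matrix (n → n) (n → n) S, h *ᵥ ε = w := by
  refine ⟨Matrix.vecMulVec w (Pi.single id 1), ?_⟩
  rw [Matrix.vecMulVec_mulVec]
  ext I
  simp [ε_id]

theorem ev_mul_s_surjective (w : (n → n) → S) :
    ∃ h : Matrix (n → n) (n → n) S, ev (h * s) = w := by
  obtain ⟨h, hh⟩ := exists_mulVec_ε w
  exact ⟨h, by rw [mul_s, ev_colε, hh]⟩

end Ideal

section Multi
variable (R : Type*) [CommRing R] (n : Type*) [Fintype n] [DecidableEq n]
  (S : Type*) [CommRing S] [Algebra R S]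

/-- `K` as an `R`-multilinear map -/
noncomputable def Kmulti :
    MultilinearMap R (fun _ : n => Matrix n n S) (Matrix (n → n) (n → n) S) :=
  (Matrix.ofLinearEquiv R : ((n → n) → (n → n) → S) ≃ₗ[R] Matrix (n → n) (n → n) S).toLinearMap.compMultilinearMap
    (MultilinearMap.pi fun I => MultilinearMap.pi fun J =>
      (MultilinearMap.mkPiAlgebra R n S).compLinearMap
        (fun k => Matrix.entryLinearMap R S (I k) (J k)))

theorem Kmulti_apply (m : n → Matrix n n S) : Kmulti R n S m = K m := by
  ext I J
  simp [Kmulti, K_apply]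

end Multi

end Groth.Agent.Lib.Helper1.Kron
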