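import Mathlib
import Groth.Agent.Lib.Helper1.CSA.Kron
import Groth.Agent.Lib.Helper1.CSA.AzTPow
import Groth.Agent.Lib.Helper85.FibreAlgHom
import Groth.Agent.Lib.Helper85.CSAField
import Groth.Agent.Lib.Helper85.AzumayaInner

set_option autoImplicit false
universe u v w
open scoped TensorProduct
open PiTensorProduct

namespace Groth.Agent.Lib.Helper1.AzPeriod

open Groth.Agent.Lib.Helper1.Kron

section Theta
variable {R : Type u} [CommRing R] {A : Type u} [Ring A] [Algebra R A] {n : ℕ}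
  {S : Type u} [CommRing S] [Algebra R S]

/-- matrices indexed by multi-indices -/
abbrev MW (n : ℕ) (S : Type u) := Matrix (Fin n → Fin n) (Fin n → Fin n) S

/-- the tensor power of a matrix representation -/
noncomputable def Θ₀ (ϑ : A →ₐ[R] Matrix (Fin n) (Fin n) S) : (⨂[R] _ : Fin n, A) →ₐ[R] MW n S :=
  PiTensorProduct.liftAlgHom
    ((Kmulti R (Fin n) S).compLinearMap (fun _ => ϑ.toLinearMap))
    (by
      show Kmulti R (Fin n) S (fun _ => ϑ 1) = 1
      rw [Kmulti_apply]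
      simp only [map_one]
      exact K_one)
    (by
      intro x y
      show Kmulti R (Fin n) S (fun k => ϑ ((x * y) k)) =
        Kmulti R (Fin n) S (fun k => ϑ (x k)) * Kmulti R (Fin n) S (fun k => ϑ (y k))
      rw [Kmulti_apply, Kmulti_apply, Kmulti_apply, ← K_mul]
      simp only [Pi.mul_apply, map_mul])

theorem Θ₀_tprod (ϑ : A →ₐ[R] Matrix (Fin n) (Fin n) S) (a : Fin n → A) :
    Θ₀ ϑ (tprod R a) = K (fun k => ϑ (a k)) := by
  show PiTensorProduct.lift _ (tprod R a) = _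
  rw [PiTensorProduct.lift.tprod]
  exact Kmulti_apply R (Fin n) S _

/-- its `S`-linear extension -/
noncomputable def Θ (ϑ : A →ₐ[R] Matrix (Fin n) (Fin n) S) :
    S ⊗[R] (⨂[R] _ : Fin n, A) →ₐ[S] MW n S :=
  Algebra.TensorProduct.lift (Algebra.ofId S (MW n S)) (Θ₀ ϑ)
    (fun s _ => Algebra.commute_algebraMap_left s _)

theorem Θ_tmul (ϑ : A →ₐ[R] Matrix (Fin n) (Fin n) S) (s : S) (t : ⨂[R] _ : Fin n, A) :
    Θ ϑ (s ⊗ₜ[R] t) = s • Θ₀ ϑ t := by
  simp [Θ, Algebra.smul_def]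

theorem Θ_tmul_tprod (ϑ : A →ₐ[R] Matrix (Fin n) (Fin n) S) (s : S) (a : Fin n → A) :
    Θ ϑ (s ⊗ₜ[R] tprod R a) = s • K (fun k => ϑ (a k)) := by
  rw [Θ_tmul, Θ₀_tprod]

end Theta

section Natural
variable {R : Type u} [CommRing R] {A : Type u} [Ring A] [Algebra R A] {n : ℕ}
  {S : Type u} [CommRing S] [Algebra R S] {S₂ : Type u} [CommRing S₂] [Algebra R S₂]

theorem Θ₀_map (f : S →ₐ[R] S₂) (ϑ : A →ₐ[R] Matrix (Fin n) (Fin n) S)
    (t : ⨂[R] _ : Fin n, A) :
    f.mapMatrix (Θ₀ ϑ t) = Θ₀ (f.mapMatrix.comp ϑ) t := by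
  induction t using PiTensorProduct.induction_on with
  | smul_tprod r a =>
    rw [map_smul, map_smul, map_smul, Θ₀_tprod, Θ₀_tprod, AlgHom.mapMatrix_apply]
    congr 1
    exact K_map f.toRingHom _
  | add x y hx hy => rw [map_add, map_add, map_add, hx, hy]

theorem Θ_map (f : S →ₐ[R] S₂) (ϑ : A →ₐ[R] Matrix (Fin n) (Fin n) S)
    (z : S ⊗[R] (⨂[R] _ : Fin n, A)) :
    f.mapMatrix (Θ ϑ z) =
      Θ (f.mapMatrix.comp ϑ) (Algebra.TensorProduct.map f (AlgHom.id R _) z) := by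
  induction z using TensorProduct.induction_on with
  | zero => simp
  | add x y hx hy => rw [map_add, map_add, map_add, map_add, hx, hy]
  | tmul s t =>
    rw [Algebra.TensorProduct.map_tmul, Θ_tmul, Θ_tmul, AlgHom.id_apply, ← Θ₀_map]
    ext I J
    simp [AlgHom.mapMatrix_apply]

end Natural

section Conj
variable {R : Type u} [CommRing R] {A : Type u} [Ring A] [Algebra R A] {n : ℕ}
  {S : Type u} [CommRing S] [Algebra R S]

/-- conjugating the representation conjugates its tensor power by the Kronecker power -/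
theorem Θ_conj (ϑ₁ ϑ₂ : A →ₐ[R] Matrix (Fin n) (Fin n) S) (u u' : Matrix (Fin n) (Fin n) S)
    (h : ∀ a, ϑ₂ a = u * ϑ₁ a * u') (z : S ⊗[R] (⨂[R] _ : Fin n, A)) :
    Θ ϑ₂ z = K (fun _ => u) * Θ ϑ₁ z * K (fun _ => u') := by
  induction z using TensorProduct.induction_on with
  | zero => simp
  | add x y hx hy => rw [map_add, map_add, hx, hy, mul_add, add_mul]
  | tmul s t =>
    induction t using PiTensorProduct.induction_on with
    | smul_tprod r a =>
      rw [TensorProduct.tmul_smul, TensorProduct.smul_tmul', Θ_tmul_tprod, Θ_tmul_tprod]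
      simp only [h, K_mul]
      rw [Matrix.mul_smul, Matrix.smul_mul]
    | add x y hx hy =>
      rw [TensorProduct.tmul_add, map_add, map_add, hx, hy, mul_add, add_mul]

end Conj

section Bij
open Groth.Agent.Lib.Helper85
variable (R : Type u) [CommRing R] (A : Type u) [Ring A] [Algebra R A] [IsAzumaya R A] (n : ℕ)
  (hrk : ∀ p : PrimeSpectrum R, Module.rankAtStalk (R := R) A p = n ^ 2)
  (S : Type u) [CommRing S] [Algebra R S]

include hrk in
theorem Θ_bijective (ϑ : A →ₐ[R] Matrix (Fin n) (Fin n) S) : Function.Bijective (Θ ϑ) := by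
  have hT : IsAzumaya R (⨂[R] _ : Fin n, A) := AzTPow.isAzumaya_tpow R A n
  have hST : IsAzumaya S (S ⊗[R] (⨂[R] _ : Fin n, A)) := isAzumaya_baseChange R S _
  refine algHom_bijective_of_fibres S (Θ ϑ) fun p => ?_
  have : Nontrivial S := p.nontrivial
  have hnn : 0 < n ^ n := by
    rcases Nat.eq_zero_or_pos n with rfl | h
    · simp
    · positivity
  have hMW : Module.finrank p.asIdeal.ResidueField (p.asIdeal.ResidueField ⊗[S] MW n S) =
      (n ^ n) ^ 2 := by
    rw [Module.finrank_baseChange, Module.finrank_matrix]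
    simp [pow_two]
  refine ⟨?_, ?_, ?_⟩
  · have : IsAzumaya p.asIdeal.ResidueField
        (p.asIdeal.ResidueField ⊗[S] (S ⊗[R] (⨂[R] _ : Fin n, A))) :=
      isAzumaya_baseChange S _ _
    exact isSimpleRing_of_isAzumaya p.asIdeal.ResidueField _
  · apply Module.nontrivial_of_finrank_pos (R := p.asIdeal.ResidueField)
    rw [hMW]
    positivity
  · rw [hMW]
    have h1 := Module.rankAtStalk_eq (R := S) (M := S ⊗[R] (⨂[R] _ : Fin n, A)) p
    rw [← h1, Module.rankAtStalk_baseChange, AzTPow.rankAtStalk_tpow, hrk, ← pow_mul, ← pow_mul,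
      mul_comm]

end Bij

section Inner
open Groth.Agent.Lib.Helper85
variable (R : Type u) [CommRing R] (A : Type u) [Ring A] [Algebra R A] [IsAzumaya R A] (n : ℕ)
  (hrk : ∀ p : PrimeSpectrum R, Module.rankAtStalk (R := R) A p = n ^ 2)
  (L : Type u) [CommRing L] [Algebra R L]

/-- the linear extension of a matrix representation -/
noncomputable def θlin (ϑ : A →ₐ[R] Matrix (Fin n) (Fin n) L) :
    L ⊗[R] A →ₐ[L] Matrix (Fin n) (Fin n) L :=
  Algebra.TensorProduct.lift (Algebra.ofId L _) ϑ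
    (fun s _ => Algebra.commute_algebraMap_left s _)

theorem θlin_one_tmul (ϑ : A →ₐ[R] Matrix (Fin n) (Fin n) L) (a : A) :
    θlin R A n L ϑ (1 ⊗ₜ[R] a) = ϑ a := by
  simp [θlin]

include hrk in
theorem θlin_bijective (hn : 0 < n) (ϑ : A →ₐ[R] Matrix (Fin n) (Fin n) L) :
    Function.Bijective (θlin R A n L ϑ) := by
  have hLA : IsAzumaya L (L ⊗[R] A) := isAzumaya_baseChange R L _
  refine algHom_bijective_of_fibres L (θlin R A n L ϑ) fun p => ?_
  have : Nontrivial L := p.nontrivial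
  have hM : Module.finrank p.asIdeal.ResidueField
      (p.asIdeal.ResidueField ⊗[L] Matrix (Fin n) (Fin n) L) = n ^ 2 := by
    rw [Module.finrank_baseChange, Module.finrank_matrix]
    simp [pow_two]
  refine ⟨?_, ?_, ?_⟩
  · have : IsAzumaya p.asIdeal.ResidueField (p.asIdeal.ResidueField ⊗[L] (L ⊗[R] A)) :=
      isAzumaya_baseChange L _ _
    exact isSimpleRing_of_isAzumaya p.asIdeal.ResidueField _
  · apply Module.nontrivial_of_finrank_pos (R := p.asIdeal.ResidueField)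
    rw [hM]
    positivity
  · rw [hM]
    have h1 := Module.rankAtStalk_eq (R := L) (M := L ⊗[R] A) p
    rw [← h1, Module.rankAtStalk_baseChange, hrk]

include hrk in
theorem exists_conj [IsLocalRing L] (hn : 0 < n) (ϑ₁ ϑ₂ : A →ₐ[R] Matrix (Fin n) (Fin n) L) :
    ∃ u u' : Matrix (Fin n) (Fin n) L, u * u' = 1 ∧ ∀ a, ϑ₂ a = u * ϑ₁ a * u' := by
  have : Nonempty (Fin n) := ⟨⟨0, hn⟩⟩
  have : IsAzumaya L (Matrix (Fin n) (Fin n) L) := IsAzumaya.matrix L (Fin n)
  let e₁ : L ⊗[R] A ≃ₐ[L] Matrix (Fin n) (Fin n) L :=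
    AlgEquiv.ofBijective (θlin R A n L ϑ₁) (θlin_bijective R A n hrk L hn ϑ₁)
  let φ : Matrix (Fin n) (Fin n) L →ₐ[L] Matrix (Fin n) (Fin n) L :=
    (θlin R A n L ϑ₂).comp e₁.symm.toAlgHom
  obtain ⟨c, hc⟩ := exists_unit_conj_of_algHom L (Matrix (Fin n) (Fin n) L) φ
  refine ⟨c, (c⁻¹ : (Matrix (Fin n) (Fin n) L)ˣ), Units.mul_inv c, fun a => ?_⟩
  rw [← hc, ← θlin_one_tmul R A n L ϑ₁ a]
  show ϑ₂ a = θlin R A n L ϑ₂ (e₁.symm (e₁ (1 ⊗ₜ[R] a)))
  rw [AlgEquiv.symm_apply_apply, θlin_one_tmul]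

end Inner

section Key
variable (R : Type u) [CommRing R] (A : Type u) [Ring A] [Algebra R A] [IsAzumaya R A] (n : ℕ)
  (hrk : ∀ p : PrimeSpectrum R, Module.rankAtStalk (R := R) A p = n ^ 2)

include hrk in
/-- the preimage of the antisymmetrizer does not depend on the representation -/
theorem Θ_eq_s_of_Θ_eq_s (hn : 0 < n) (S' : Type u) [CommRing S'] [Algebra R S']
    (ϑ₁ ϑ₂ : A →ₐ[R] Matrix (Fin n) (Fin n) S') (z : S' ⊗[R] (⨂[R] _ : Fin n, A))
    (h : Θ ϑ₁ z = s) : Θ ϑ₂ z = s := by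
  ext I J
  rw [← sub_eq_zero]
  apply eq_zero_of_localization
  intro m hm
  have := hm.isPrime
  let lam : S' →ₐ[R] Localization.AtPrime m := IsScalarTower.toAlgHom R S' _
  obtain ⟨u, u', huu', hconj⟩ := exists_conj R A n hrk (Localization.AtPrime m) hn
    (lam.mapMatrix.comp ϑ₁) (lam.mapMatrix.comp ϑ₂)
  have key : lam.mapMatrix (Θ ϑ₂ z) = lam.mapMatrix s := by
    rw [Θ_map, Θ_conj _ _ u u' hconj, ← Θ_map, h, AlgHom.mapMatrix_apply]
    have hs : (s : MW n S').map lam = s := s_map lam.toRingHom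
    rw [hs]
    exact K_const_mul_s_mul u u' huu'
  have h2 := congrFun (congrFun key I) J
  simp only [AlgHom.mapMatrix_apply, Matrix.map_apply] at h2
  rw [map_sub]
  exact sub_eq_zero.mpr h2

end Key

section Descent
variable (R : Type u) [CommRing R] (A : Type u) [Ring A] [Algebra R A] [IsAzumaya R A] (n : ℕ)
  (hrk : ∀ p : PrimeSpectrum R, Module.rankAtStalk (R := R) A p = n ^ 2)
  (S : Type u) [CommRing S] [Algebra R S] [Module.FaithfullyFlat R S]

omit [IsAzumaya R A] [Module.FaithfullyFlat R S] in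
theorem rTensor_eq_map {S₂ : Type u} [CommRing S₂] [Algebra R S₂] (j : S →ₐ[R] S₂)
    (z : S ⊗[R] (⨂[R] _ : Fin n, A)) :
    j.toLinearMap.rTensor (⨂[R] _ : Fin n, A) z =
      Algebra.TensorProduct.map j (AlgHom.id R _) z := by
  induction z using TensorProduct.induction_on with
  | zero => simp
  | add x y hx hy => rw [map_add, map_add, hx, hy]
  | tmul s t => rfl

include hrk in
/-- the antisymmetrizer descends to the tensor power of `A` -/
theorem exists_descent (hn : 0 < n) (ϑ : A →ₐ[R] Matrix (Fin n) (Fin n) S) :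
    ∃ t : ⨂[R] _ : Fin n, A, Θ ϑ (1 ⊗ₜ[R] t) = s := by
  have hT : IsAzumaya R (⨂[R] _ : Fin n, A) := AzTPow.isAzumaya_tpow R A n
  obtain ⟨z, hz⟩ := (Θ_bijective R A n hrk S ϑ).2 s
  let j₁ : S →ₐ[R] S ⊗[R] S := Algebra.TensorProduct.includeLeft
  let j₂ : S →ₐ[R] S ⊗[R] S := Algebra.TensorProduct.includeRight
  have h1 : Θ (j₁.mapMatrix.comp ϑ) (Algebra.TensorProduct.map j₁ (AlgHom.id R _) z) = s := by
    rw [← Θ_map, hz, AlgHom.mapMatrix_apply]
    exact s_map j₁.toRingHom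
  have h2 : Θ (j₂.mapMatrix.comp ϑ) (Algebra.TensorProduct.map j₂ (AlgHom.id R _) z) = s := by
    rw [← Θ_map, hz, AlgHom.mapMatrix_apply]
    exact s_map j₂.toRingHom
  have h3 := Θ_eq_s_of_Θ_eq_s R A n hrk hn (S ⊗[R] S) (j₁.mapMatrix.comp ϑ)
    (j₂.mapMatrix.comp ϑ) _ h1
  have heq : Algebra.TensorProduct.map j₁ (AlgHom.id R _) z =
      Algebra.TensorProduct.map j₂ (AlgHom.id R _) z :=
    (Θ_bijective R A n hrk (S ⊗[R] S) (j₂.mapMatrix.comp ϑ)).1 (h3.trans h2.symm)
  have hex := Module.Flat.rTensor_exact (⨂[R] _ : Fin n, A)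
    (Algebra.IsEffective.of_faithfullyFlat R S)
  have hz0 : (Algebra.TensorProduct.includeLeftSubRight R S).rTensor (⨂[R] _ : Fin n, A) z = 0 := by
    have : Algebra.TensorProduct.includeLeftSubRight R S = j₁.toLinearMap - j₂.toLinearMap := rfl
    rw [this, LinearMap.rTensor_sub, LinearMap.sub_apply, rTensor_eq_map, rTensor_eq_map, heq,
      sub_self]
  obtain ⟨y, hy⟩ := (hex z).mp hz0
  refine ⟨TensorProduct.lid R _ y, ?_⟩
  have gen : ∀ y : R ⊗[R] (⨂[R] _ : Fin n, A),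
      (1 : S) ⊗ₜ[R] (TensorProduct.lid R (⨂[R] _ : Fin n, A) y) =
        (Algebra.linearMap R S).rTensor (⨂[R] _ : Fin n, A) y := by
    intro y
    induction y using TensorProduct.induction_on with
    | zero => simp
    | add a b ha hb => rw [map_add, TensorProduct.tmul_add, ha, hb, map_add]
    | tmul r t =>
      rw [TensorProduct.lid_tmul, LinearMap.rTensor_tmul, Algebra.linearMap_apply,
        TensorProduct.tmul_smul, TensorProduct.smul_tmul', Algebra.algebraMap_eq_smul_one]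
  have hy2 : (1 : S) ⊗ₜ[R] (TensorProduct.lid R (⨂[R] _ : Fin n, A) y) = z := by
    rw [gen, hy]
  rw [hy2, hz]

end Descent

end Groth.Agent.Lib.Helper1.AzPeriod
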