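import Mathlib
import Groth.Agent.S5720

set_option autoImplicit false
universe u v w
open scoped TensorProduct

namespace Groth.Agent.Lib.Helper1.AzSplitGlobal

section PiMatrix
variable {R : Type*} [CommRing R] {A : Type*} [Ring A] [Algebra R A]
  {ι : Type*} {S : ι → Type*} [∀ i, CommRing (S i)] [∀ i, Algebra R (S i)]
  {m : Type*} [Fintype m] [DecidableEq m]

/-- a family of matrix representations over the factors gives one over the product -/
def piMatrixAlgHom (ϑ : ∀ i, A →ₐ[R] Matrix m m (S i)) : A →ₐ[R] Matrix m m (∀ i, S i) where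
  toFun a := Matrix.of fun j k i => ϑ i a j k
  map_one' := by
    ext j k i
    simp only [Matrix.of_apply, map_one, Matrix.one_apply]
    split_ifs <;> rfl
  map_mul' a b := by
    ext j k i
    simp only [Matrix.of_apply, map_mul, Matrix.mul_apply, Finset.sum_apply, Pi.mul_apply]
  map_zero' := by
    ext j k i
    simp
  map_add' a b := by
    ext j k i
    simp
  commutes' r := by
    ext j k i
    simp only [Matrix.of_apply, AlgHom.commutes, Matrix.algebraMap_matrix_apply]
    split_ifs <;> rfl

end PiMatrix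

section Local
variable (R : Type u) [CommRing R] (A : Type u) [Ring A] [Algebra R A] [IsAzumaya R A]
  (n : ℕ) (hrk : ∀ p : PrimeSpectrum R, Module.rankAtStalk (R := R) A p = n ^ 2)

include hrk in
theorem exists_local_splitting (p : PrimeSpectrum R) :
    ∃ f : R, f ∉ p.asIdeal ∧ ∃ (R' : Type u) (_ : CommRing R') (_ : Algebra R R'),
      Module.Flat R R' ∧
      (∀ 𝔭 : PrimeSpectrum R, f ∉ 𝔭.asIdeal →
        ∃ q : PrimeSpectrum R', q.comap (algebraMap R R') = 𝔭) ∧
      Nonempty (A →ₐ[R] Matrix (Fin n) (Fin n) R') := by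
  obtain ⟨f, hf, R', _, _, _, _, _, _, hff, r, hr, ⟨θ⟩⟩ := Groth.Agent.S5720.result R A p.asIdeal
  have hflat : Module.Flat R R' := by
    have : Module.Flat R (Localization.Away f) := IsLocalization.flat _ (Submonoid.powers f)
    exact Module.Flat.trans R (Localization.Away f) R'
  have hsurj : ∀ 𝔭 : PrimeSpectrum R, f ∉ 𝔭.asIdeal →
      ∃ q : PrimeSpectrum R', q.comap (algebraMap R R') = 𝔭 := by
    intro 𝔭 h𝔭
    have hdisj : Disjoint (Submonoid.powers f : Set R) (𝔭.asIdeal : Set R) := by
      rw [Set.disjoint_left]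
      rintro x ⟨k, rfl⟩ hx
      exact h𝔭 (𝔭.isPrime.mem_of_pow_mem k hx)
    let P : Ideal (Localization.Away f) := Ideal.map (algebraMap R (Localization.Away f)) 𝔭.asIdeal
    have hP : P.IsPrime :=
      IsLocalization.isPrime_of_isPrime_disjoint (Submonoid.powers f) _ _ 𝔭.isPrime hdisj
    have hPc : P.comap (algebraMap R (Localization.Away f)) = 𝔭.asIdeal :=
      IsLocalization.under_map_of_isPrime_disjoint (Submonoid.powers f) _ 𝔭.isPrime hdisj
    obtain ⟨q, hq⟩ := PrimeSpectrum.comap_surjective_of_faithfullyFlat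
      (A := Localization.Away f) (B := R') ⟨P, hP⟩
    refine ⟨q, ?_⟩
    ext x
    have h1 : algebraMap R R' x = algebraMap (Localization.Away f) R'
        (algebraMap R (Localization.Away f) x) := IsScalarTower.algebraMap_apply _ _ _ _
    have h2 := congrArg PrimeSpectrum.asIdeal hq
    simp only [PrimeSpectrum.comap_asIdeal] at h2 ⊢
    rw [Ideal.mem_comap, h1, ← Ideal.mem_comap, h2, ← hPc, Ideal.mem_comap]
  refine ⟨f, hf, R', inferInstance, inferInstance, hflat, hsurj, ?_⟩
  -- the rank is `n`
  obtain ⟨q, hq⟩ := hsurj p hf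
  have h1 : Module.rankAtStalk (R' ⊗[R] A) q = n ^ 2 := by
    rw [Module.rankAtStalk_baseChange, hrk]
  have h2 : Module.rankAtStalk (R' ⊗[R] A) q = r ^ 2 := by
    have : Nontrivial R' := q.nontrivial
    rw [Module.rankAtStalk_eq_of_equiv θ.toLinearEquiv, Module.rankAtStalk_eq_finrank_of_free,
      Pi.natCast_def]
    simp [Module.finrank_matrix, pow_two]
  obtain rfl : r = n := by
    have : r ^ 2 = n ^ 2 := by rw [← h1, ← h2]
    exact Nat.pow_left_injective (by norm_num : 2 ≠ 0) this
  exact ⟨(θ.toAlgHom.restrictScalars R).comp Algebra.TensorProduct.includeRight⟩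

end Local

section Global
variable (R : Type u) [CommRing R] (A : Type u) [Ring A] [Algebra R A] [IsAzumaya R A]
  (n : ℕ) (hrk : ∀ p : PrimeSpectrum R, Module.rankAtStalk (R := R) A p = n ^ 2)

include hrk in
theorem exists_faithfullyFlat_splitting :
    ∃ (S : Type u) (_ : CommRing S) (_ : Algebra R S), Module.FaithfullyFlat R S ∧
      Nonempty (A →ₐ[R] Matrix (Fin n) (Fin n) S) := by
  classical
  choose f hf R' instCR instAlg hflat hsurj hϑ using exists_local_splitting R A n hrk
  have hspan : Ideal.span (Set.range f) = ⊤ := by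
    by_contra h
    obtain ⟨m, hm, hle⟩ := Ideal.exists_le_maximal _ h
    exact hf ⟨m, hm.isPrime⟩ (hle (Ideal.subset_span ⟨_, rfl⟩))
  have h1 : (1 : R) ∈ Ideal.span (Set.range f) := hspan ▸ Submodule.mem_top
  obtain ⟨c, hc⟩ := Finsupp.mem_ideal_span_range_iff_exists_finsupp.mp h1
  let F : Finset (PrimeSpectrum R) := c.support
  let S : Type u := ∀ i : F, R' i.1
  have hflatS : Module.Flat R S :=
    Module.Flat.of_linearEquiv
      (DFinsupp.linearEquivFunOnFintype (R := R) (M := fun i : F => R' i.1)).symm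
  have hcomap : Function.Surjective (PrimeSpectrum.comap (algebraMap R S)) := by
    intro 𝔭
    have hex : ∃ i ∈ F, f i ∉ 𝔭.asIdeal := by
      by_contra hcon
      push Not at hcon
      have : (1 : R) ∈ 𝔭.asIdeal := by
        rw [← hc, Finsupp.sum]
        exact Ideal.sum_mem _ fun i hi => Ideal.mul_mem_left _ _ (hcon i hi)
      exact 𝔭.isPrime.ne_top (Ideal.eq_top_of_isUnit_mem _ this isUnit_one)
    obtain ⟨i, hi, hfi⟩ := hex
    obtain ⟨q', hq'⟩ := hsurj i 𝔭 hfi
    refine ⟨q'.comap (Pi.evalRingHom (fun j : F => R' j.1) ⟨i, hi⟩), ?_⟩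
    ext x
    have h2 := congrArg PrimeSpectrum.asIdeal hq'
    simp only [PrimeSpectrum.comap_asIdeal] at h2 ⊢
    rw [← h2]
    rfl
  have hff : Module.FaithfullyFlat R S := Module.FaithfullyFlat.of_comap_surjective hcomap
  exact ⟨S, inferInstance, inferInstance, hff,
    ⟨piMatrixAlgHom (fun i : F => (hϑ i.1).some)⟩⟩

end Global

end Groth.Agent.Lib.Helper1.AzSplitGlobal
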