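import Mathlib
import Groth.Agent.Lib.Helper1.CSA.AzPeriod
import Groth.Agent.Lib.Helper1.CSA.AzCorner
import Groth.Agent.Lib.Helper85.AzumayaDescent
import Groth.Agent.Lib.Helper85.AzumayaEnd
import Groth.Agent.Lib.Helper85.HomBaseChange
import Groth.Agent.Lib.Helper1.CSA.AzSplitGlobal

set_option autoImplicit false
universe u v w
open scoped TensorProduct
open PiTensorProduct

namespace Groth.Agent.Lib.Helper1.AzPeriod

open Groth.Agent.Lib.Helper1.Kron Groth.Agent.Lib.Helper1.AzCorner

section Module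
variable (R : Type u) [CommRing R] (A : Type u) [Ring A] [Algebra R A] [IsAzumaya R A] (n : ℕ)
  (hrk : ∀ p : PrimeSpectrum R, Module.rankAtStalk (R := R) A p = n ^ 2)
  (S : Type u) [CommRing S] [Algebra R S]
  (ϑ : A →ₐ[R] Matrix (Fin n) (Fin n) S) (t₀ : ⨂[R] _ : Fin n, A)

/-- the comparison map from the base change of the left ideal to the standard module -/
noncomputable def F : S ⊗[R] Lid R t₀ →ₗ[S] ((Fin n → Fin n) → S) :=
  ev ∘ₗ (Θ ϑ).toLinearMap ∘ₗ (Lid R t₀).subtype.baseChange S

variable {R A n S}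

theorem incl_πL (z : S ⊗[R] (⨂[R] _ : Fin n, A)) :
    (Lid R t₀).subtype.baseChange S ((πL R t₀).baseChange S z) = z * (1 ⊗ₜ[R] t₀) := by
  induction z using TensorProduct.induction_on with
  | zero => simp
  | add x y hx hy => rw [map_add, map_add, hx, hy, add_mul]
  | tmul c a =>
    rw [LinearMap.baseChange_tmul, LinearMap.baseChange_tmul, Submodule.subtype_apply, πL_val,
      Algebra.TensorProduct.tmul_mul_tmul, mul_one]

theorem exists_Θ_incl (h0 : Θ ϑ (1 ⊗ₜ[R] t₀) = s) (y : S ⊗[R] Lid R t₀) :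
    ∃ h : MW n S, Θ ϑ ((Lid R t₀).subtype.baseChange S y) = h * s := by
  induction y using TensorProduct.induction_on with
  | zero => exact ⟨0, by simp⟩
  | add x y hx hy =>
    obtain ⟨h₁, e₁⟩ := hx
    obtain ⟨h₂, e₂⟩ := hy
    exact ⟨h₁ + h₂, by rw [map_add, map_add, e₁, e₂, add_mul]⟩
  | tmul c x =>
    obtain ⟨x', a, ha⟩ := x
    refine ⟨Θ ϑ (c ⊗ₜ[R] a), ?_⟩
    rw [LinearMap.baseChange_tmul, Submodule.subtype_apply, ← h0, ← map_mul,
      Algebra.TensorProduct.tmul_mul_tmul, mul_one]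
    congr 2
    exact ha.symm

end Module

section FBij
variable {R : Type u} [CommRing R] {A : Type u} [Ring A] [Algebra R A] [IsAzumaya R A] {n : ℕ}
  (hrk : ∀ p : PrimeSpectrum R, Module.rankAtStalk (R := R) A p = n ^ 2)
  {S : Type u} [CommRing S] [Algebra R S] [Module.Flat R S]
  (ϑ : A →ₐ[R] Matrix (Fin n) (Fin n) S) (t₀ : ⨂[R] _ : Fin n, A)

include hrk in
theorem F_bijective (h0 : Θ ϑ (1 ⊗ₜ[R] t₀) = s) : Function.Bijective (F R A n S ϑ t₀) := by
  have hΘ := Θ_bijective R A n hrk S ϑ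
  constructor
  · rw [injective_iff_map_eq_zero]
    intro y hy
    obtain ⟨h, hh⟩ := exists_Θ_incl ϑ t₀ h0 y
    have h1 : ev (h * s) = 0 := by
      rw [← hh]; exact hy
    have h2 : h * s = 0 := by rw [← colε_ev_of_mul_s, h1, map_zero]
    have h3 : (Lid R t₀).subtype.baseChange S y = 0 := by
      apply hΘ.1
      rw [hh, h2, map_zero]
    have hinj : Function.Injective ((Lid R t₀).subtype.baseChange S) :=
      Module.Flat.lTensor_preserves_injective_linearMap (M := S) (Lid R t₀).subtype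
        Subtype.val_injective
    exact hinj (by rw [h3, map_zero])
  · intro w
    obtain ⟨h, hh⟩ := ev_mul_s_surjective w
    obtain ⟨z, hz⟩ := hΘ.2 h
    refine ⟨(πL R t₀).baseChange S z, ?_⟩
    show ev (Θ ϑ ((Lid R t₀).subtype.baseChange S ((πL R t₀).baseChange S z))) = w
    rw [incl_πL, map_mul, h0, hz, hh]

end FBij

section RankEnd
variable {R : Type u} [CommRing R] (E : Type v) [AddCommGroup E] [Module R E]
  [Module.Finite R E] [Module.Projective R E]

attribute [local instance] Module.free_of_flat_of_isLocalRing in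
theorem rankAtStalk_end (p : PrimeSpectrum R) :
    Module.rankAtStalk (Module.End R E) p = (Module.rankAtStalk E p) ^ 2 := by
  let Rp := Localization.AtPrime p.asIdeal
  have hb := Groth.Agent.Lib.Helper85.tensorProduct_bijective_of_finite_projective R Rp E E
  let e : Rp ⊗[R] (E →ₗ[R] E) ≃ₗ[Rp] (Rp ⊗[R] E →ₗ[Rp] Rp ⊗[R] E) :=
    LinearEquiv.ofBijective (LinearMap.tensorProduct R Rp E E) hb
  rw [Module.rankAtStalk_eq_finrank_tensorProduct, Module.rankAtStalk_eq_finrank_tensorProduct]
  show Module.finrank Rp (Rp ⊗[R] (E →ₗ[R] E)) = _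
  rw [e.finrank_eq, Module.finrank_linearMap, pow_two]

end RankEnd

section Final
variable {R : Type u} [CommRing R] {A : Type u} [Ring A] [Algebra R A] [IsAzumaya R A] {n : ℕ}
  (hrk : ∀ p : PrimeSpectrum R, Module.rankAtStalk (R := R) A p = n ^ 2)
  {S : Type u} [CommRing S] [Algebra R S] [Module.FaithfullyFlat R S]
  (ϑ : A →ₐ[R] Matrix (Fin n) (Fin n) S) (t₀ : ⨂[R] _ : Fin n, A)

include hrk in
theorem Lid_props (h0 : Θ ϑ (1 ⊗ₜ[R] t₀) = s) :
    Module.Finite R (Lid R t₀) ∧ Module.Projective R (Lid R t₀) ∧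
      ∀ p : PrimeSpectrum R, Module.rankAtStalk (R := R) (Lid R t₀) p = n ^ n := by
  let e : S ⊗[R] Lid R t₀ ≃ₗ[S] ((Fin n → Fin n) → S) :=
    LinearEquiv.ofBijective (F R A n S ϑ t₀) (F_bijective hrk ϑ t₀ h0)
  have hfin : Module.Finite S (S ⊗[R] Lid R t₀) := Module.Finite.equiv e.symm
  have hproj : Module.Projective S (S ⊗[R] Lid R t₀) := Module.Projective.of_equiv e.symm
  obtain ⟨h1, h2⟩ :=
    Groth.Agent.Lib.Helper85.finite_projective_of_tensorProduct_of_faithfullyFlat R S (Lid R t₀)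
  refine ⟨h1, h2, fun p => ?_⟩
  obtain ⟨q, hq⟩ := PrimeSpectrum.comap_surjective_of_faithfullyFlat (A := R) (B := S) p
  have : Nontrivial S := q.nontrivial
  rw [← hq, ← Module.rankAtStalk_baseChange, Module.rankAtStalk_eq_of_equiv e,
    Module.rankAtStalk_eq_finrank_of_free]
  simp

end Final

section Main
open Groth.Agent.Lib.Helper85
variable (R : Type u) [CommRing R] (A : Type u) [Ring A] [Algebra R A] [IsAzumaya R A] (n : ℕ)
  (hrk : ∀ p : PrimeSpectrum R, Module.rankAtStalk (R := R) A p = n ^ 2)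

include hrk in
theorem tensorPower_algEquiv_end_pos (hn : 0 < n) :
    ∃ (E : Type u) (_ : AddCommGroup E) (_ : Module R E), Module.Finite R E ∧
      Module.Projective R E ∧
      (∀ p : PrimeSpectrum R, Module.rankAtStalk (R := R) E p = n ^ n) ∧
      Nonempty ((⨂[R] _ : Fin n, A) ≃ₐ[R] Module.End R E) := by
  obtain ⟨S, _, _, hff, ⟨ϑ⟩⟩ := AzSplitGlobal.exists_faithfullyFlat_splitting R A n hrk
  obtain ⟨t₀, h0⟩ := exists_descent R A n hrk S hn ϑ
  obtain ⟨hfin, hproj, hrank⟩ := Lid_props hrk ϑ t₀ h0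
  have hnn : 0 < n ^ n := by positivity
  have hfaith : FaithfulSMul R (Lid R t₀) :=
    faithfulSMul_of_rankAtStalk_pos (Lid R t₀) (fun p => by rw [hrank p]; exact hnn)
  have hT : IsAzumaya R (⨂[R] _ : Fin n, A) := AzTPow.isAzumaya_tpow R A n
  have hEnd : IsAzumaya R (Module.End R (Lid R t₀)) := isAzumaya_end R (Lid R t₀)
  refine ⟨Lid R t₀, inferInstance, inferInstance, hfin, hproj, hrank, ⟨?_⟩⟩
  refine AlgEquiv.ofBijective (lA R t₀) ?_
  refine algHom_bijective_of_fibres R (B := ⨂[R] _ : Fin n, A)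
    (C := Module.End R (Lid R t₀)) (lA R t₀) fun p => ?_
  have hE2 : Module.finrank p.asIdeal.ResidueField
      (p.asIdeal.ResidueField ⊗[R] Module.End R (Lid R t₀)) = (n ^ n) ^ 2 := by
    have h1 := Module.rankAtStalk_eq (R := R) (M := Module.End R (Lid R t₀)) p
    rw [← h1, rankAtStalk_end, hrank]
  refine ⟨?_, ?_, ?_⟩
  · have : IsAzumaya p.asIdeal.ResidueField
        (p.asIdeal.ResidueField ⊗[R] (⨂[R] _ : Fin n, A)) := isAzumaya_baseChange R _ _
    exact isSimpleRing_of_isAzumaya p.asIdeal.ResidueField _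
  · apply Module.nontrivial_of_finrank_pos (R := p.asIdeal.ResidueField)
    rw [hE2]
    positivity
  · rw [hE2]
    have h1 := Module.rankAtStalk_eq (R := R) (M := ⨂[R] _ : Fin n, A) p
    rw [← h1, AzTPow.rankAtStalk_tpow, hrk, ← pow_mul, ← pow_mul, mul_comm]

include hrk in
theorem tensorPower_algEquiv_end :
    ∃ (E : Type u) (_ : AddCommGroup E) (_ : Module R E), Module.Finite R E ∧
      Module.Projective R E ∧
      (∀ p : PrimeSpectrum R, Module.rankAtStalk (R := R) E p = n ^ n) ∧
      Nonempty ((⨂[R] _ : Fin n, A) ≃ₐ[R] Module.End R E) := by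
  rcases Nat.eq_zero_or_pos n with rfl | hn
  · -- the base ring is trivial
    have hA : Subsingleton A := by
      rw [← Module.rankAtStalk_eq_zero_iff_subsingleton (R := R)]
      ext p
      rw [hrk p]; rfl
    have hR : Subsingleton R := by
      refine ⟨fun a b => ?_⟩
      exact FaithfulSMul.eq_of_smul_eq_smul (α := A) fun x => Subsingleton.elim _ _
    have hsub : ∀ (M : Type u) [AddCommGroup M] [Module R M], Subsingleton M :=
      fun M _ _ => Module.subsingleton R M
    have h1 : Subsingleton (⨂[R] _ : Fin 0, A) := hsub _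
    have h2 : Subsingleton (Module.End R R) := hsub _
    refine ⟨R, inferInstance, inferInstance, inferInstance, inferInstance, fun p => ?_, ⟨?_⟩⟩
    · exact absurd hR (not_subsingleton_iff_nontrivial.mpr p.nontrivial)
    · exact
        { toFun := fun _ => 0
          invFun := fun _ => 0
          left_inv := fun _ => Subsingleton.elim _ _
          right_inv := fun _ => Subsingleton.elim _ _
          map_mul' := fun _ _ => Subsingleton.elim _ _
          map_add' := fun _ _ => Subsingleton.elim _ _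
          commutes' := fun _ => Subsingleton.elim _ _ }
  · exact tensorPower_algEquiv_end_pos R A n hrk hn

end Main

end Groth.Agent.Lib.Helper1.AzPeriod
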