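import Groth.Agent.Lib.Helper1.CSA.SkolemNoether
import Mathlib.Algebra.Algebra.Subalgebra.Centralizer
import Mathlib.Algebra.Central.End
import Mathlib.LinearAlgebra.FreeModule.Finite.Matrix

set_option autoImplicit false
universe u v w
open scoped TensorProduct
open MulOpposite

namespace Groth.Agent.Lib.Helper1

section CentralTensor

variable {k : Type u} [Field k] {A : Type v} [Ring A] [Algebra k A]
  {B : Type w} [Ring B] [Algebra k B]

/-- Every element of `A ⊗ (⊥ : Subalgebra k B)` is of the form `a ⊗ 1`. -/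
theorem exists_tmul_one_of_bot (y : A ⊗[k] (⊥ : Subalgebra k B)) :
    ∃ a : A, y = a ⊗ₜ[k] (1 : (⊥ : Subalgebra k B)) := by
  induction y using TensorProduct.induction_on with
  | zero => exact ⟨0, by simp⟩
  | tmul a b =>
    obtain ⟨c, hc⟩ := Algebra.mem_bot.mp b.2
    refine ⟨c • a, ?_⟩
    have : b = c • (1 : (⊥ : Subalgebra k B)) := by
      apply Subtype.ext
      simp [← hc, Algebra.algebraMap_eq_smul_one]
    rw [this, TensorProduct.tmul_smul, TensorProduct.smul_tmul']
  | add x y hx hy =>
    obtain ⟨a, rfl⟩ := hx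
    obtain ⟨b, rfl⟩ := hy
    exact ⟨a + b, by rw [TensorProduct.add_tmul]⟩

theorem isCentral_tensor [Algebra.IsCentral k A] [Algebra.IsCentral k B] [Nontrivial B] :
    Algebra.IsCentral k (A ⊗[k] B) := by
  constructor
  intro x hx
  have hx' : ∀ y : A ⊗[k] B, y * x = x * y := Subalgebra.mem_center_iff.mp hx
  -- x commutes with `1 ⊗ B`
  have h1 : x ∈ Subalgebra.centralizer k
      ((Algebra.TensorProduct.includeRight : B →ₐ[k] A ⊗[k] B).range : Set (A ⊗[k] B)) := by
    rw [Subalgebra.mem_centralizer_iff]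
    intro y _
    exact hx' y
  rw [Subalgebra.centralizer_range_includeRight_eq_center_tensorProduct,
    Algebra.IsCentral.center_eq_bot] at h1
  obtain ⟨y, rfl⟩ := h1
  obtain ⟨a, rfl⟩ := exists_tmul_one_of_bot y
  simp only [AlgHom.toRingHom_eq_coe, RingHom.coe_coe, Algebra.TensorProduct.map_tmul,
    AlgHom.coe_id, id_eq, map_one] at hx' ⊢
  -- a is central in A
  have ha : a ∈ Subalgebra.center k A := by
    rw [Subalgebra.mem_center_iff]
    intro a'
    have h2 := hx' (a' ⊗ₜ[k] (1 : B))
    rw [Algebra.TensorProduct.tmul_mul_tmul, Algebra.TensorProduct.tmul_mul_tmul, mul_one] at h2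
    exact Algebra.TensorProduct.includeLeft_injective (R := k) (S := k) (A := A) (B := B)
      (algebraMap k B).injective h2
  rw [Algebra.IsCentral.center_eq_bot] at ha
  obtain ⟨c, rfl⟩ := Algebra.mem_bot.mp ha
  rw [Algebra.mem_bot]
  exact ⟨c, by simp [Algebra.TensorProduct.algebraMap_apply]⟩

end CentralTensor

section EndSimple

variable (k : Type u) [Field k] (V : Type v) [AddCommGroup V] [Module k V] [FiniteDimensional k V]
  [Nontrivial V]

theorem isSimpleRing_end : IsSimpleRing (Module.End k V) := by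
  let b := Module.finBasis k V
  have hpos : 0 < Module.finrank k V := Module.finrank_pos
  have : Nonempty (Fin (Module.finrank k V)) := ⟨⟨0, hpos⟩⟩
  have hs : IsSimpleRing (Matrix (Fin (Module.finrank k V)) (Fin (Module.finrank k V)) k) :=
    IsSimpleRing.matrix _ _
  exact IsSimpleRing.of_ringEquiv (LinearMap.toMatrixAlgEquiv b).symm.toRingEquiv hs

end EndSimple

section Inner

variable (k : Type u) [CommSemiring k] {A : Type v} [Ring A] [Algebra k A]

/-- The inner automorphism `y ↦ x * y * x⁻¹`. -/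
def innerAlgEquiv (x : Aˣ) : A ≃ₐ[k] A where
  toFun y := x * y * (x⁻¹ : Aˣ)
  invFun y := (x⁻¹ : Aˣ) * y * x
  left_inv y := by simp [mul_assoc]
  right_inv y := by simp [mul_assoc]
  map_mul' y z := by simp [mul_assoc]
  map_add' y z := by simp [mul_add, add_mul]
  commutes' r := by
    rw [← Algebra.commutes r (x : A), mul_assoc, Units.mul_inv, mul_one]

@[simp] theorem innerAlgEquiv_apply (x : Aˣ) (y : A) :
    innerAlgEquiv k x y = x * y * (x⁻¹ : Aˣ) := rfl

end Inner

section MulRight

variable (k : Type u) [Field k] (B : Type w) [Ring B] [Algebra k B]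

/-- Right multiplication as an algebra map `Bᵐᵒᵖ → End k B`. -/
noncomputable def mulRightHom : Bᵐᵒᵖ →ₐ[k] Module.End k B :=
  (AlgHom.mulLeftRight k B).comp Algebra.TensorProduct.includeRight

@[simp] theorem mulRightHom_apply (c : Bᵐᵒᵖ) (x : B) : mulRightHom k B c x = x * c.unop := by
  simp [mulRightHom]

theorem mulRightHom_injective : Function.Injective (mulRightHom k B) := by
  intro c d h
  have := congrArg (fun φ : Module.End k B => φ 1) h
  simp only [mulRightHom_apply, one_mul] at this
  exact MulOpposite.unop_injective this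

theorem centralizer_range_lmul :
    Subalgebra.centralizer k (Set.range (Algebra.lmul k B)) = (mulRightHom k B).range := by
  ext φ
  rw [Subalgebra.mem_centralizer_iff]
  constructor
  · intro h
    refine ⟨op (φ 1), ?_⟩
    ext x
    change (mulRightHom k B (op (φ 1))) x = φ x
    rw [mulRightHom_apply, unop_op]
    have := congrArg (fun ψ : Module.End k B => ψ 1) (h _ ⟨x, rfl⟩)
    simp only [Module.End.mul_apply] at this
    change x * φ 1 = φ (x * 1) at this
    rw [mul_one] at this
    exact this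
  · rintro ⟨c, rfl⟩ _ ⟨b, rfl⟩
    ext x
    simp [mul_assoc]

end MulRight

section CentralizerTheorem

variable {k : Type u} [Field k] {A : Type v} [Ring A] [Algebra k A]

theorem subalgebra_map_val_id_injective (C : Subalgebra k A) (E : Type w) [Ring E] [Algebra k E] :
    Function.Injective (Algebra.TensorProduct.map C.val (AlgHom.id k E)) := by
  have : Function.Injective (TensorProduct.map C.val.toLinearMap (AlgHom.id k E).toLinearMap) :=
    TensorProduct.map_injective_of_flat_flat C.val.toLinearMap (AlgHom.id k E).toLinearMap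
      Subtype.val_injective (fun _ _ h => h)
  exact this

theorem subalgebra_map_id_val_injective (E : Type w) [Ring E] [Algebra k E] (D : Subalgebra k E) :
    Function.Injective (Algebra.TensorProduct.map (AlgHom.id k A) D.val) := by
  have : Function.Injective (TensorProduct.map (AlgHom.id k A).toLinearMap D.val.toLinearMap) :=
    TensorProduct.map_injective_of_flat_flat (AlgHom.id k A).toLinearMap D.val.toLinearMap
      (fun _ _ h => h) Subtype.val_injective
  exact this

variable [Algebra.IsCentral k A] [IsSimpleRing A] [FiniteDimensional k A]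
  (B : Subalgebra k A) [IsSimpleRing B]

/-- Key isomorphism for the centralizer theorem: `C ⊗ End_k(B) ≃ A ⊗ Bᵐᵒᵖ`, where `C` is the
centralizer of the simple subalgebra `B` of the central simple algebra `A`. -/
theorem nonempty_centralizer_tensor_end_algEquiv :
    Nonempty ((Subalgebra.centralizer k (B : Set A) ⊗[k] Module.End k B) ≃ₐ[k] (A ⊗[k] (B)ᵐᵒᵖ)) := by
  have hBnt : Nontrivial B := inferInstance
  have hEs : IsSimpleRing (Module.End k B) := isSimpleRing_end k B
  have hEc : Algebra.IsCentral k (Module.End k B) := inferInstance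
  have h𝒜c : Algebra.IsCentral k (A ⊗[k] Module.End k B) := isCentral_tensor
  have h𝒜s : IsSimpleRing (A ⊗[k] Module.End k B) :=
    isSimpleRing_tensor_of_isCentral_of_isSimpleRing A (Module.End k B)
  let i₁ : B →ₐ[k] A ⊗[k] Module.End k B := Algebra.TensorProduct.includeLeft.comp B.val
  let i₂ : B →ₐ[k] A ⊗[k] Module.End k B :=
    Algebra.TensorProduct.includeRight.comp (Algebra.lmul k B)
  obtain ⟨x, hx⟩ := skolem_noether i₁ i₂
  let C := Subalgebra.centralizer k (B : Set A)
  let D := Subalgebra.centralizer k (Set.range (Algebra.lmul k B))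
  let ψ₁ : C ⊗[k] Module.End k B →ₐ[k] A ⊗[k] Module.End k B :=
    Algebra.TensorProduct.map C.val (AlgHom.id k _)
  let ψ₂ : A ⊗[k] D →ₐ[k] A ⊗[k] Module.End k B :=
    Algebra.TensorProduct.map (AlgHom.id k _) D.val
  have hψ₁ : Function.Injective ψ₁ := subalgebra_map_val_id_injective C _
  have hψ₂ : Function.Injective ψ₂ := subalgebra_map_id_val_injective _ D
  have hr₁ : ψ₁.range = Subalgebra.centralizer k
      ((Algebra.TensorProduct.includeLeft : A →ₐ[k] A ⊗[k] Module.End k B) '' (B : Set A)) :=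
    (Subalgebra.centralizer_coe_image_includeLeft_eq_center_tensorProduct k A _ (B : Set A)).symm
  have hr₂ : ψ₂.range = Subalgebra.centralizer k
      ((Algebra.TensorProduct.includeRight : Module.End k B →ₐ[k] A ⊗[k] Module.End k B) ''
        (Set.range (Algebra.lmul k B))) :=
    (Subalgebra.centralizer_coe_image_includeRight_eq_center_tensorProduct k A _ _).symm
  let θ : A ⊗[k] D →ₐ[k] A ⊗[k] Module.End k B := (innerAlgEquiv k x).toAlgHom.comp ψ₂
  have hθ : Function.Injective θ := (innerAlgEquiv k x).injective.comp hψ₂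
  have hrange : θ.range = ψ₁.range := by
    rw [hr₁]
    ext y
    constructor
    · rintro ⟨z, rfl⟩
      have hz : ψ₂ z ∈ ψ₂.range := ⟨z, rfl⟩
      rw [hr₂, Subalgebra.mem_centralizer_iff] at hz
      rw [Subalgebra.mem_centralizer_iff]
      rintro _ ⟨b, hb, rfl⟩
      have h1 := hx ⟨b, hb⟩
      have h2 := hz (i₂ ⟨b, hb⟩) ⟨_, ⟨⟨b, hb⟩, rfl⟩, rfl⟩
      change i₁ ⟨b, hb⟩ * (x * ψ₂ z * (x⁻¹ : (A ⊗[k] Module.End k B)ˣ)) =
        (x * ψ₂ z * (x⁻¹ : (A ⊗[k] Module.End k B)ˣ)) * i₁ ⟨b, hb⟩
      rw [h1]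
      simp only [mul_assoc, Units.inv_mul_cancel_left]
      rw [← mul_assoc (i₂ ⟨b, hb⟩), h2]
      simp only [mul_assoc, Units.inv_mul_cancel_left]
    · intro hy
      rw [Subalgebra.mem_centralizer_iff] at hy
      have hz : (x⁻¹ : (A ⊗[k] Module.End k B)ˣ) * y * x ∈ ψ₂.range := by
        rw [hr₂, Subalgebra.mem_centralizer_iff]
        rintro _ ⟨_, ⟨b, rfl⟩, rfl⟩
        have h1 := hx b
        have h2 := hy (i₁ b) ⟨b, b.2, rfl⟩
        have h3 : i₂ b = (x⁻¹ : (A ⊗[k] Module.End k B)ˣ) * i₁ b * x := by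
          rw [h1]; simp [mul_assoc]
        change i₂ b * _ = _ * i₂ b
        rw [h3]
        simp only [mul_assoc, Units.mul_inv_cancel_left]
        rw [← mul_assoc (i₁ b), h2]
        simp only [mul_assoc, Units.mul_inv_cancel_left]
      obtain ⟨z, hz⟩ := hz
      refine ⟨z, ?_⟩
      change x * ψ₂ z * (x⁻¹ : (A ⊗[k] Module.End k B)ˣ) = y
      have hz' : ψ₂ z = (x⁻¹ : (A ⊗[k] Module.End k B)ˣ) * y * x := hz
      rw [hz']
      simp [mul_assoc]
  let e₁ : C ⊗[k] Module.End k B ≃ₐ[k] ψ₁.range := AlgEquiv.ofInjective ψ₁ hψ₁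
  let e₂ : A ⊗[k] D ≃ₐ[k] θ.range := AlgEquiv.ofInjective θ hθ
  let e₃ : θ.range ≃ₐ[k] ψ₁.range := Subalgebra.equivOfEq _ _ hrange
  let e₄ : (B)ᵐᵒᵖ ≃ₐ[k] D :=
    (AlgEquiv.ofInjective (mulRightHom k B) (mulRightHom_injective k B)).trans
      (Subalgebra.equivOfEq _ _ (centralizer_range_lmul k B).symm)
  let e₅ : A ⊗[k] (B)ᵐᵒᵖ ≃ₐ[k] A ⊗[k] D := Algebra.TensorProduct.congr AlgEquiv.refl e₄
  exact ⟨e₁.trans (e₃.symm.trans (e₂.symm.trans e₅.symm))⟩

theorem finrank_eq_mul_finrank_centralizer :
    Module.finrank k A =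
      Module.finrank k B * Module.finrank k (Subalgebra.centralizer k (B : Set A)) := by
  obtain ⟨e⟩ := nonempty_centralizer_tensor_end_algEquiv B
  have h := LinearEquiv.finrank_eq e.toLinearEquiv
  rw [Module.finrank_tensorProduct, Module.finrank_tensorProduct, Module.finrank_linearMap] at h
  have hop : Module.finrank k (B)ᵐᵒᵖ = Module.finrank k B :=
    LinearEquiv.finrank_eq (MulOpposite.opLinearEquiv k).symm
  rw [hop] at h
  have hpos : 0 < Module.finrank k B := Module.finrank_pos
  -- h : c * (n * n) = a * n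
  have h' : (Module.finrank k (Subalgebra.centralizer k (B : Set A)) * Module.finrank k B) *
      Module.finrank k B = Module.finrank k A * Module.finrank k B := by
    rw [← h]; ring
  have := Nat.eq_of_mul_eq_mul_right hpos h'
  rw [← this, mul_comm]

theorem isSimpleRing_centralizer :
    IsSimpleRing (Subalgebra.centralizer k (B : Set A)) := by
  obtain ⟨e⟩ := nonempty_centralizer_tensor_end_algEquiv B
  have hBfin : FiniteDimensional k B := inferInstance
  have h1 : IsSimpleRing ((B)ᵐᵒᵖ ⊗[k] A) :=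
    isSimpleRing_tensor_of_isCentral_of_isSimpleRing (B)ᵐᵒᵖ A
  have h2 : IsSimpleRing (A ⊗[k] (B)ᵐᵒᵖ) :=
    IsSimpleRing.of_ringEquiv (Algebra.TensorProduct.comm k (B)ᵐᵒᵖ A).toRingEquiv h1
  have h3 : IsSimpleRing (Subalgebra.centralizer k (B : Set A) ⊗[k] Module.End k B) :=
    IsSimpleRing.of_ringEquiv e.symm.toRingEquiv h2
  let b := Module.finBasis k B
  let n := Module.finrank k B
  let C := Subalgebra.centralizer k (B : Set A)
  let e1 : C ⊗[k] Module.End k B ≃ₐ[k] C ⊗[k] Matrix (Fin n) (Fin n) k :=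
    Algebra.TensorProduct.congr AlgEquiv.refl (LinearMap.toMatrixAlgEquiv b)
  let e2 : Matrix (Fin n) (Fin n) C ≃ₐ[k] C ⊗[k] Matrix (Fin n) (Fin n) k :=
    matrixEquivTensor (Fin n) k C
  have h4 : IsSimpleRing (Matrix (Fin n) (Fin n) C) :=
    IsSimpleRing.of_ringEquiv (e1.trans e2.symm).toRingEquiv h3
  have hpos : 0 < n := Module.finrank_pos
  have : Nonempty (Fin n) := ⟨⟨0, hpos⟩⟩
  exact ⟨(TwoSidedIdeal.orderIsoMatrix (R := C) (n := Fin n)).isSimpleOrder⟩

theorem centralizer_centralizer_eq :
    Subalgebra.centralizer k (Subalgebra.centralizer k (B : Set A) : Set A) = B := by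
  have hC : IsSimpleRing (Subalgebra.centralizer k (B : Set A)) := isSimpleRing_centralizer B
  have h1 := finrank_eq_mul_finrank_centralizer B
  have h2 := finrank_eq_mul_finrank_centralizer (Subalgebra.centralizer k (B : Set A))
  have hpos : 0 < Module.finrank k (Subalgebra.centralizer k (B : Set A)) := Module.finrank_pos
  have h3 : Module.finrank k B =
      Module.finrank k (Subalgebra.centralizer k (Subalgebra.centralizer k (B : Set A) : Set A)) := by
    rw [h1, mul_comm] at h2
    exact Nat.eq_of_mul_eq_mul_left hpos h2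
  have hle : B ≤ Subalgebra.centralizer k (Subalgebra.centralizer k (B : Set A) : Set A) := by
    intro b hb
    rw [Subalgebra.mem_centralizer_iff]
    intro c hc
    exact ((Subalgebra.mem_centralizer_iff k).mp hc b hb).symm
  symm
  apply Subalgebra.toSubmodule_injective
  exact Submodule.eq_of_le_of_finrank_eq hle h3

end CentralizerTheorem

end Groth.Agent.Lib.Helper1
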