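import Mathlib

/-!
# A Dieudonné-type lemma for reduced norms (helper1)

For a ring `D` with a ring map `ρ : D → M_δ(K)` (`K` commutative), `expand ρ` turns a matrix over
`D` into a block matrix over `K` and `nu ρ ι = det ∘ expand ρ : M_ι(D) →* K`.

* `nu_fromBlocks_zero₁₂/₂₁`, `fromBlocks_eq_ldu`, `nu_fromBlocks_of_inv`: block computations (LDU
  over a non-commutative ring);
* `nu_punit`, `nu_submatrix`, `nu_diagonal`;
* `exists_nu_eq`: if `D` is a division ring and `K` a field, every `g : M_ι(D)` with `nu g ≠ 0`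
  has `nu g = det (ρ x)` for some `x ≠ 0` in `D` (Gaussian elimination).
-/

set_option autoImplicit false
universe u v w u'
open Matrix

namespace Groth.Agent.Lib.Helper1.Dieudonne

section Defs

variable {D : Type u} [Ring D] {K : Type v} [CommRing K] {δ : Type w} [Fintype δ] [DecidableEq δ]
  (ρ : D →+* Matrix δ δ K)

/-- block expansion of a matrix over `D` through `ρ : D → M_δ(K)` (rectangular) -/
def expand {α β : Type*} (M : Matrix α β D) : Matrix (α × δ) (β × δ) K :=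
  Matrix.comp α β δ δ K (M.map ρ)

theorem expand_apply {α β : Type*} (M : Matrix α β D) (i : α × δ) (j : β × δ) :
    expand ρ M i j = ρ (M i.1 j.1) i.2 j.2 := rfl

variable {ι : Type*} [Fintype ι] [DecidableEq ι]

/-- `expand` on square matrices as a ring hom -/
def expandHom (ι : Type*) [Fintype ι] [DecidableEq ι] :
    Matrix ι ι D →+* Matrix (ι × δ) (ι × δ) K :=
  (Matrix.compRingEquiv ι δ K).toRingHom.comp ρ.mapMatrix

theorem expandHom_apply (M : Matrix ι ι D) : expandHom ρ ι M = expand ρ M := rfl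

/-- the "norm" `det ∘ expand` -/
def nu (ι : Type*) [Fintype ι] [DecidableEq ι] : Matrix ι ι D →* K :=
  Matrix.detMonoidHom.comp (expandHom ρ ι : Matrix ι ι D →* Matrix (ι × δ) (ι × δ) K)

theorem nu_apply (M : Matrix ι ι D) : nu ρ ι M = (expand ρ M).det := rfl

variable {α β : Type*} [Fintype α] [DecidableEq α] [Fintype β] [DecidableEq β]

theorem nu_punit (A : Matrix PUnit.{u'+1} PUnit.{u'+1} D) :
    nu ρ PUnit.{u'+1} A = (ρ (A ⟨⟩ ⟨⟩)).det := by
  rw [nu_apply]
  have : expand ρ A = (ρ (A ⟨⟩ ⟨⟩)).submatrix (Equiv.punitProd δ) (Equiv.punitProd δ) := by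
    ext i j
    rfl
  rw [this, Matrix.det_submatrix_equiv_self]

theorem nu_submatrix (e : α ≃ β) (g : Matrix β β D) :
    nu ρ α (g.submatrix e e) = nu ρ β g := by
  rw [nu_apply, nu_apply]
  have : expand ρ (g.submatrix e e) =
      (expand ρ g).submatrix (e.prodCongr (Equiv.refl δ)) (e.prodCongr (Equiv.refl δ)) := by
    ext i j
    rfl
  rw [this, Matrix.det_submatrix_equiv_self]


omit [Fintype α] [DecidableEq α] [Fintype β] [DecidableEq β] in
theorem expand_fromBlocks (A : Matrix α α D) (B : Matrix α β D) (C : Matrix β α D)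
    (E : Matrix β β D) :
    (expand ρ (fromBlocks A B C E)).submatrix (Equiv.sumProdDistrib α β δ).symm
      (Equiv.sumProdDistrib α β δ).symm =
      fromBlocks (expand ρ A) (expand ρ B) (expand ρ C) (expand ρ E) := by
  ext i j
  rcases i with ⟨a, x⟩ | ⟨b, x⟩ <;> rcases j with ⟨a', y⟩ | ⟨b', y⟩ <;>
    simp [expand_apply]

theorem nu_fromBlocks (A : Matrix α α D) (B : Matrix α β D) (C : Matrix β α D)
    (E : Matrix β β D) :
    nu ρ (α ⊕ β) (fromBlocks A B C E) =
      (fromBlocks (expand ρ A) (expand ρ B) (expand ρ C) (expand ρ E)).det := by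
  rw [nu_apply, ← expand_fromBlocks, Matrix.det_submatrix_equiv_self]

theorem expand_zero {α β : Type*} : expand ρ (0 : Matrix α β D) = 0 := by
  ext i j
  simp [expand_apply]

theorem nu_fromBlocks_zero₁₂ (A : Matrix α α D) (C : Matrix β α D) (E : Matrix β β D) :
    nu ρ (α ⊕ β) (fromBlocks A 0 C E) = nu ρ α A * nu ρ β E := by
  rw [nu_fromBlocks, expand_zero, Matrix.det_fromBlocks_zero₁₂, nu_apply, nu_apply]

theorem nu_fromBlocks_zero₂₁ (A : Matrix α α D) (B : Matrix α β D) (E : Matrix β β D) :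
    nu ρ (α ⊕ β) (fromBlocks A B 0 E) = nu ρ α A * nu ρ β E := by
  rw [nu_fromBlocks, expand_zero, Matrix.det_fromBlocks_zero₂₁, nu_apply, nu_apply]

/-- LDU decomposition over a noncommutative ring -/
theorem fromBlocks_eq_ldu (A A' : Matrix α α D) (B : Matrix α β D) (C : Matrix β α D)
    (E : Matrix β β D) (h1 : A * A' = 1) (h2 : A' * A = 1) :
    fromBlocks A B C E =
      fromBlocks 1 0 (C * A') 1 * fromBlocks A 0 0 (E - C * A' * B) * fromBlocks 1 (A' * B) 0 1 := by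
  simp only [fromBlocks_multiply, Matrix.mul_zero, Matrix.zero_mul, Matrix.one_mul,
    Matrix.mul_one, add_zero, zero_add]
  congr 1
  · rw [← Matrix.mul_assoc, h1, Matrix.one_mul]
  · rw [Matrix.mul_assoc, h2, Matrix.mul_one]
  · rw [Matrix.mul_assoc C A' A, h2, Matrix.mul_one, ← Matrix.mul_assoc]
    abel

theorem nu_fromBlocks_of_inv (A A' : Matrix α α D) (B : Matrix α β D) (C : Matrix β α D)
    (E : Matrix β β D) (h1 : A * A' = 1) (h2 : A' * A = 1) :
    nu ρ (α ⊕ β) (fromBlocks A B C E) = nu ρ α A * nu ρ β (E - C * A' * B) := by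
  rw [fromBlocks_eq_ldu A A' B C E h1 h2, map_mul, map_mul, nu_fromBlocks_zero₁₂,
    nu_fromBlocks_zero₁₂, nu_fromBlocks_zero₂₁, map_one, map_one]
  simp


theorem nu_diagonal (d : ι → D) : nu ρ ι (Matrix.diagonal d) = ∏ i, (ρ (d i)).det := by
  rw [nu_apply, ← Matrix.det_blockDiagonal]
  have : expand ρ (Matrix.diagonal d) =
      (Matrix.blockDiagonal fun i => ρ (d i)).submatrix (Equiv.prodComm ι δ) (Equiv.prodComm ι δ) := by
    ext ⟨i, x⟩ ⟨j, y⟩
    simp only [expand_apply, Matrix.submatrix_apply, Equiv.prodComm_apply, Prod.swap_prod_mk,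
      Matrix.blockDiagonal_apply, Matrix.diagonal_apply]
    split_ifs <;> simp
  rw [this, Matrix.det_submatrix_equiv_self]

end Defs

section Division

variable {D : Type u} [DivisionRing D] {K : Type v} [Field K] {δ : Type w} [Fintype δ]
  [DecidableEq δ] [Nonempty δ] (ρ : D →+* Matrix δ δ K)

omit [Nonempty δ] in
/-- Case of a nonzero pivot. -/
theorem exists_of_pivot {α : Type u'} [Fintype α] [DecidableEq α]
    (ih : ∀ g : Matrix α α D, nu ρ α g ≠ 0 → ∃ x : D, x ≠ 0 ∧ nu ρ α g = (ρ x).det)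
    (A : Matrix PUnit.{u'+1} PUnit.{u'+1} D) (B : Matrix PUnit.{u'+1} α D)
    (C : Matrix α PUnit.{u'+1} D) (E : Matrix α α D) (ha : A ⟨⟩ ⟨⟩ ≠ 0)
    (hg : nu ρ (PUnit.{u'+1} ⊕ α) (fromBlocks A B C E) ≠ 0) :
    ∃ x : D, x ≠ 0 ∧ nu ρ (PUnit.{u'+1} ⊕ α) (fromBlocks A B C E) = (ρ x).det := by
  let A' : Matrix PUnit.{u'+1} PUnit.{u'+1} D := Matrix.of fun _ _ => (A ⟨⟩ ⟨⟩)⁻¹
  have h1 : A * A' = 1 := by
    ext ⟨⟩ ⟨⟩
    simp [Matrix.mul_apply, A', mul_inv_cancel₀ ha]
  have h2 : A' * A = 1 := by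
    ext ⟨⟩ ⟨⟩
    simp [Matrix.mul_apply, A', inv_mul_cancel₀ ha]
  rw [nu_fromBlocks_of_inv ρ A A' B C E h1 h2] at hg ⊢
  rw [nu_punit] at hg ⊢
  have hS : nu ρ α (E - C * A' * B) ≠ 0 := right_ne_zero_of_mul hg
  obtain ⟨y, hy, hy'⟩ := ih _ hS
  refine ⟨A ⟨⟩ ⟨⟩ * y, mul_ne_zero ha hy, ?_⟩
  rw [hy', map_mul, Matrix.det_mul]

theorem exists_of_sum {α : Type u'} [Fintype α] [DecidableEq α]
    (ih : ∀ g : Matrix α α D, nu ρ α g ≠ 0 → ∃ x : D, x ≠ 0 ∧ nu ρ α g = (ρ x).det)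
    (g : Matrix (PUnit.{u'+1} ⊕ α) (PUnit.{u'+1} ⊕ α) D)
    (hg : nu ρ (PUnit.{u'+1} ⊕ α) g ≠ 0) :
    ∃ x : D, x ≠ 0 ∧ nu ρ (PUnit.{u'+1} ⊕ α) g = (ρ x).det := by
  obtain ⟨A, B, C, E, rfl⟩ : ∃ A B C E, g = fromBlocks A B C E :=
    ⟨g.toBlocks₁₁, g.toBlocks₁₂, g.toBlocks₂₁, g.toBlocks₂₂, (fromBlocks_toBlocks g).symm⟩
  by_cases ha : A ⟨⟩ ⟨⟩ = 0
  · have hex : ∃ i, C i ⟨⟩ ≠ 0 := by
      by_contra hno
      push Not at hno
      have hA : A = 0 := by
        ext ⟨⟩ ⟨⟩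
        exact ha
      have hC : C = 0 := by
        ext i ⟨⟩
        exact hno i
      apply hg
      rw [hA, hC, nu_fromBlocks_zero₂₁, nu_punit]
      simp [Matrix.det_zero]
    obtain ⟨i, hi⟩ := hex
    let R : Matrix PUnit.{u'+1} α D := Matrix.of fun _ j => if j = i then 1 else 0
    let T : Matrix (PUnit.{u'+1} ⊕ α) (PUnit.{u'+1} ⊕ α) D :=
      fromBlocks (1 : Matrix PUnit.{u'+1} PUnit.{u'+1} D) R 0 (1 : Matrix α α D)
    have hT : nu ρ (PUnit.{u'+1} ⊕ α) T = 1 := by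
      rw [nu_fromBlocks_zero₂₁, map_one, map_one, mul_one]
    have hTg : T * fromBlocks A B C E = fromBlocks (A + R * C) (B + R * E) C E := by
      simp [T, fromBlocks_multiply]
    have hpiv : (A + R * C) ⟨⟩ ⟨⟩ ≠ 0 := by
      simp only [Matrix.add_apply, Matrix.mul_apply, R, ha, Matrix.of_apply, zero_add,
        ite_mul, one_mul, zero_mul, Finset.sum_ite_eq', Finset.mem_univ, if_true]
      exact hi
    have hg' : nu ρ (PUnit.{u'+1} ⊕ α) (fromBlocks (A + R * C) (B + R * E) C E) ≠ 0 := by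
      rw [← hTg, map_mul, hT, one_mul]
      exact hg
    obtain ⟨x, hx, hx'⟩ := exists_of_pivot ρ ih _ _ _ _ hpiv hg'
    exact ⟨x, hx, by rw [← hx', ← hTg, map_mul, hT, one_mul]⟩
  · exact exists_of_pivot ρ ih A B C E ha hg

/-- **Dieudonné-lite**: for a division ring `D` with a ring map `ρ : D → M_δ(K)` into matrices
over a field, the "norm" `det ∘ expand` of any square matrix over `D` on which it does not vanish
is the norm of a nonzero element of `D`. -/
theorem exists_nu_eq (ι : Type u') [Fintype ι] [DecidableEq ι] (g : Matrix ι ι D)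
    (hg : nu ρ ι g ≠ 0) : ∃ x : D, x ≠ 0 ∧ nu ρ ι g = (ρ x).det := by
  have key : ∀ (α : Type u') [Fintype α], ∀ (_ : DecidableEq α) (g : Matrix α α D),
      nu ρ α g ≠ 0 → ∃ x : D, x ≠ 0 ∧ nu ρ α g = (ρ x).det := by
    intro α _
    refine Fintype.induction_empty_option
      (P := fun (α : Type u') [Fintype α] => ∀ (_ : DecidableEq α) (g : Matrix α α D),
        nu ρ α g ≠ 0 → ∃ x : D, x ≠ 0 ∧ nu ρ α g = (ρ x).det) ?_ ?_ ?_ α
    · intro α β _ e ih _ g hg
      classical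
      let _ : Fintype α := Fintype.ofEquiv β e.symm
      have h := nu_submatrix ρ e g
      rw [← h] at hg ⊢
      exact ih _ _ hg
    · intro _ g _
      refine ⟨1, one_ne_zero, ?_⟩
      rw [nu_apply, Matrix.det_isEmpty, map_one, Matrix.det_one]
    · intro α _ ih _ g hg
      classical
      let e : PUnit.{u'+1} ⊕ α ≃ Option α :=
        ((Equiv.optionEquivSumPUnit α).trans (Equiv.sumComm _ _)).symm
      have h := nu_submatrix ρ e g
      rw [← h] at hg ⊢
      exact exists_of_sum ρ (ih _) _ hg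
  exact key ι _ g hg

end Division

end Groth.Agent.Lib.Helper1.Dieudonne
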