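import Groth.Agent.Lib.Helper1.CSA.RedNormUnique
import Groth.Agent.Lib.Helper1.CSA.Dieudonne
import Groth.Agent.S13256

/-!
# The group of reduced norms (helper1)

* `bigRep ψ ρ`, `det_bigRep`: the degree `r * d` representation of `A ≅ M_r(D)` from `ρ : D → M_d(K)`
* `algebraMap_redNorm_eq_nu`: the reduced norm of `A ≅ M_r(D)` is `nu ρ` (block determinant)
* `mem_range_redNorm_iff`: `Nrd(Aˣ) = {det (ρ x) : x ∈ D, x ≠ 0}` (Dieudonné)
-/

set_option autoImplicit false
universe u v w w'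
open scoped TensorProduct
open Matrix

namespace Groth.Agent.Lib.Helper1.RedNormRange

open Groth.Agent.Lib.Helper1.Dieudonne Groth.Agent.Lib.Helper1.RedNormU

/-- The representation of `A ≅ M_r(D)` of degree `r * d` obtained from `ρ : D → M_d(K)`. -/
noncomputable def bigRep {k : Type u} [Field k] {A : Type v} [Ring A] [Algebra k A]
    {D : Type w} [Ring D] [Algebra k D] {r : ℕ} (ψ : A ≃ₐ[k] Matrix (Fin r) (Fin r) D)
    {K : Type w'} [Field K] [Algebra k K] {d : ℕ}
    (ρ : D →ₐ[k] Matrix (Fin d) (Fin d) K) : A →ₐ[k] Matrix (Fin (r * d)) (Fin (r * d)) K :=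
  ((Matrix.reindexAlgEquiv k K finProdFinEquiv).toAlgHom.comp
    ((Matrix.compAlgEquiv (Fin r) (Fin d) K k).toAlgHom.comp ρ.mapMatrix)).comp ψ.toAlgHom

theorem det_bigRep {k : Type u} [Field k] {A : Type v} [Ring A] [Algebra k A]
    {D : Type w} [Ring D] [Algebra k D] {r : ℕ} (ψ : A ≃ₐ[k] Matrix (Fin r) (Fin r) D)
    {K : Type w'} [Field K] [Algebra k K] {d : ℕ}
    (ρ : D →ₐ[k] Matrix (Fin d) (Fin d) K) (a : A) :
    (bigRep ψ ρ a).det = nu (ρ : D →+* Matrix (Fin d) (Fin d) K) (Fin r) (ψ a) := by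
  rw [nu_apply]
  change (Matrix.reindex finProdFinEquiv finProdFinEquiv
    (expand (ρ : D →+* Matrix (Fin d) (Fin d) K) (ψ a))).det = _
  rw [Matrix.det_reindex_self]

section

variable (k : Type u) [Field k] (A : Type v) [Ring A] [Algebra k A]
  [Algebra.IsCentral k A] [IsSimpleRing A] [FiniteDimensional k A]
  (N : A →* k) (hN : CSAGal.IsRedNorm k A N)
  (D : Type w) [DivisionRing D] [Algebra k D] (r : ℕ) (ψ : A ≃ₐ[k] Matrix (Fin r) (Fin r) D)
  (K : Type w') [Field K] [Algebra k K] (d : ℕ) (hD : Module.finrank k D = d ^ 2)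
  (ρ : D →ₐ[k] Matrix (Fin d) (Fin d) K)

include hN hD in
theorem algebraMap_redNorm_eq_nu (hr : r ≠ 0) (hd : d ≠ 0) (a : A) :
    algebraMap k K (N a) = nu (ρ : D →+* Matrix (Fin d) (Fin d) K) (Fin r) (ψ a) := by
  have hA : Module.finrank k A = (r * d) ^ 2 := by
    have : Module.Finite k D := by
      apply Module.finite_of_finrank_pos
      rw [hD]; positivity
    rw [ψ.toLinearEquiv.finrank_eq, Module.finrank_matrix, hD]
    simp only [Fintype.card_fin]
    ring
  rw [algebraMap_redNorm_eq_det k A N hN K (mul_ne_zero hr hd) hA (bigRep ψ ρ) a,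
    det_bigRep]

include hN hD ψ in
/-- The reduced norms of units of `A ≅ M_r(D)` are exactly the "norms" `det (ρ x)` of nonzero
elements of `D`. -/
theorem mem_range_redNorm_iff (hr : r ≠ 0) (hd : d ≠ 0) (c : kˣ) :
    c ∈ (Units.map N).range ↔ ∃ x : D, x ≠ 0 ∧ algebraMap k K (c : k) = (ρ x).det := by
  have : NeZero d := ⟨hd⟩
  constructor
  · rintro ⟨u, rfl⟩
    have h := algebraMap_redNorm_eq_nu k A N hN D r ψ K d hD ρ hr hd (u : A)
    have hne : nu (ρ : D →+* Matrix (Fin d) (Fin d) K) (Fin r) (ψ u) ≠ 0 := by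
      rw [← h]
      exact (map_ne_zero (algebraMap k K)).mpr (Units.ne_zero (Units.map N u))
    obtain ⟨x, hx, hx'⟩ := exists_nu_eq (ρ : D →+* Matrix (Fin d) (Fin d) K) (Fin r) (ψ u) hne
    exact ⟨x, hx, h.trans hx'⟩
  · rintro ⟨x, hx, hx'⟩
    let i₀ : Fin r := ⟨0, Nat.pos_of_ne_zero hr⟩
    let a : A := ψ.symm (Matrix.diagonal (Function.update (1 : Fin r → D) i₀ x))
    have h := algebraMap_redNorm_eq_nu k A N hN D r ψ K d hD ρ hr hd a
    have hNa : N a = c := by
      apply (algebraMap k K).injective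
      rw [h, hx', ψ.apply_symm_apply, nu_diagonal]
      rw [Finset.prod_eq_single i₀]
      · simp
      · intro j _ hj
        simp [Function.update_of_ne hj]
      · intro h; exact absurd (Finset.mem_univ _) h
    have hu : IsUnit a := by
      rw [Groth.Agent.S13256.result k A N hN a, hNa]
      exact c.ne_zero
    refine ⟨hu.unit, ?_⟩
    apply Units.ext
    simpa using hNa

end

end Groth.Agent.Lib.Helper1.RedNormRange
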