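import Groth.Agent.Lib.Helper1.CSA.ReducedCharpoly
import Groth.Agent.Lib.Helper1.CSA.SplitTools
import Groth.Agent.Lib.Helper1.CSA.TensorSimple
import Groth.Prelude.Def_GSzCSA

/-!
# Uniqueness of the reduced norm (helper1)

* `exists_common_extension`: two field extensions of `k` embed in a common field
* `exists_splitting_of_algHom`: a `k`-algebra map `A → M_n(K')` (`dim A = n²`) gives a splitting
* `det_splitting_eq`: determinants through two splittings agree in a common extension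
* `algebraMap_redNorm_eq_det`: a reduced norm `N` (prelude `CSAGal.IsRedNorm`) satisfies
  `algebraMap k K' (N a) = det (ρ a)` for every `ρ : A →ₐ[k] M_n(K')`, `K'` any extension field.
-/

set_option autoImplicit false
universe u v w w'
open scoped TensorProduct
open Polynomial

namespace Groth.Agent.Lib.Helper1.RedNormU

section CommonExt

variable (k : Type u) [Field k] (K₁ : Type v) [Field K₁] [Algebra k K₁]
  (K₂ : Type w) [Field K₂] [Algebra k K₂]

/-- Two field extensions of `k` embed into a common field. -/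
theorem exists_common_extension :
    ∃ (Ω : Type (max v w)) (_ : Field Ω) (_ : Algebra k Ω), Nonempty (K₁ →ₐ[k] Ω) ∧ Nonempty (K₂ →ₐ[k] Ω) := by
  have : Nontrivial (K₁ ⊗[k] K₂) := nontrivial_tensor K₁ K₂
  obtain ⟨m, hm⟩ := Ideal.exists_maximal (K₁ ⊗[k] K₂)
  let _ : Field ((K₁ ⊗[k] K₂) ⧸ m) := Ideal.Quotient.field m
  refine ⟨(K₁ ⊗[k] K₂) ⧸ m, inferInstance, inferInstance, ⟨?_⟩, ⟨?_⟩⟩
  · exact (Ideal.Quotient.mkₐ k m).comp Algebra.TensorProduct.includeLeft
  · exact (Ideal.Quotient.mkₐ k m).comp Algebra.TensorProduct.includeRight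

end CommonExt

section Main

variable (k : Type u) [Field k] (A : Type v) [Ring A] [Algebra k A]
  [Algebra.IsCentral k A] [IsSimpleRing A] [FiniteDimensional k A]

/-- A `k`-algebra map from a central simple algebra of dimension `n²` to `M_n(K')` induces a
splitting over `K'`. -/
theorem exists_splitting_of_algHom (K' : Type w) [Field K'] [Algebra k K'] {n : ℕ} (hn : n ≠ 0)
    (hA : Module.finrank k A = n ^ 2) (ρ : A →ₐ[k] Matrix (Fin n) (Fin n) K') :
    ∃ φ : K' ⊗[k] A ≃ₐ[K'] Matrix (Fin n) (Fin n) K', ∀ a : A, φ (1 ⊗ₜ[k] a) = ρ a := by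
  have : NeZero n := ⟨hn⟩
  let f : K' ⊗[k] A →ₐ[K'] Matrix (Fin n) (Fin n) K' :=
    Algebra.TensorProduct.lift (Algebra.ofId K' _) ρ (fun c a => Algebra.commutes c _)
  have hsimple : IsSimpleRing (K' ⊗[k] A) := isSimpleRing_tensor_of_isCentral_of_isSimpleRing K' A
  have hdim : Module.finrank K' (K' ⊗[k] A) = Module.finrank K' (Matrix (Fin n) (Fin n) K') := by
    rw [Module.finrank_baseChange, Module.finrank_matrix, hA]
    simp [sq]
  refine ⟨AlgEquiv.ofBijective f (bijective_of_isSimpleRing_of_finrank_eq f hdim), fun a => ?_⟩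
  show f (1 ⊗ₜ[k] a) = ρ a
  rw [Algebra.TensorProduct.lift_tmul, map_one, one_mul]

omit [Algebra.IsCentral k A] [IsSimpleRing A] in
/-- The determinant through two splittings agree in a common extension. -/
theorem det_splitting_eq {n : ℕ} (hn : n ≠ 0)
    (K₁ : Type w) [Field K₁] [Algebra k K₁] (K₂ : Type w') [Field K₂] [Algebra k K₂]
    (φ₁ : K₁ ⊗[k] A ≃ₐ[K₁] Matrix (Fin n) (Fin n) K₁)
    (φ₂ : K₂ ⊗[k] A ≃ₐ[K₂] Matrix (Fin n) (Fin n) K₂)
    (Ω : Type*) [Field Ω] [Algebra k Ω] (i₁ : K₁ →ₐ[k] Ω) (i₂ : K₂ →ₐ[k] Ω) (a : A) :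
    i₁ (φ₁ (1 ⊗ₜ[k] a)).det = i₂ (φ₂ (1 ⊗ₜ[k] a)).det := by
  have h1 := charpoly_splitting_pow k A K₁ a φ₁
  have h2 := charpoly_splitting_pow k A K₂ a φ₂
  have e1 : ((φ₁ (1 ⊗ₜ[k] a)).charpoly.map (i₁ : K₁ →+* Ω)) ^ n =
      ((φ₂ (1 ⊗ₜ[k] a)).charpoly.map (i₂ : K₂ →+* Ω)) ^ n := by
    rw [← Polynomial.map_pow, ← Polynomial.map_pow, h1, h2, Polynomial.map_map, Polynomial.map_map]
    congr 1
    ext x
    simp
  have e2 := eq_of_monic_of_pow_eq ((Matrix.charpoly_monic _).map _)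
    ((Matrix.charpoly_monic _).map _) hn e1
  have e3 := congrArg (fun p => p.coeff 0) e2
  simp only [Polynomial.coeff_map] at e3
  rw [Matrix.det_eq_sign_charpoly_coeff, Matrix.det_eq_sign_charpoly_coeff, map_mul, map_mul]
  simp only [map_pow, map_neg, map_one]
  congr 1

/-- **Uniqueness of the reduced norm**: it can be computed through any representation of degree
`n` over any extension field. -/
theorem algebraMap_redNorm_eq_det (N : A →* k) (hN : CSAGal.IsRedNorm k A N)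
    (K' : Type w) [Field K'] [Algebra k K'] {n : ℕ} (hn : n ≠ 0)
    (hA : Module.finrank k A = n ^ 2) (ρ : A →ₐ[k] Matrix (Fin n) (Fin n) K') (a : A) :
    algebraMap k K' (N a) = (ρ a).det := by
  obtain ⟨K₁, _, _, _, n₁, φ₁, h₁⟩ := hN
  obtain rfl : n₁ = n := Groth.Agent.Lib.Helper39.size_eq_of_splitting (k := k) (A := A) (K := K₁) hA φ₁
  obtain ⟨φ₂, hφ₂⟩ := exists_splitting_of_algHom k A K' hn hA ρ
  obtain ⟨Ω, _, _, ⟨i₁⟩, ⟨i₂⟩⟩ := exists_common_extension k K₁ K'
  have h := det_splitting_eq k A hn K₁ K' φ₁ φ₂ Ω i₁ i₂ a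
  rw [← h₁, hφ₂, AlgHom.commutes] at h
  apply i₂.injective
  change i₂ (algebraMap k K' (N a)) = i₂ (ρ a).det
  rw [AlgHom.commutes, h]

end Main

end Groth.Agent.Lib.Helper1.RedNormU
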