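import Mathlib
import Groth.Agent.Lib.Helper39.RedNorm

/-!
# Reduced characteristic polynomials (helper1)

* `charpoly_kronecker_one`, `charpoly_mulLeft_matrix`
* `eq_of_monic_of_pow_eq`
* `toMatrix_smulTower_lsmul`, `charpoly_lsmul_restrictScalars`
* `charpoly_mulLeft_algHom`: char. polynomial of left multiplication by an element of a subfield
* `charpoly_splitting_pow`: (reduced charpoly)^n = charpoly of left multiplication
* `charpoly_splitting_algHom`, `det_trace_splitting_algHom`: reduced norm/trace of elements of a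
  subfield of maximal degree are the field norm/trace
-/

set_option autoImplicit false
universe u v w w'
open scoped TensorProduct
open Polynomial

namespace Groth.Agent.Lib.Helper1

section Kron

open Matrix Kronecker

/-- characteristic polynomial of `M ⊗ₖ 1` -/
theorem charpoly_kronecker_one {R : Type*} [CommRing R] {m n : Type*} [Fintype m] [Fintype n]
    [DecidableEq m] [DecidableEq n] (M : Matrix m m R) :
    (M ⊗ₖ (1 : Matrix n n R)).charpoly = M.charpoly ^ Fintype.card n := by
  have h : charmatrix (M ⊗ₖ (1 : Matrix n n R)) = charmatrix M ⊗ₖ (1 : Matrix n n R[X]) := by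
    ext ⟨i, j⟩ ⟨i', j'⟩
    rw [charmatrix_apply, kroneckerMap_apply, kroneckerMap_apply, charmatrix_apply]
    by_cases hj : j = j'
    · subst hj
      by_cases hi : i = i'
      · subst hi
        simp
      · have : (i, j) ≠ (i', j) := fun h => hi (Prod.ext_iff.mp h).1
        simp [hi, this]
    · have : (i, j) ≠ (i', j') := fun h => hj (Prod.ext_iff.mp h).2
      simp [hj, this]
  rw [Matrix.charpoly, h, det_kronecker, det_one, one_pow, mul_one, Matrix.charpoly]

/-- characteristic polynomial of left multiplication on a matrix algebra -/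
theorem charpoly_mulLeft_matrix {K : Type*} [CommRing K] {n : Type*} [Fintype n] [DecidableEq n]
    (X : Matrix n n K) :
    LinearMap.charpoly (LinearMap.mulLeft K X) = X.charpoly ^ Fintype.card n := by
  rw [← LinearMap.charpoly_toMatrix _ (Matrix.stdBasis K n n),
    Groth.Agent.Lib.Helper39.toMatrix_mulLeft, charpoly_kronecker_one]

end Kron

/-- monic polynomials with equal positive powers are equal -/
theorem eq_of_monic_of_pow_eq {F : Type*} [Field F] {p q : F[X]} (hp : p.Monic) (hq : q.Monic)
    {n : ℕ} (hn : n ≠ 0) (h : p ^ n = q ^ n) : p = q := by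
  apply eq_of_monic_of_associated hp hq
  apply associated_of_dvd_dvd
  · exact (UniqueFactorizationMonoid.pow_dvd_pow_iff_dvd hn).mp (h ▸ dvd_rfl)
  · exact (UniqueFactorizationMonoid.pow_dvd_pow_iff_dvd hn).mp (h ▸ dvd_rfl)

section Tower

open Matrix Kronecker

variable {k : Type*} [CommRing k] {K : Type*} [CommRing K] [Algebra k K]
  {V : Type*} [AddCommGroup V] [Module K V] [Module k V] [IsScalarTower k K V]
  {ι₁ ι₂ : Type*} [Fintype ι₁] [Fintype ι₂] [DecidableEq ι₁] [DecidableEq ι₂]

/-- The matrix of scalar multiplication by `x : K` on a free `K`-module, over `k`. -/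
theorem toMatrix_smulTower_lsmul (bK : Module.Basis ι₁ k K) (bV : Module.Basis ι₂ K V) (x : K) :
    LinearMap.toMatrix (bK.smulTower bV) (bK.smulTower bV)
      ((LinearMap.lsmul K V x).restrictScalars k) =
      Algebra.leftMulMatrix bK x ⊗ₖ (1 : Matrix ι₂ ι₂ k) := by
  ext ⟨i, j⟩ ⟨i', j'⟩
  rw [LinearMap.toMatrix_apply, Module.Basis.smulTower_repr, Module.Basis.smulTower_apply,
    kroneckerMap_apply, Algebra.leftMulMatrix_eq_repr_mul]
  simp only [LinearMap.coe_restrictScalars, LinearMap.lsmul_apply, smul_smul, map_smul,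
    Module.Basis.repr_self, Finsupp.smul_apply, Finsupp.single_apply, smul_eq_mul, Matrix.one_apply]
  by_cases hj : j = j'
  · subst hj
    simp [mul_comm]
  · simp [hj, Ne.symm hj]

theorem charpoly_lsmul_restrictScalars [Module.Free k V] [Module.Finite k V] (bK : Module.Basis ι₁ k K) (bV : Module.Basis ι₂ K V)
    (x : K) :
    LinearMap.charpoly ((LinearMap.lsmul K V x).restrictScalars k) =
      (Algebra.leftMulMatrix bK x).charpoly ^ Fintype.card ι₂ := by
  rw [← LinearMap.charpoly_toMatrix _ (bK.smulTower bV), toMatrix_smulTower_lsmul,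
    charpoly_kronecker_one]

end Tower

section SubfieldCharpoly

variable (k : Type u) [Field k] (A : Type v) [Ring A] [Algebra k A] [FiniteDimensional k A]
  (K : Type w) [Field K] [Algebra k K] [FiniteDimensional k K]

/-- The characteristic polynomial of left multiplication by `ι x` on `A`, for a subfield
`ι : K → A`. -/
theorem charpoly_mulLeft_algHom (ι : K →ₐ[k] A) (x : K) (n : ℕ)
    (hn : Module.finrank k A = n * Module.finrank k K) :
    LinearMap.charpoly (LinearMap.mulLeft k (ι x)) =
      (Algebra.leftMulMatrix (Module.finBasis k K) x).charpoly ^ n := by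
  let _ : Module K A := Module.compHom A (ι : K →+* A)
  have hsmul : ∀ (c : K) (a : A), c • a = ι c * a := fun c a => rfl
  have : IsScalarTower k K A := ⟨fun r c a => by
    rw [hsmul, hsmul, map_smul, smul_mul_assoc]⟩
  have hfin : Module.Finite K A := Module.Finite.of_restrictScalars_finite k K A
  have h1 : Module.finrank K A = n := by
    have h2 := Module.finrank_mul_finrank k K A
    rw [hn, mul_comm] at h2
    exact Nat.eq_of_mul_eq_mul_right Module.finrank_pos h2
  have h3 : LinearMap.mulLeft k (ι x) = (LinearMap.lsmul K A x).restrictScalars k := by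
    ext a
    rfl
  rw [h3, charpoly_lsmul_restrictScalars (Module.finBasis k K) (Module.finBasis K A) x]
  simp [h1]

end SubfieldCharpoly

section Main

variable (k : Type u) [Field k] (A : Type v) [Ring A] [Algebra k A] [FiniteDimensional k A]
  (K' : Type w') [Field K'] [Algebra k K']

/-- reduced characteristic polynomial: its `n`-th power is the characteristic polynomial -/
theorem charpoly_splitting_pow (a : A) {n : ℕ} (φ : K' ⊗[k] A ≃ₐ[K'] Matrix (Fin n) (Fin n) K') :
    (φ (1 ⊗ₜ[k] a)).charpoly ^ n =
      (LinearMap.charpoly (LinearMap.mulLeft k a)).map (algebraMap k K') := by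
  rw [← LinearMap.charpoly_baseChange, Groth.Agent.Lib.Helper39.mulLeft_baseChange,
    ← LinearEquiv.charpoly_conj φ.toLinearEquiv]
  have : φ.toLinearEquiv.conj (LinearMap.mulLeft K' ((1 : K') ⊗ₜ[k] a)) =
      LinearMap.mulLeft K' (φ (1 ⊗ₜ[k] a)) := by
    rw [← Groth.Agent.Lib.Helper39.mulLeft_conj]
    rfl
  rw [this, charpoly_mulLeft_matrix]
  simp

variable (K : Type w) [Field K] [Algebra k K] [FiniteDimensional k K]

/-- The reduced characteristic polynomial of an element of a subfield of degree `n` of an algebra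
of dimension `n²` is its field characteristic polynomial. -/
theorem charpoly_splitting_algHom (ι : K →ₐ[k] A) (x : K) {n : ℕ} (hn0 : n ≠ 0)
    (hA : Module.finrank k A = n ^ 2) (hK : Module.finrank k K = n)
    (φ : K' ⊗[k] A ≃ₐ[K'] Matrix (Fin n) (Fin n) K') :
    (φ (1 ⊗ₜ[k] ι x)).charpoly =
      ((Algebra.leftMulMatrix (Module.finBasis k K) x).charpoly).map (algebraMap k K') := by
  apply eq_of_monic_of_pow_eq (Matrix.charpoly_monic _) ((Matrix.charpoly_monic _).map _) hn0
  rw [charpoly_splitting_pow, charpoly_mulLeft_algHom k A K ι x n (by rw [hA, hK, sq]),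
    Polynomial.map_pow]

theorem det_trace_splitting_algHom (ι : K →ₐ[k] A) (x : K) {n : ℕ} (hn0 : n ≠ 0)
    (hA : Module.finrank k A = n ^ 2) (hK : Module.finrank k K = n)
    (φ : K' ⊗[k] A ≃ₐ[K'] Matrix (Fin n) (Fin n) K') :
    (φ (1 ⊗ₜ[k] ι x)).det = algebraMap k K' (Algebra.norm k x) ∧
      (φ (1 ⊗ₜ[k] ι x)).trace = algebraMap k K' (Algebra.trace k K x) := by
  have h := charpoly_splitting_algHom k A K' K ι x hn0 hA hK φ
  have hcard : Fintype.card (Fin (Module.finrank k K)) = n := by simp [hK]
  have : Nonempty (Fin n) := ⟨⟨0, Nat.pos_of_ne_zero hn0⟩⟩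
  have : Nonempty (Fin (Module.finrank k K)) := ⟨⟨0, Module.finrank_pos⟩⟩
  constructor
  · rw [Matrix.det_eq_sign_charpoly_coeff, h, Polynomial.coeff_map,
      Algebra.norm_eq_matrix_det (Module.finBasis k K) x, Matrix.det_eq_sign_charpoly_coeff, hcard]
    simp
  · rw [Matrix.trace_eq_neg_charpoly_coeff, h, Polynomial.coeff_map,
      Algebra.trace_eq_matrix_trace (Module.finBasis k K) x, Matrix.trace_eq_neg_charpoly_coeff,
      hcard]
    simp

end Main

end Groth.Agent.Lib.Helper1
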