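import Mathlib
import Groth.Prelude.Def_Curves
set_option autoImplicit false
universe u v w
open scoped TensorProduct
open Matrix.Module

namespace Groth.Agent.Lib.Helper1

/-- The size of a splitting matrix algebra is determined by the dimension. -/
theorem splits_size (k : Type u) [Field k] (A : Type v) [Ring A] [Algebra k A]
    [FiniteDimensional k A] (k' : Type w) [Field k'] [Algebra k k'] (n : ℕ)
    (e : k' ⊗[k] A ≃ₐ[k'] Matrix (Fin n) (Fin n) k') : Module.finrank k A = n * n := by
  have h1 : Module.finrank k' (k' ⊗[k] A) = Module.finrank k A := Module.finrank_baseChange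
  have h2 := LinearEquiv.finrank_eq e.toLinearEquiv
  rw [h1, Module.finrank_matrix] at h2
  simpa using h2

/-- If a finite extension `k'` splits a division algebra of dimension `d²` then `d ∣ [k' : k]`. -/
theorem dvd_finrank_of_splits (k : Type u) [Field k]
    (D : Type v) [DivisionRing D] [Algebra k D] [FiniteDimensional k D]
    (d : ℕ) (hd : Module.finrank k D = d ^ 2)
    (k' : Type w) [Field k'] [Algebra k k'] [FiniteDimensional k k'] (hs : Curves.Splits k D k') :
    d ∣ Module.finrank k k' := by
  obtain ⟨n, hn, ⟨e⟩⟩ := hs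
  have hnd : n = d := by
    have h := splits_size k D k' n e
    rw [hd, sq] at h
    exact (Nat.mul_self_inj.mp h).symm
  subst hnd
  -- the `D`-module structure on `V = k'^n`
  let ρ : D →ₐ[k] Matrix (Fin n) (Fin n) k' :=
    (e.restrictScalars k).toAlgHom.comp Algebra.TensorProduct.includeRight
  let _ : Module D (Fin n → k') := Module.compHom _ (ρ : D →+* Matrix (Fin n) (Fin n) k')
  have : IsScalarTower k D (Fin n → k') := ⟨fun c x v => by
    change ρ (c • x) • v = c • (ρ x • v)
    rw [map_smul, smul_assoc]⟩
  have h1 := Module.finrank_mul_finrank k D (Fin n → k')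
  have h2 : Module.finrank k (Fin n → k') = n * Module.finrank k k' := by
    rw [Module.finrank_pi_fintype]; simp
  rw [hd, h2, sq, mul_assoc] at h1
  have hn0 : 0 < n := Nat.pos_of_ne_zero hn
  have h3 := Nat.eq_of_mul_eq_mul_left hn0 h1
  exact ⟨_, h3.symm⟩

end Groth.Agent.Lib.Helper1
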