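import Groth.Agent.Lib.Helper1.CSA.Centralizer
import Mathlib.LinearAlgebra.FiniteDimensional.Lemmas

set_option autoImplicit false
universe u v w
open scoped TensorProduct
open MulOpposite

namespace Groth.Agent.Lib.Helper1

section

variable {k : Type u} [Field k] {A : Type v} [Ring A] [Algebra k A]
  [Algebra.IsCentral k A] [IsSimpleRing A] [FiniteDimensional k A]
  (B : Subalgebra k A) [IsSimpleRing B] [Algebra.IsCentral k B]

theorem tensor_centralizer_bijective :
    Function.Bijective (Algebra.TensorProduct.lift B.val
      (Subalgebra.centralizer k (B : Set A)).val (fun x y => y.2 x.1 x.2)) := by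
  set μ := Algebra.TensorProduct.lift B.val
      (Subalgebra.centralizer k (B : Set A)).val (fun x y => y.2 x.1 x.2) with hμ
  have hC : IsSimpleRing (Subalgebra.centralizer k (B : Set A)) := isSimpleRing_centralizer B
  have hBfin : FiniteDimensional k B := inferInstance
  have h1 : IsSimpleRing (Subalgebra.centralizer k (B : Set A) ⊗[k] B) :=
    isSimpleRing_tensor_of_isCentral_of_isSimpleRing _ B
  have h2 : IsSimpleRing (B ⊗[k] Subalgebra.centralizer k (B : Set A)) :=
    IsSimpleRing.of_ringEquiv (Algebra.TensorProduct.comm k _ B).toRingEquiv h1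
  have hinj : Function.Injective μ := RingHom.injective μ.toRingHom
  have hdim : Module.finrank k (B ⊗[k] Subalgebra.centralizer k (B : Set A)) =
      Module.finrank k A := by
    rw [Module.finrank_tensorProduct, ← finrank_eq_mul_finrank_centralizer B]
  exact ⟨hinj, (LinearMap.injective_iff_surjective_of_finrank_eq_finrank
    (f := μ.toLinearMap) hdim).mp hinj⟩

end

end Groth.Agent.Lib.Helper1
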