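import Mathlib.RingTheory.TwoSidedIdeal.Operations
import Mathlib.RingTheory.TensorProduct.Basic
import Mathlib.Algebra.Central.Defs
import Mathlib.Algebra.Central.Basic
import Mathlib.LinearAlgebra.TensorProduct.Finiteness

set_option autoImplicit false
universe u v w
open scoped TensorProduct

namespace Groth.Agent.Lib.Helper1

section TensorIdeal

variable {k : Type u} [Field k] {A : Type v} [Ring A] [Algebra k A]
  {K : Type w} [DivisionRing K] [Algebra k K]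

/-- The two-sided ideal of `A ⊗ K` generated by the pure tensors `a ⊗ 1` lying in `I`. -/
def tensorGen (I : TwoSidedIdeal (A ⊗[k] K)) : TwoSidedIdeal (A ⊗[k] K) :=
  TwoSidedIdeal.span ((fun a : A => a ⊗ₜ[k] (1 : K)) '' {a : A | a ⊗ₜ[k] (1 : K) ∈ I})

theorem tensorGen_le (I : TwoSidedIdeal (A ⊗[k] K)) : tensorGen I ≤ I := by
  refine TwoSidedIdeal.span_le.mpr ?_
  rintro _ ⟨a, ha, rfl⟩
  exact ha

theorem sum_tmul_mul_one_tmul (s : Finset ℕ) (a : ℕ → A) (c : ℕ → K) (d : K) :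
    (∑ i ∈ s, a i ⊗ₜ[k] c i) * ((1 : A) ⊗ₜ[k] d) = ∑ i ∈ s, a i ⊗ₜ[k] (c i * d) := by
  rw [Finset.sum_mul]
  refine Finset.sum_congr rfl fun i _ => ?_
  rw [Algebra.TensorProduct.tmul_mul_tmul, mul_one]

theorem one_tmul_mul_sum_tmul (s : Finset ℕ) (a : ℕ → A) (c : ℕ → K) (d : K) :
    ((1 : A) ⊗ₜ[k] d) * (∑ i ∈ s, a i ⊗ₜ[k] c i) = ∑ i ∈ s, a i ⊗ₜ[k] (d * c i) := by
  rw [Finset.mul_sum]
  refine Finset.sum_congr rfl fun i _ => ?_
  rw [Algebra.TensorProduct.tmul_mul_tmul, one_mul]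

variable [Algebra.IsCentral k K]

theorem sum_tmul_mem_tensorGen (I : TwoSidedIdeal (A ⊗[k] K)) :
    ∀ (n : ℕ) (s : Finset ℕ) (a : ℕ → A) (c : ℕ → K), s.card = n →
      ∑ i ∈ s, a i ⊗ₜ[k] c i ∈ I → ∑ i ∈ s, a i ⊗ₜ[k] c i ∈ tensorGen I := by
  intro n
  induction n using Nat.strong_induction_on with
  | _ n ih =>
  intro s a c hs hx
  -- Step 1: a zero coefficient
  have step1 : ∀ (a : ℕ → A) (c : ℕ → K), (∃ i ∈ s, c i = 0) →
      ∑ i ∈ s, a i ⊗ₜ[k] c i ∈ I → ∑ i ∈ s, a i ⊗ₜ[k] c i ∈ tensorGen I := by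
    rintro a c ⟨i, his, hci⟩ hx
    have h0 : a i ⊗ₜ[k] c i = 0 := by rw [hci, TensorProduct.tmul_zero]
    rw [← Finset.sum_erase s h0] at hx ⊢
    refine ih (n - 1) ?_ (s.erase i) a c ?_ hx
    · have : 0 < s.card := Finset.card_pos.mpr ⟨i, his⟩
      omega
    · rw [Finset.card_erase_of_mem his, hs]
  by_cases hzero : ∃ i ∈ s, c i = 0
  · exact step1 a c hzero hx
  push Not at hzero
  rcases s.eq_empty_or_nonempty with rfl | ⟨i₀, hi₀⟩
  · simpa using (tensorGen I).zero_mem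
  -- normalise
  set u := c i₀ with hu
  have hu0 : u ≠ 0 := hzero i₀ hi₀
  set c' : ℕ → K := fun i => c i * u⁻¹ with hc'
  have hx' : ∑ i ∈ s, a i ⊗ₜ[k] c' i ∈ I := by
    rw [← sum_tmul_mul_one_tmul]
    exact I.mul_mem_right _ _ hx
  suffices h : ∑ i ∈ s, a i ⊗ₜ[k] c' i ∈ tensorGen I by
    have := (tensorGen I).mul_mem_right _ ((1 : A) ⊗ₜ[k] u) h
    rw [sum_tmul_mul_one_tmul] at this
    convert this using 2 with i hi
    simp [hc', mul_assoc, inv_mul_cancel₀ hu0]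
  have hc'i₀ : c' i₀ = 1 := by simp [hc', ← hu, mul_inv_cancel₀ hu0]
  by_cases hcentral : ∀ i ∈ s, c' i ∈ Set.range (algebraMap k K)
  · -- Sub-case A
    choose! r hr using hcentral
    have : ∑ i ∈ s, a i ⊗ₜ[k] c' i = (∑ i ∈ s, r i • a i) ⊗ₜ[k] (1 : K) := by
      rw [TensorProduct.sum_tmul]
      refine Finset.sum_congr rfl fun i hi => ?_
      rw [← hr i hi, TensorProduct.smul_tmul, Algebra.algebraMap_eq_smul_one]
    rw [this] at hx' ⊢
    exact TwoSidedIdeal.subset_span ⟨_, hx', rfl⟩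
  · -- Sub-case B
    push Not at hcentral
    obtain ⟨j, hjs, hj⟩ := hcentral
    have : ∃ d : K, d * c' j ≠ c' j * d := by
      by_contra hcon
      push Not at hcon
      apply hj
      have hmem : c' j ∈ Subalgebra.center k K := by
        rw [Subalgebra.mem_center_iff]
        intro d
        exact hcon d
      have := Algebra.IsCentral.out (K := k) (D := K) hmem
      exact Algebra.mem_bot.mp this
    obtain ⟨d, hd⟩ := this
    have hd0 : d ≠ 0 := by
      rintro rfl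
      simp at hd
    set e : ℕ → K := fun i => d * c' i * d⁻¹ - c' i with he
    have hy : ∑ i ∈ s, a i ⊗ₜ[k] e i ∈ I := by
      have h1 : ((1 : A) ⊗ₜ[k] d) * (∑ i ∈ s, a i ⊗ₜ[k] c' i) * ((1 : A) ⊗ₜ[k] d⁻¹) ∈ I :=
        I.mul_mem_right _ _ (I.mul_mem_left _ _ hx')
      have h2 := I.sub_mem h1 hx'
      rw [one_tmul_mul_sum_tmul, sum_tmul_mul_one_tmul, ← Finset.sum_sub_distrib] at h2
      convert h2 using 2 with i hi
      rw [he, TensorProduct.tmul_sub]
    have hei₀ : e i₀ = 0 := by simp [he, hc'i₀, mul_inv_cancel₀ hd0]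
    have hej : e j ≠ 0 := by
      intro h
      apply hd
      have : d * c' j * d⁻¹ = c' j := sub_eq_zero.mp h
      calc d * c' j = d * c' j * d⁻¹ * d := by rw [mul_assoc _ d⁻¹, inv_mul_cancel₀ hd0, mul_one]
        _ = c' j * d := by rw [this]
    have hyG : ∑ i ∈ s, a i ⊗ₜ[k] e i ∈ tensorGen I := step1 a e ⟨i₀, hi₀, hei₀⟩ hy
    set w : K := (e j)⁻¹ * c' j with hw
    set g : ℕ → K := fun i => c' i - e i * w with hg
    have hz : ∑ i ∈ s, a i ⊗ₜ[k] g i ∈ I := by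
      have h1 := I.mul_mem_right _ ((1 : A) ⊗ₜ[k] w) hy
      have h2 := I.sub_mem hx' h1
      rw [sum_tmul_mul_one_tmul, ← Finset.sum_sub_distrib] at h2
      convert h2 using 2 with i hi
      rw [hg, TensorProduct.tmul_sub]
    have hgj : g j = 0 := by
      simp only [hg, hw]
      rw [← mul_assoc, mul_inv_cancel₀ hej, one_mul, sub_self]
    have hzG : ∑ i ∈ s, a i ⊗ₜ[k] g i ∈ tensorGen I := step1 a g ⟨j, hjs, hgj⟩ hz
    have h1 := (tensorGen I).mul_mem_right _ ((1 : A) ⊗ₜ[k] w) hyG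
    have h2 := (tensorGen I).add_mem hzG h1
    rw [sum_tmul_mul_one_tmul, ← Finset.sum_add_distrib] at h2
    convert h2 using 2 with i hi
    rw [hg, ← TensorProduct.tmul_add, sub_add_cancel]

theorem eq_tensorGen (I : TwoSidedIdeal (A ⊗[k] K)) : I = tensorGen I := by
  refine le_antisymm ?_ (tensorGen_le I)
  intro x hx
  obtain ⟨n, a, c, rfl⟩ := TensorProduct.exists_sum_tmul_eq x
  -- reindex by ℕ
  let a' : ℕ → A := fun i => if h : i < n then a ⟨i, h⟩ else 0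
  let c' : ℕ → K := fun i => if h : i < n then c ⟨i, h⟩ else 0
  have e : ∑ j, a j ⊗ₜ[k] c j = ∑ i ∈ Finset.range n, a' i ⊗ₜ[k] c' i := by
    rw [Finset.sum_range]
    refine Finset.sum_congr rfl fun i _ => ?_
    simp [a', c']
  rw [e] at hx ⊢
  exact sum_tmul_mem_tensorGen I _ _ a' c' rfl hx

end TensorIdeal

end Groth.Agent.Lib.Helper1
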